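import Cfsg.Agent.VAN.C.SW
import Cfsg.Agent.VAN.HC.All

/-!
# S4942: the Harish-Chandra method for the Weyl groups of types `B_{k+2}`, `D_{k+2}` (helper91)

`vanA`, `vanB` (type `B`), `vanD` (type `D`) : `Van3 S` from three elements with the properties of `notes/VAN/plan2.md`.
-/

set_option autoImplicit false
set_option linter.unusedSectionVars false
set_option maxHeartbeats 400000

namespace Cfsg.Agent.VAN.C

open CoxeterSystem Cfsg Cfsg.Agent.ChevalleyStructure.CoxeterGeom Cfsg.Agent.Tits.Roots Cfsg.Agent.Tits.Core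
  Cfsg.Agent.Nodes.Reps Cfsg.Agent.Nodes.BNOf Cfsg.Agent.Nodes.Bruhat Cfsg.Agent.Nodes.LeviDec
  Cfsg.Agent.H215.WB Cfsg.Agent.VAN.HC
open Cfsg.Agent.H53.HC (Perm MJ Orth)
open Cfsg.Agent.Nodes.TypeD (pd)

section Gen

variable {k : ℕ} {W Y : Type*} [Group W] [Group Y] {M : CoxeterMatrix (Fin (k + 2))}
  {A : Fin (k + 2) → Fin (k + 2) → ℤ} {cs : CoxeterSystem M W} {h : IsCartan M A} {p : ℕ} {T : Subgroup Y}
  {n : Fin (k + 2) → Y} {X : (Fin (k + 2) → ℤ) → Subgroup Y} {F : Type*} [Field F]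

/-- the diagonal torus -/
structure TD (Ω : SW cs h) (T : Subgroup Y) (n : Fin (k + 2) → Y) (D : (Fin (k + 2) → Fˣ) →* Y) : Prop where
  comm : ∀ a ∈ T, ∀ b ∈ T, a * b = b * a
  mem : ∀ l, D l ∈ T
  nn : ∀ i l, (n i)⁻¹ * D l * n i = D (ac (Ω.κ (cs.simple i)) l)

/-- elliptic elements -/
structure El (cs : CoxeterSystem M W) (h : IsCartan M A) (T : Subgroup Y) (X : (Fin (k + 2) → ℤ) → Subgroup Y)
    (J : Set (Fin (k + 2))) (g : Y) : Prop where
  fpf : Fpf cs h T X J g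
  av : ∀ j ∈ J, Av cs h T X J (J \ {j}) g

variable {Ω : SW cs h} {D : (Fin (k + 2) → Fˣ) →* Y} (R : RGD cs h p T n X)

theorem TD.rp (t : TD Ω T n D) {w : W} : ∀ {x : Y}, Rp cs R.nsys w x → ∀ l, x⁻¹ * D l * x = D (ac (Ω.κ w) l) := by
  induction w using cs.simple_induction_left with
  | one =>
    intro x hx l
    rw [map_one, ac_one, mul_assoc, t.comm _ (t.mem l) _ hx.mem_of_one, inv_mul_cancel_left]
  | mul_simple_left w i ih =>
    intro x hx l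
    have h1 : Rp cs R.nsys w ((n i)⁻¹ * x) := by
      have := (rp_simple cs R.nsys i).inv.mul hx
      rwa [inv_mul_cancel_left] at this
    have h2 := ih h1 (ac (Ω.κ (cs.simple i)) l)
    rw [map_mul, ac_mul, ← h2, ← t.nn]
    group

theorem mem_WJ_univ {I : Type*} {M : CoxeterMatrix I} (cs : CoxeterSystem M W) (w : W) : w ∈ WJ cs Set.univ := by
  rw [WJ, Set.image_univ, cs.subgroup_closure_range_simple]
  trivial

theorem conj_mem_T {w : W} {x : Y} (hx : Rp cs R.nsys w x) {t : Y} (ht : t ∈ T) : x⁻¹ * t * x ∈ T := by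
  have := (Subgroup.mem_normalizer_iff.1 hx.inv.mem_normalizer t).1 ht
  rwa [inv_inv] at this

theorem lin_conj {θ : Y → ℂ} (hθ : Lin T θ) {w : W} {x : Y} (hx : Rp cs R.nsys w x) :
    Lin T fun t => θ (x⁻¹ * t * x) where
  one := by rw [mul_one, inv_mul_cancel, hθ.one]
  mul a ha b hb := by
    rw [← hθ.mul _ (conj_mem_T R hx ha) _ (conj_mem_T R hx hb)]
    congr 1
    group

theorem lin_ne {θ : Y → ℂ} (hθ : Lin T θ) {t : Y} (ht : t ∈ T) : θ t ≠ 0 := by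
  intro h0
  have h1 := hθ.mul t ht t⁻¹ (inv_mem ht)
  rw [mul_inv_cancel, hθ.one, h0, zero_mul] at h1
  exact one_ne_zero h1

variable [Finite W] [Fintype Y] (hG : GG cs h T X = ⊤) {χ : Y → ℂ} (hχ : IsIrrCharacter Y χ)

include R hG hχ

theorem pser (hT : ∀ a ∈ T, ∀ b ∈ T, a * b = b * a) {g₁ g₂ : Y} (e₁ : El cs h T X (J1 k) g₁) {J : Set (Fin (k + 2))}
    (hJ : ∀ j ∈ J, Ω.ee (sr j) (Fin.last (k + 1)) ≠ 1 ∧ Ω.ee (sr j) (Fin.last (k + 1)) ≠ -1)
    (f₂ : Fpf cs h T X J g₂) (n₁ : χ g₁ ≠ 0) (n₂ : χ g₂ ≠ 0) : ∃ θ, PSer cs h T X χ θ := by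
  obtain ⟨K, hK, ⟨α, hα⟩, hB⟩ := sup_type R hG hχ e₁.fpf n₁
  obtain ⟨K', hK', ⟨α', hα'⟩, -⟩ := sup_type R hG hχ f₂ n₂
  obtain ⟨d, -, hd, hs⟩ := Ω.chain1.shape hK fun i =>
    hB _ Set.sdiff_subset (e₁.av _ (Ω.chain1.mem i))
  obtain ⟨w, hw⟩ := Ser.mp R hG hχ hα' hα
  obtain rfl := Ω.eq_empty hK hd hs (fun j hj => hJ j (hK' hj)) hw
  exact Ser.pser R hG hχ hT hα

/-- the character of the torus is `(α, …, α)` -/
theorem cst (t : TD Ω T n D) {g₁ : Y} (e₁ : El cs h T X (J1 k) g₁) (n₁ : χ g₁ ≠ 0) {θ : Y → ℂ}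
    (hθ : PSer cs h T X χ θ) :
    ∃ w x, Rp cs R.nsys w x ∧ ∃ α : Fˣ →* ℂ, ∀ l, θ (x⁻¹ * D l * x) = α (∏ a, l a) := by
  obtain ⟨w, x, hx, hB⟩ := sup_ps R hG hχ hθ e₁.fpf n₁
  have hL := lin_conj R hθ.1 hx
  let ξ : (Fin (k + 2) → Fˣ) →* ℂ :=
    { toFun := fun l => θ (x⁻¹ * D l * x)
      map_one' := by rw [map_one]; exact hL.one
      map_mul' := fun l l' => by rw [map_mul]; exact hL.mul _ (t.mem l) _ (t.mem l') }
  have key : ∀ (b : Fin (k + 2)) (a : Fˣ), ξ (Pi.mulSingle b a) = ξ (Pi.mulSingle 0 a) := by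
    intro b a
    obtain ⟨v, hv, e⟩ := Ω.exists_inr (Equiv.swap 0 b)
    obtain ⟨y, hy⟩ := exists_rp cs R.nsys v
    have h1 := Ω.chain1.theta R t.comm (fun i => hB _ Set.sdiff_subset (e₁.av _ (Ω.chain1.mem i))) 0 (Or.inl rfl)
      (t.mem (Pi.mulSingle 0 a)) (fun j hj hj0 => by
        have h2 := t.nn j (Pi.mulSingle 0 a)
        have h3 : (j : ℕ) ≠ 0 := fun h4 => hj0 (Fin.ext h4)
        have h5 := mem_J1.1 hj
        have h7 : (j : ℕ) + 1 < k + 2 := by omega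
        rw [Ω.lt j h7, ac_inr] at h2
        have h8 : Equiv.swap j ⟨j + 1, h7⟩ 0 = 0 :=
          Equiv.swap_apply_of_ne_of_ne (fun h6 => h3 (by rw [← h6]; rfl)) fun h6 =>
            Nat.succ_ne_zero _ (congrArg Fin.val h6).symm
        have h4 : (fun c => (Pi.mulSingle 0 a : Fin (k + 2) → Fˣ) (Equiv.swap j ⟨j + 1, h7⟩ c)) =
            Pi.mulSingle 0 a := by
          funext c
          by_cases hc : c = 0
          · rw [hc, h8]
          · rw [Pi.mulSingle_eq_of_ne hc, Pi.mulSingle_eq_of_ne]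
            intro h6
            apply hc
            rw [Equiv.swap_apply_eq_iff, h8] at h6
            exact h6
        rw [h4, mul_assoc, inv_mul_eq_iff_eq_mul] at h2
        exact h2.symm) (inv_mem hv) hy.inv
    rw [inv_inv, t.rp R hy, e, ac_inr] at h1
    have h2 : (fun c => (Pi.mulSingle 0 a : Fin (k + 2) → Fˣ) (Equiv.swap 0 b c)) = Pi.mulSingle b a := by
      funext c
      by_cases hc : c = b
      · rw [hc, Equiv.swap_apply_right, Pi.mulSingle_eq_same, Pi.mulSingle_eq_same]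
      · rw [Pi.mulSingle_eq_of_ne hc, Pi.mulSingle_eq_of_ne]
        intro h6
        apply hc
        rw [Equiv.swap_apply_eq_iff, Equiv.swap_apply_left] at h6
        exact h6
    rw [h2] at h1
    exact h1
  refine ⟨w, x, hx, ξ.comp (MonoidHom.mulSingle (fun _ : Fin (k + 2) => Fˣ) 0), fun l => ?_⟩
  change ξ l = _
  rw [map_prod]
  conv_lhs => rw [← Finset.univ_prod_mulSingle l, map_prod]
  exact Finset.prod_congr rfl fun b _ => key b _

omit hG hχ in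
theorem transfer (t : TD Ω T n D) {θ : Y → ℂ} {w w' : W} {x x' : Y} (hx : Rp cs R.nsys w x) (hx' : Rp cs R.nsys w' x')
    {α : Fˣ →* ℂ} (hα : ∀ l, θ (x⁻¹ * D l * x) = α (∏ a, l a)) (l : Fin (k + 2) → Fˣ) :
    θ (x'⁻¹ * D l * x') = α (∏ a, ac (Ω.κ (w' * w⁻¹)) l a) := by
  rw [← hα, ← t.rp R (hx'.mul hx.inv)]
  congr 1
  group

omit hG hχ in
theorem triv_of {θ : Y → ℂ} {w : W} {x : Y} (hx : Rp cs R.nsys w x) {α : Fˣ →* ℂ}
    (hα : ∀ l, θ (x⁻¹ * D l * x) = α (∏ a, l a)) {e : ℕ} (he : ∀ a, α (a ^ e) = 1) {S : Subgroup Y} [hS : S.Normal]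
    (hTS : ∀ t ∈ T, t ∈ S → ∃ l c, t = D l ∧ ∏ a, l a = c ^ e) : ∀ t ∈ T, t ∈ S → θ t = 1 := by
  intro t ht hs
  obtain ⟨l, c, e1, e2⟩ := hTS (x * t * x⁻¹) (by simpa using conj_mem_T R hx.inv ht) (hS.conj_mem t hs x)
  have h1 := hα l
  rw [← e1, e2, he] at h1
  rw [← h1]
  congr 1
  group

variable {φ : W → ℂ} (hφ : IsIrrCharacter W φ) (hc : Cor cs h T X χ φ)

include hφ hc

theorem val_chain (Ω : SW cs h) {m : ℕ} (hm : m ≤ k + 1) {g : Y} {J : Set (Fin (k + 2))} (hJ : Set.range (cn m hm) = J)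
    (e : El cs h T X J g) : χ g = φ (cs.wordProd (List.ofFn (cn m hm))) := by
  have C : Chain M J (cn m hm) := Ω.chain hm (fun j hj => hJ ▸ (mem_range_cn hm).2 hj) fun _ _ j hj h1 => by
    rw [← hJ, mem_range_cn] at hj
    omega
  have h0 : J \ Set.range (cn m hm) = ∅ := by rw [hJ, Set.sdiff_self]
  have h1 := C.ellW (cs := cs) (h := h) (Set.empty_subset _) (ellW_empty _)
  rw [Set.empty_union, hJ, one_mul] at h1
  exact val_ell0 R hG hχ hφ hc (C.span (h := h) (h0 ▸ span_empty)) e.fpf h1 e.av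

omit R hG hχ hc in
theorem eq_one_of (h1 : φ 1 = 1) (hs : ∀ i, φ (cs.simple i) = 1) : φ = fun _ => 1 := by
  obtain ⟨ξ, rfl⟩ := Characters.Linear.exists_hom_of_isIrrCharacter hφ h1
  funext w
  induction w using cs.simple_induction_left with
  | one => exact h1
  | mul_simple_left w i ih =>
    have h2 := hs i
    dsimp only at h2 ih ⊢
    rw [map_mul, Units.val_mul, h2, ih, one_mul]

omit R hG hχ hc in
theorem lin_mul (h1 : φ 1 = 1) (v w : W) : φ (v * w) = φ v * φ w := by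
  obtain ⟨ξ, rfl⟩ := Characters.Linear.exists_hom_of_isIrrCharacter hφ h1
  dsimp only
  rw [map_mul, Units.val_mul]

end Gen

/-! ### type `B` -/

section TypeB

variable {k : ℕ} {W Y : Type*} [Group W] [Group Y] {cs : CoxeterSystem (CoxeterMatrix.B (k + 2)) W} {p : ℕ}
  {T : Subgroup Y} {n : Fin (k + 2) → Y} {X : (Fin (k + 2) → ℤ) → Subgroup Y} {F : Type*} [Field F]
  {D : (Fin (k + 2) → Fˣ) →* Y}

/-- all nodes except the last but one -/
abbrev J2 (k : ℕ) : Set (Fin (k + 2)) := {pd k}ᶜ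

theorem mem_J2 {j : Fin (k + 2)} : j ∈ J2 k ↔ (j : ℕ) ≠ k := by
  simp only [J2, Set.mem_compl_iff, Set.mem_singleton_iff, Fin.ext_iff, pd]

theorem last_mem_J2 : Fin.last (k + 1) ∈ J2 k := mem_J2.2 (by simp)

theorem J2_diff_range : J2 k \ Set.range (cn k (Nat.le_succ k)) = {Fin.last (k + 1)} := by
  ext j
  have := j.2
  rw [Set.mem_sdiff, mem_J2, mem_range_cn, Set.mem_singleton_iff, Fin.ext_iff, Fin.val_last]
  omega

theorem J2_diff_last : J2 k \ {Fin.last (k + 1)} = Set.range (cn k (Nat.le_succ k)) := by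
  ext j
  have := j.2
  rw [Set.mem_sdiff, mem_J2, mem_range_cn, Set.mem_singleton_iff, Fin.ext_iff, Fin.val_last]
  omega

theorem chain2 (cs : CoxeterSystem (CoxeterMatrix.B (k + 2)) W) :
    Chain (CoxeterMatrix.B (k + 2)) (J2 k) (cn k (Nat.le_succ k)) :=
  (swB cs).chain _ (fun j hj => mem_J2.2 (by omega)) fun i hi j hj h1 => by
    have h2 : j = Fin.last (k + 1) := by
      have := j.2
      rw [mem_J2] at hj
      exact Fin.ext (by rw [Fin.val_last]; omega)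
    rw [h2]
    exact B_last i hi

theorem chain3 {J : Set (Fin (k + 2))} (hJ : J ⊆ J2 k) (hl : Fin.last (k + 1) ∈ J) :
    Chain (CoxeterMatrix.B (k + 2)) J (fun _ : Fin 1 => Fin.last (k + 1)) where
  inj _ _ _ := Subsingleton.elim _ _
  mem _ := hl
  adj i j e := by omega
  far i j e := by omega
  orth _ j hj hn := by
    have h1 : j ≠ Fin.last (k + 1) := fun e => hn ⟨0, e.symm⟩
    have h2 := mem_J2.1 (hJ hj)
    have h3 := j.2
    rw [Ne, Fin.ext_iff, Fin.val_last] at h1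
    rw [(CoxeterMatrix.B (k + 2)).symmetric]
    exact B_last j (by omega)

theorem ee_J2 (cs : CoxeterSystem (CoxeterMatrix.B (k + 2)) W) : ∀ j ∈ J2 k,
    (swB cs).ee (sr j) (Fin.last (k + 1)) ≠ 1 ∧ (swB cs).ee (sr j) (Fin.last (k + 1)) ≠ -1 := by
  intro j hj
  have h1 := mem_J2.1 hj
  have h2 := j.2
  change Nodes.TypeC.ee (sr j) _ ≠ 1 ∧ Nodes.TypeC.ee (sr j) _ ≠ -1
  rw [Nodes.TypeC.ee_sr, Nodes.TypeC.bt_apply, Fin.val_last]
  split_ifs <;> omega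

theorem right_last (cs : CoxeterSystem (CoxeterMatrix.B (k + 2)) W) :
    ((swB cs).κ (cs.simple (Fin.last (k + 1)))).right = 1 := by
  change (homB cs _).right = 1
  rw [homB_simple, gen_last (by simp), SemidirectProduct.right_inl]

theorem orth_last : Orth (Nodes.TypeC.A (k + 2)) (J2 k \ {Fin.last (k + 1)}) {Fin.last (k + 1)} := by
  intro i hi j hj
  rw [J2_diff_last, mem_range_cn] at hi
  obtain rfl : j = Fin.last (k + 1) := hj
  simp only [Nodes.TypeC.A_apply, Ne, Fin.ext_iff, Fin.val_last]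
  refine ⟨by omega, ?_, ?_⟩ <;> split_ifs <;> omega

theorem span2 [Finite W] (cs : CoxeterSystem (CoxeterMatrix.B (k + 2)) W) : Span cs (J2 k) := by
  refine (chain2 cs).span (h := Nodes.TypeC.isCartan (k + 2)) ?_
  rw [J2_diff_range]
  refine (chain3 (k := k) (J := {Fin.last (k + 1)}) (by rintro _ rfl; exact last_mem_J2) rfl).span
    (h := Nodes.TypeC.isCartan (k + 2)) ?_
  rw [Set.range_const, Set.sdiff_self]
  exact span_empty

variable [Finite W] [Fintype Y] (R : RGD cs (Nodes.TypeC.isCartan (k + 2)) p T n X)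
  (hG : GG cs (Nodes.TypeC.isCartan (k + 2)) T X = ⊤) (S : Subgroup Y) [S.Normal]
  (hX : ∀ x, IsRoot cs (Nodes.TypeC.isCartan (k + 2)) x → X x ≤ S)

include R hG in
theorem mid_zero {q r : ℕ} (hq : ∀ i, Nat.card (X (sr i)) = q) (hr : r.Prime)
    (hB : ¬ r ∣ Nat.card (RGD.B cs (Nodes.TypeC.isCartan (k + 2)) T X))
    (ha : ∀ m < k + 2, ¬ r ∣ ∑ j ∈ Finset.range (m + 1), q ^ j) (hb : ∀ m < k + 2, ¬ r ∣ q + q ^ m) {g : Y}
    (hg : r ∣ orderOf g) {χ : Y → ℂ} (hχ : IsIrrCharacter Y χ) {φ : W → ℂ} (hφ : IsIrrCharacter W φ)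
    (hc : Cor cs (Nodes.TypeC.isCartan (k + 2)) T X χ φ) (h1 : φ 1 = 1) (h0 : χ g ≠ 0) {i : Fin (k + 2)}
    (hi : φ (cs.simple i) = 1) : φ = fun _ => 1 := by
  refine eq_one_of (cs := cs) hφ h1 fun j => ?_
  by_contra hj
  exact h0 (zero_mid_B R hG (q := q) (Q := q) (fun i => by rw [hq, ite_self]) hχ hφ hc h1 hi hj hr hB ha hb hg)

include R hG hX

/-- **triple A** -/
theorem vanA [Fact p.Prime] (hk : 0 < k) (t : TD (swB cs) T n D) {e : ℕ}
    (hend : ∀ a : Fˣ, ∃ s ∈ T, (∀ j : Fin (k + 2), (j : ℕ) < k → n j * s = s * n j) ∧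
      n (Fin.last (k + 1)) * s * (n (Fin.last (k + 1)))⁻¹ = s * D (Pi.mulSingle (Fin.last (k + 1)) (a ^ e)))
    (hTS : ∀ s ∈ T, s ∈ S → ∃ l c, s = D l ∧ ∏ a, l a = c ^ e)
    {g₁ g₂ g₃ : Y} (m₁ : g₁ ∈ S) (m₂ : g₂ ∈ S) (m₃ : g₃ ∈ S) (c₁ : Cover S g₁) (c₂ : Cover S g₂)
    (e₁ : El cs (Nodes.TypeC.isCartan (k + 2)) T X (J1 k) g₁) (e₂ : El cs (Nodes.TypeC.isCartan (k + 2)) T X (J2 k) g₂)
    {q r : ℕ} (hq : ∀ i, Nat.card (X (sr i)) = q) (hr : r.Prime)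
    (hB : ¬ r ∣ Nat.card (RGD.B cs (Nodes.TypeC.isCartan (k + 2)) T X))
    (ha : ∀ m < k + 2, ¬ r ∣ ∑ j ∈ Finset.range (m + 1), q ^ j) (hb : ∀ m < k + 2, ¬ r ∣ q + q ^ m)
    (o₁ : r ∣ orderOf g₃) (o₂ : p ∣ orderOf g₃) : Van3 S := by
  refine van3_of' R hG t.comm S hX m₁ m₂ m₃ c₁ c₂ (fun χ hχ n₁ n₂ => ?_) fun χ φ hχ hφ hc n₁ n₂ n₃ => ?_
  · obtain ⟨θ, hθ⟩ := pser (Ω := swB cs) R hG hχ t.comm e₁ (ee_J2 cs) e₂.fpf n₁ n₂
    obtain ⟨w, x, hx, α, hα⟩ := cst R hG hχ t e₁ n₁ hθ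
    refine ⟨θ, hθ, triv_of R hx hα (fun a => ?_) hTS⟩
    obtain ⟨w', x', hx', hB'⟩ := sup_ps R hG hχ hθ e₂.fpf n₂
    obtain ⟨s, hs, s1, s2⟩ := hend a
    have h1 := (chain3 (subset_refl _) last_mem_J2).theta R t.comm
      (fun _ => hB' _ Set.sdiff_subset (e₂.av _ last_mem_J2)) 0 (Or.inl rfl) hs (fun j hj hjl => s1 j (by
        have h2 := mem_J2.1 hj
        have h3 := j.2
        rw [Ne, Fin.ext_iff, Fin.val_last] at hjl
        omega)) (Subgroup.subset_closure ⟨_, last_mem_J2, rfl⟩) (rp_simple cs R.nsys _)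
    have hL := lin_conj R hθ.1 hx'
    rw [s2, hL.mul _ hs _ (t.mem _)] at h1
    have h2 := mul_left_cancel₀ (lin_ne hL hs) (h1.trans (mul_one _).symm)
    rw [transfer R t hx hx' hα, prod_ac] at h2
    split_ifs at h2
    · exact h2
    · rw [map_inv] at h2
      exact inv_eq_one.1 h2
  · have v₁ := val_chain R hG hχ hφ hc (swB cs) le_rfl range_cn1 e₁
    have h0 := (chain3 (k := k) (J := {Fin.last (k + 1)}) (by rintro _ rfl; exact last_mem_J2) rfl).ellW (cs := cs)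
      (h := Nodes.TypeC.isCartan (k + 2)) (Set.empty_subset _) (ellW_empty _)
    rw [Set.empty_union, Set.range_const, one_mul] at h0
    have h1 := (chain2 cs).ellW (cs := cs) (h := Nodes.TypeC.isCartan (k + 2)) (E := {Fin.last (k + 1)})
      (by rw [J2_diff_range]) (by rw [J2_diff_range]; exact h0)
    rw [← J2_diff_last, Set.union_sdiff_cancel (by rintro _ rfl; exact last_mem_J2)] at h1
    have v₂ := val_ell0 R hG hχ hφ hc (span2 cs) e₂.fpf h1 e₂.av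
    have h2 : φ 1 = 1 := by
      refine wb (α := Fin (k + 2)) (by rw [Fintype.card_fin]; omega) (swB cs).κ (swB cs).inj (swB cs).rng hφ ?_ ?_
        (v₁ ▸ n₁) (v₂ ▸ n₂)
      · rw [Fintype.card_fin]
        exact (swB cs).cyc le_rfl (Nat.succ_pos k)
      · rw [Fintype.card_fin, map_mul, SemidirectProduct.mul_right, List.ofFn_succ, List.ofFn_zero, wordProd_cons,
          wordProd_nil, mul_one, right_last, one_mul]
        exact (swB cs).cyc _ hk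
    by_cases h3 : ∃ i, φ (cs.simple i) = 1
    · obtain ⟨i, hi⟩ := h3
      exact mid_zero R hG hq hr hB ha hb o₁ hχ hφ hc h2 n₃ hi
    · exact absurd (val_sgn R hG hχ hφ hc h2
        (fun i => (Deg.lin_simple cs hφ h2 i).resolve_left fun h4 => h3 ⟨i, h4⟩) o₂) n₃

/-- **triple B**, trivial torus -/
theorem vanB (hk : 0 < k) (hT : ∀ a ∈ T, ∀ b ∈ T, a * b = b * a) (hTS : ∀ s ∈ T, s ∈ S → s = 1)
    {g₁ y u g₃ : Y} (m₁ : g₁ ∈ S) (m₂ : y * u ∈ S) (m₃ : g₃ ∈ S) (c₁ : Cover S g₁) (c₂ : Cover S (y * u))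
    (e₁ : El cs (Nodes.TypeC.isCartan (k + 2)) T X (J1 k) g₁)
    (f₂ : Fpf cs (Nodes.TypeC.isCartan (k + 2)) T X (J2 k) (y * u))
    (a₂ : ∀ j ∈ J2 k, j ≠ Fin.last (k + 1) → Av cs (Nodes.TypeC.isCartan (k + 2)) T X (J2 k) (J2 k \ {j}) (y * u))
    (hy : y ∈ LJ cs (Nodes.TypeC.isCartan (k + 2)) T X (J2 k \ {Fin.last (k + 1)}))
    (hya : ∀ z ∈ MJ cs (Nodes.TypeC.isCartan (k + 2)) X {Fin.last (k + 1)}, y * z = z * y)
    (hu : u ∈ X (sr (Fin.last (k + 1)))) (hu1 : u ≠ 1)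
    {q r : ℕ} (hq : ∀ i, Nat.card (X (sr i)) = q) (hr : r.Prime)
    (hB : ¬ r ∣ Nat.card (RGD.B cs (Nodes.TypeC.isCartan (k + 2)) T X))
    (ha : ∀ m < k + 2, ¬ r ∣ ∑ j ∈ Finset.range (m + 1), q ^ j) (hb : ∀ m < k + 2, ¬ r ∣ q + q ^ m)
    (o₁ : r ∣ orderOf g₃) : Van3 S := by
  refine van3_of' R hG hT S hX m₁ m₂ m₃ c₁ c₂ (fun χ hχ n₁ n₂ => ?_) fun χ φ hχ hφ hc n₁ n₂ n₃ => ?_
  · obtain ⟨θ, hθ⟩ := pser (Ω := swB cs) R hG hχ hT e₁ (ee_J2 cs) f₂ n₁ n₂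
    exact ⟨θ, hθ, fun s hs hs' => by rw [hTS s hs hs', hθ.1.one]⟩
  · have v₁ := val_chain R hG hχ hφ hc (swB cs) le_rfl range_cn1 e₁
    have h1 := (chain2 cs).ellW (cs := cs) (h := Nodes.TypeC.isCartan (k + 2)) (Set.empty_subset _) (ellW_empty _)
    rw [Set.empty_union, one_mul, ← J2_diff_last] at h1
    have v₂ := val_ell1 R hG hχ hφ hc (span2 cs) f₂ last_mem_J2 orth_last h1 a₂
      (one_of_unip R last_mem_J2 orth_last hy hya hu hu1)
    have h3 : ∀ w : W, k + 2 - 1 ∈ ((swB cs).κ w).right.cycleType → φ w ≠ 0 → φ 1 = 1 := fun w hw h0 => by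
      refine wb (α := Fin (k + 2)) (by rw [Fintype.card_fin]; omega) (swB cs).κ (swB cs).inj (swB cs).rng hφ ?_ ?_
        (v₁ ▸ n₁) h0
      · rw [Fintype.card_fin]
        exact (swB cs).cyc le_rfl (Nat.succ_pos k)
      · rw [Fintype.card_fin]
        exact hw
    have h2 : φ 1 = 1 := by
      by_cases h4 : φ (cs.wordProd (List.ofFn (cn k (Nat.le_succ k)))) = 0
      · refine h3 (cs.wordProd (List.ofFn (cn k (Nat.le_succ k))) * cs.simple (Fin.last (k + 1))) ?_ fun h5 => n₂ ?_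
        · rw [map_mul, SemidirectProduct.mul_right, right_last, mul_one]
          exact (swB cs).cyc _ hk
        · rw [v₂, h4, h5, add_zero, zero_div]
      · exact h3 _ ((swB cs).cyc _ hk) h4
    refine mid_zero R hG hq hr hB ha hb o₁ hχ hφ hc h2 n₃ (i := Fin.last (k + 1)) ?_
    refine (Deg.lin_simple cs hφ h2 _).resolve_right fun h4 => n₂ ?_
    rw [v₂, lin_mul hφ h2, h4, mul_neg, mul_one, add_neg_cancel, zero_div]

end TypeB

/-! ### type `D` -/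

section TypeD

variable {k : ℕ} {W Y : Type*} [Group W] [Group Y] {cs : CoxeterSystem (Nodes.TypeD.M k) W} {p : ℕ}
  {T : Subgroup Y} {n : Fin (k + 2) → Y} {X : (Fin (k + 2) → ℤ) → Subgroup Y} {F : Type*} [Field F]
  {D : (Fin (k + 2) → Fˣ) →* Y}

/-- all nodes except the last two -/
abbrev J3 (k : ℕ) : Set (Fin (k + 2)) := {pd k, Fin.last (k + 1)}ᶜ

theorem mem_J3 {j : Fin (k + 2)} : j ∈ J3 k ↔ (j : ℕ) < k := by
  have := j.2
  simp only [J3, Set.mem_compl_iff, Set.mem_insert_iff, Set.mem_singleton_iff, Fin.ext_iff, pd, Fin.val_last]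
  omega

theorem range_cn3 : Set.range (cn k (Nat.le_succ k)) = J3 k := by
  ext j
  rw [mem_range_cn, mem_J3]

variable [Finite W] [Fintype Y] (R : RGD cs (Nodes.TypeD.isCartan k) p T n X)
  (hG : GG cs (Nodes.TypeD.isCartan k) T X = ⊤) (S : Subgroup Y) [S.Normal]
  (hX : ∀ x, IsRoot cs (Nodes.TypeD.isCartan k) x → X x ≤ S)

include R hG hX

/-- **the triple for type `D`** -/
theorem vanD [Fact p.Prime] (hk : 0 < k) (t : TD (swD cs) T n D)
    (hTS : ∀ s ∈ T, s ∈ S → ∃ l c, s = D l ∧ ∏ a, l a = c ^ 2)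
    {g₁ g₂ g₃ : Y} (m₁ : g₁ ∈ S) (m₂ : g₂ ∈ S) (m₃ : g₃ ∈ S) (c₁ : Cover S g₁) (c₂ : Cover S g₂) (c₃ : Cover S g₃)
    (e₁ : El cs (Nodes.TypeD.isCartan k) T X (J1 k) g₁) (e₂ : El cs (Nodes.TypeD.isCartan k) T X (J3 k) g₂)
    (a₃ : Av cs (Nodes.TypeD.isCartan k) T X Set.univ (J1 k) g₃) (o₂ : p ∣ orderOf g₃) : Van3 S := by
  refine van3_of R hG S hX m₁ m₂ m₃ c₁ c₂ c₃ (fun χ hχ n₁ n₂ n₃ => ?_) fun χ φ hχ hφ hc n₁ n₂ n₃ => ?_
  · obtain ⟨θ, hθ⟩ := pser (Ω := swD cs) R hG hχ t.comm e₁ (J := J3 k) (fun j hj => by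
      rw [(swD cs).ee_lt (mem_J3.1 hj)]
      exact ⟨by decide, by decide⟩) e₂.fpf n₁ n₂
    obtain ⟨w, x, hx, α, hα⟩ := cst R hG hχ t e₁ n₁ hθ
    refine ⟨θ, hθ, triv_of R hx hα (fun a => ?_) hTS⟩
    by_contra hne
    obtain ⟨w', x', hx', hB'⟩ := sup_ps R hG hχ hθ (fpf_univ R hG g₃) n₃
    refine hB' _ (Set.subset_univ _) a₃ (w * w'⁻¹) (mem_WJ_univ cs _)
      ⟨fun _ h => h.elim, fun v hv _ => (swD cs).mem_WJ1 ?_⟩
    obtain ⟨y, hy⟩ := exists_rp cs R.nsys v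
    funext c
    by_contra hc
    rw [Pi.one_apply] at hc
    apply hne
    have h1 := hv y hy (x' * x⁻¹ * D (Pi.mulSingle c a) * (x' * x⁻¹)⁻¹) (by
      simpa using conj_mem_T R (hx'.mul hx.inv).inv (t.mem (Pi.mulSingle c a)))
    have h2 := t.rp R (((hx.mul hx'.inv).mul hy).mul (hx.mul hx'.inv).inv) (Pi.mulSingle c a)
    have h3 := hα (ac ((swD cs).κ (w * w'⁻¹ * v * (w * w'⁻¹)⁻¹)) (Pi.mulSingle c a))
    rw [prod_ac, if_neg hc, ← h2] at h3
    have h4 := hα (Pi.mulSingle c a)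
    rw [Finset.prod_pi_mulSingle', if_pos (Finset.mem_univ _)] at h4
    have h5 : α a⁻¹ = α a := by
      rw [← h3, ← h4]
      refine Eq.trans ?_ (h1.trans ?_)
      · congr 1
        group
      · congr 1
        group
    rw [sq, map_mul]
    conv_lhs => rw [← h5]
    conv_lhs => arg 1; rw [h5]
    rw [← map_mul, mul_inv_cancel, map_one]
  · have v₁ := val_chain R hG hχ hφ hc (swD cs) le_rfl range_cn1 e₁
    have v₂ := val_chain R hG hχ hφ hc (swD cs) _ range_cn3 e₂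
    have h2 : φ 1 = 1 := by
      refine wb (α := Fin (k + 2)) (by rw [Fintype.card_fin]; omega) (swD cs).κ (swD cs).inj (swD cs).rng hφ ?_ ?_
        (v₁ ▸ n₁) (v₂ ▸ n₂)
      · rw [Fintype.card_fin]
        exact (swD cs).cyc le_rfl (Nat.succ_pos k)
      · rw [Fintype.card_fin]
        exact (swD cs).cyc _ hk
    have key : ∀ (m : ℕ) (hm : m < k + 1), φ (cs.simple ⟨m, by omega⟩) = φ (cs.simple 0) := by
      intro m
      induction m with
      | zero => intro _; rfl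
      | succ m ih =>
        intro hm
        rw [← ih (by omega)]
        exact (Deg.lin_eq cs hφ h2 ((swD cs).adj ⟨m, by omega⟩ ⟨m + 1, by omega⟩ rfl (by simp only; omega))).symm
    have h3 : ∀ i, φ (cs.simple i) = φ (cs.simple 0) := by
      intro i
      by_cases hi : (i : ℕ) < k + 1
      · exact key i hi
      · rw [← key (k - 1) (by omega)]
        refine Deg.lin_eq cs hφ h2 ?_
        have := i.2
        rw [Nodes.TypeD.M_apply, if_neg (by rw [Fin.ext_iff]; simp only; omega),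
          if_pos (by unfold Nodes.TypeD.Adj; simp only; omega)]
    rcases Deg.lin_simple cs hφ h2 0 with h4 | h4
    · exact eq_one_of (cs := cs) hφ h2 fun i => (h3 i).trans h4
    · exact absurd (val_sgn R hG hχ hφ hc h2 (fun i => (h3 i).trans h4) o₂) n₃

end TypeD

end Cfsg.Agent.VAN.C
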