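import Cfsg.Agent.H410.OZ.OmE
import Cfsg.Agent.H644.OZ.Dg
import Cfsg.Agent.LieClassical.OrthFinite

/-!
# S4942: the third element of the triple of `Ω⁺_{2n}(q)` (helper78)

`g = x u` with `x` a rotation of an anisotropic plane `A` and `u` a Siegel element of the complement of `A`.  The element `g` is
`p`-singular, fixes the first hyperbolic pair and leaves no maximal totally singular subspace invariant.
-/

set_option autoImplicit false

namespace Cfsg.Agent.VAN.C

open QuadraticMap Cfsg.Agent.LieClassical Cfsg.Agent.LieClassical.OrthCore Cfsg.Agent.LieClassical.OrthForms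
open Cfsg.Agent.TitsThree Cfsg.Agent.TitsThree.WittFrame Cfsg.Agent.TitsThree.KSideO Cfsg.Agent.TitsThree.WBridge
  Cfsg.Agent.Nodes.WittInst Cfsg.Agent.H644.OZ

namespace GPlus

theorem exists_noroot (F : Type*) [Field F] [Finite F] : ∃ d : F, ∀ x : F, x * x + x + d ≠ 0 := by
  by_contra h
  push Not at h
  have h1 : Function.Surjective fun x : F => -(x * x + x) := fun d => by
    obtain ⟨x, hx⟩ := h d
    exact ⟨x, by linear_combination -hx⟩
  have h2 := Finite.injective_iff_surjective.2 h1 (a₁ := 0) (a₂ := -1) (by ring)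
  exact one_ne_zero (neg_eq_zero.1 h2.symm)

section abs

variable {F V : Type*} [Field F] [AddCommGroup V] [Module F V] {Q : QuadraticForm F V}

/-- an isometry which fixes the hyperbolic pairs moved by a diagonal element commutes with it -/
theorem comm_dg {n : ℕ} (Fr : Frame (HO Q) (Fin n)) {g : V ≃ₗ[F] V} (hg : g ∈ O Q) (s : Fin n × Bool → Fˣ)
    (h : ∀ x, s x = 1 ∨ (g (Fr.b x) = Fr.b x ∧ g (Fr.b (neg x)) = Fr.b (neg x))) : Commute (dg Fr s 1) g := by
  refine LinearEquiv.ext fun v => ?_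
  show dg Fr s 1 (g v) = g (dg Fr s 1 v)
  rw [dg_apply, dg_apply, map_add, map_smul, map_sum]
  congr 1
  refine Finset.sum_congr rfl fun x _ => ?_
  rcases h x with h1 | ⟨h1, h2⟩
  · rw [h1, sub_self, zero_mul, zero_mul, zero_smul, map_zero]
  · rw [map_smul, h1, cf_apply, cf_apply, HO_h, HO_h, ← polar_map hg v, h2]

/-- the configuration -/
structure Cf (Q : QuadraticForm F V) (d : F) (a b e w : V) : Prop where
  nr : ∀ x : F, x * x + x + d ≠ 0
  qa : Q a = 1
  qb : Q b = d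
  ab : polar Q a b = 1
  qe : Q e = 0
  ew : polar Q e w = 0
  ae : polar Q a e = 0
  be : polar Q b e = 0
  aw : polar Q a w = 0
  bw : polar Q b w = 0

variable {d : F} {a b e w : V} (C : Cf Q d a b e w)

include C

theorem Cf.d0 : d ≠ 0 := fun h => C.nr 0 (by rw [h]; ring)

theorem Cf.qa0 : Q a ≠ 0 := by rw [C.qa]; exact one_ne_zero

theorem Cf.qb0 : Q b ≠ 0 := by rw [C.qb]; exact C.d0

theorem Cf.four : d⁻¹ - 4 ≠ 0 := by
  intro h
  have h1 : d⁻¹ * d = 1 := inv_mul_cancel₀ C.d0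
  have h2 : (2 : F) ≠ 0 := fun h2 => one_ne_zero (α := F) (by linear_combination -h1 + d * h + 2 * d * h2)
  have h3 : (2 : F)⁻¹ * 2 = 1 := inv_mul_cancel₀ h2
  refine C.nr (-2⁻¹) (mul_left_cancel₀ (pow_ne_zero 2 h2) ?_)
  linear_combination (2⁻¹ * 2 - 1) * h3 + h1 - d * h

theorem Cf.aniso {s t : F} (h : Q (s • a + t • b) = 0) : s = 0 ∧ t = 0 := by
  rw [Q_add, QuadraticMap.map_smul, QuadraticMap.map_smul, polar_smul_left, polar_smul_right, C.qa, C.qb, C.ab] at h
  simp only [smul_eq_mul] at h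
  have ht : t = 0 := by
    by_contra ht
    refine C.nr (s / t) ?_
    field_simp
    linear_combination h
  refine ⟨?_, ht⟩
  rw [ht] at h
  exact mul_self_eq_zero.1 (by linear_combination h)

/-- the product of the two reflections -/
def Cf.r : V ≃ₗ[F] V := refl Q a C.qa0 * refl Q b C.qb0

/-- the rotation -/
def Cf.x : V ≃ₗ[F] V := C.r * C.r

/-- the unipotent part -/
def Cf.u : V ≃ₗ[F] V := siegel Q e w C.qe C.ew

theorem Cf.r_mem : C.r ∈ O Q := mul_mem (refl_mem_O _) (refl_mem_O _)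

theorem Cf.x_mem : C.x ∈ O Q := mul_mem C.r_mem C.r_mem

theorem Cf.g_mem : C.x * C.u ∈ O Q := mul_mem C.x_mem (siegel_mem_O _ _)

theorem Cf.r_apply (v : V) :
    C.r v = v + (d⁻¹ * polar Q b v - polar Q a v) • a + (-(d⁻¹ * polar Q b v)) • b := by
  show refl Q a C.qa0 (refl Q b C.qb0 v) = _
  rw [refl_apply, refl_apply, polar_sub_right, polar_smul_right, C.qa, C.qb, C.ab]
  simp only [smul_eq_mul, inv_one]
  module

theorem Cf.x_sub (v : V) : ∃ s t : F, C.x v = v + (s • a + t • b) := by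
  refine ⟨(d⁻¹ * polar Q b v - polar Q a v) + (d⁻¹ * polar Q b (C.r v) - polar Q a (C.r v)),
    -(d⁻¹ * polar Q b v) + -(d⁻¹ * polar Q b (C.r v)), ?_⟩
  show C.r (C.r v) = _
  rw [C.r_apply (C.r v)]
  nth_rewrite 1 [C.r_apply v]
  module

theorem Cf.x_fix {v : V} (h1 : polar Q a v = 0) (h2 : polar Q b v = 0) : C.x v = v := by
  have h3 : C.r v = v := by
    rw [C.r_apply, h1, h2]
    simp
  show C.r (C.r v) = v
  rw [h3, h3]

theorem Cf.r_A (s t : F) : C.r (s • a + t • b) = ((d⁻¹ - 1) * s + t) • a + (-(d⁻¹ * s) - t) • b := by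
  have h1 : d⁻¹ * d = 1 := inv_mul_cancel₀ C.d0
  rw [C.r_apply]
  simp only [polar_add_right, polar_smul_right, polar_self', polar_comm Q b a, C.ab, C.qa, C.qb, smul_eq_mul]
  match_scalars
  · linear_combination 2 * t * h1
  · linear_combination -2 * t * h1

theorem Cf.x_inj {s t : F} (h : C.x (s • a + t • b) = s • a + t • b) : s = 0 ∧ t = 0 := by
  have h1 : C.r (C.r (s • a + t • b)) = s • a + t • b := h
  rw [C.r_A, C.r_A] at h1
  obtain ⟨h2, h3⟩ := C.aniso (s := (d⁻¹ - 1) * ((d⁻¹ - 1) * s + t) + (-(d⁻¹ * s) - t) - s)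
    (t := -(d⁻¹ * ((d⁻¹ - 1) * s + t)) - (-(d⁻¹ * s) - t) - t) (by
      rw [sub_smul _ s, sub_smul _ t, sub_add_sub_comm, h1, sub_self, map_zero])
  have h4 : t = (2 - d⁻¹) * s := mul_left_cancel₀ (inv_ne_zero C.d0) (by linear_combination -h3)
  have h5 : s = 0 := (mul_eq_zero.1 (show (d⁻¹ - 4) * s = 0 by linear_combination h2 - (d⁻¹ - 2) * h4)).resolve_left C.four
  exact ⟨h5, by rw [h4, h5, mul_zero]⟩

theorem Cf.u_fix {v : V} (h1 : polar Q e v = 0) (h2 : polar Q w v = 0) : C.u v = v := by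
  rw [Cf.u, siegel_apply, h1, h2]
  simp

theorem Cf.g_apply (v : V) :
    (C.x * C.u) v = C.x v + polar Q e v • w - (polar Q w v + Q w * polar Q e v) • e := by
  show C.x (C.u v) = _
  rw [Cf.u, siegel_apply, map_sub, map_sub, map_add, map_smul, map_smul, map_smul, C.x_fix C.aw C.bw, C.x_fix C.ae C.be]
  module

theorem Cf.g_fix {v : V} (h1 : polar Q a v = 0) (h2 : polar Q b v = 0) (h3 : polar Q e v = 0) (h4 : polar Q w v = 0) :
    (C.x * C.u) v = v := by
  rw [C.g_apply, C.x_fix h1 h2, h3, h4]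
  simp

theorem Cf.g_A (s t : F) : (C.x * C.u) (s • a + t • b) = C.x (s • a + t • b) := by
  rw [C.g_apply]
  simp only [polar_add_right, polar_smul_right, polar_comm Q e a, polar_comm Q e b, polar_comm Q w a, polar_comm Q w b,
    C.ae, C.be, C.aw, C.bw, smul_zero, add_zero, mul_zero, zero_smul, sub_zero]

/-- the characteristic divides the order -/
theorem Cf.dvd {f z : V} (h1 : polar Q a f = 0) (h2 : polar Q b f = 0) (h3 : polar Q e f = 1) (h4 : polar Q z e = 0)
    (h5 : polar Q z w = 1) (p : ℕ) [CharP F p] : p ∣ orderOf (C.x * C.u) := by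
  have key : ∀ n : ℕ, polar Q a (((C.x * C.u) ^ n) f) = 0 ∧ polar Q b (((C.x * C.u) ^ n) f) = 0 ∧
      polar Q e (((C.x * C.u) ^ n) f) = 1 ∧ polar Q z (((C.x * C.u) ^ n) f) = polar Q z f + n := by
    intro n
    induction n with
    | zero => exact ⟨h1, h2, h3, by simp⟩
    | succ n ih =>
      obtain ⟨k1, k2, k3, k4⟩ := ih
      have h6 : ((C.x * C.u) ^ (n + 1)) f = (C.x * C.u) (((C.x * C.u) ^ n) f) := by
        rw [pow_succ']
        rfl
      rw [h6, C.g_apply, C.x_fix k1 k2]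
      simp only [polar_add_right, polar_sub_right, polar_smul_right, k1, k2, k3, k4, h4, h5, C.ae, C.be, C.aw, C.bw, C.ew,
        polar_self_of_sing C.qe, smul_eq_mul]
      refine ⟨by ring, by ring, by ring, ?_⟩
      push_cast
      ring
  have h6 := (key (orderOf (C.x * C.u))).2.2.2
  rw [pow_orderOf_eq_one] at h6
  exact (CharP.cast_eq_zero_iff F p _).1 (left_eq_add.1 h6)

/-- no invariant maximal totally singular subspace -/
theorem Cf.not_inv (U : Submodule F V) (hU : ∀ v, v ∈ U ↔ ∀ y ∈ U, polar Q v y = 0) (hs : ∀ v ∈ U, Q v = 0) :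
    ¬ ∀ v ∈ U, (C.x * C.u) v ∈ U := by
  intro hg
  have hy : ∀ v ∈ U, (C.x * C.u) v - v ∈ U := fun v hv => U.sub_mem (hg v hv) hv
  have hw := C.g_apply w
  have he := C.g_fix C.ae C.be (polar_self_of_sing C.qe) (by rw [polar_comm]; exact C.ew)
  rw [C.x_fix C.aw C.bw, C.ew] at hw
  have hfix : ∀ v ∈ U, C.x v = v := by
    intro v hv
    obtain ⟨s1, t1, e1⟩ := C.x_sub v
    obtain ⟨s2, t2, e2⟩ := C.x_sub (s1 • a + t1 • b)
    obtain ⟨s3, t3, e3⟩ := C.x_sub (s2 • a + t2 • b)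
    have m1 := hy v hv
    have m2 := hy _ m1
    have m3 := hy _ m2
    have f1 : (C.x * C.u) v - v = (s1 • a + t1 • b) + polar Q e v • w - (polar Q w v + Q w * polar Q e v) • e := by
      rw [C.g_apply, e1]
      module
    have f2 : (C.x * C.u) ((C.x * C.u) v - v) - ((C.x * C.u) v - v) =
        (s2 • a + t2 • b) - (polar Q e v * polar Q w w) • e := by
      rw [f1, map_sub, map_add, C.g_A, map_smul, map_smul, hw, he, e2]
      module
    have f3 : (C.x * C.u) ((s2 • a + t2 • b) - (polar Q e v * polar Q w w) • e) -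
        ((s2 • a + t2 • b) - (polar Q e v * polar Q w w) • e) = s3 • a + t3 • b := by
      rw [map_sub, C.g_A, map_smul, he, e3]
      module
    rw [f2, f3] at m3
    obtain ⟨rfl, rfl⟩ := C.aniso (hs _ m3)
    obtain ⟨rfl, rfl⟩ := C.x_inj (s := s2) (t := t2) (by rw [e3]; simp)
    obtain ⟨rfl, rfl⟩ := C.x_inj (s := s1) (t := t1) (by rw [e2]; simp)
    rw [e1]
    simp
  obtain ⟨s, t, e1⟩ := C.x_sub a
  have m1 : s • a + t • b ∈ U := by
    rw [hU]
    intro y hy
    have h1 := polar_map C.x_mem a y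
    rw [hfix y hy, e1, polar_add_left] at h1
    exact add_eq_left.1 h1
  obtain ⟨rfl, rfl⟩ := C.aniso (hs _ m1)
  exact one_ne_zero (C.x_inj (s := 1) (t := 0) (by simpa using e1)).1

end abs

end GPlus

open GPlus

/-- **The third element for `Ω⁺_{2n}(q)`, `n ≥ 4`** -/
theorem exists_g3_plus (F : Type*) [Field F] [Finite F] (p : ℕ) [CharP F p] {k : ℕ} (hk : 2 ≤ k) :
    ∃ g ∈ E (plusForm (k + 2) F), p ∣ orderOf g ∧
      (∀ a : Fˣ, Commute (dg (toFrame (wplus (k + 2) F)) (lam (Pi.mulSingle 0 a)) 1) g) ∧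
      ∀ U : Submodule F (Fin (k + 2) ⊕ Fin (k + 2) → F), (∀ v, v ∈ U ↔ ∀ w ∈ U, polar (plusForm (k + 2) F) v w = 0) →
        (∀ v ∈ U, plusForm (k + 2) F v = 0) → ¬ ∀ v ∈ U, g v ∈ U := by
  classical
  obtain ⟨d, hd⟩ := exists_noroot F
  obtain ⟨m, rfl⟩ : ∃ m, k = m + 2 := ⟨k - 2, by omega⟩
  set W := wplus (m + 2 + 2) F with hW
  have ee : ∀ i j, polar (plusForm (m + 2 + 2) F) (W.e i) (W.e j) = 0 := W.ee
  have ff : ∀ i j, polar (plusForm (m + 2 + 2) F) (W.f i) (W.f j) = 0 := W.ff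
  have ef : ∀ i j, polar (plusForm (m + 2 + 2) F) (W.e i) (W.f j) = if i = j then 1 else 0 := W.ef
  have fe : ∀ i j, polar (plusForm (m + 2 + 2) F) (W.f i) (W.e j) = if j = i then 1 else 0 := fun i j => by
    rw [polar_comm, ef]
  have qe : ∀ i, plusForm (m + 2 + 2) F (W.e i) = 0 := fun i => by
    have h1 : (0 : F) = -plusForm (m + 2 + 2) F (W.e i) := b_sing W (i, true)
    exact neg_eq_zero.1 h1.symm
  have qf : ∀ i, plusForm (m + 2 + 2) F (W.f i) = 0 := fun i => by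
    have h1 : (0 : F) = -plusForm (m + 2 + 2) F (W.f i) := b_sing W (i, false)
    exact neg_eq_zero.1 h1.symm
  obtain ⟨i1, i2, i3, n01, n02, n03, n12, n13, n23⟩ : ∃ i1 i2 i3 : Fin (m + 2 + 2),
      0 ≠ i1 ∧ 0 ≠ i2 ∧ 0 ≠ i3 ∧ i1 ≠ i2 ∧ i1 ≠ i3 ∧ i2 ≠ i3 :=
    ⟨⟨1, by omega⟩, ⟨2, by omega⟩, ⟨3, by omega⟩, by simp [Fin.ext_iff]⟩
  have C : Cf (plusForm (m + 2 + 2) F) d (W.e i2 + W.f i2) (W.f i2 + W.e i3 + d • W.f i3) (W.e i1)
      (W.e i2 - W.f i2 - W.f i3) := by
    refine ⟨hd, ?_, ?_, ?_, qe _, ?_, ?_, ?_, ?_, ?_⟩ <;>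
      simp [Q_add, QuadraticMap.map_smul, polar_add_left, polar_add_right, polar_sub_right, polar_smul_left,
        polar_smul_right, ee, ff, ef, fe, qe, qf, n12, n13, n23, n23.symm]
  have hG : OrthTrans.Good (plusForm (m + 2 + 2) F) := OrthFinite.good_of_finite (nondeg_plusForm _ F) (by
    rw [Module.finrank_fintype_fun_eq_card, Fintype.card_sum, Fintype.card_fin]
    omega)
  have g1 : (C.x * C.u) (W.e 0) = W.e 0 := by
    apply C.g_fix <;>
      simp [polar_add_left, polar_sub_left, polar_smul_left, ee, fe, n02, n03]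
  have g2 : (C.x * C.u) (W.f 0) = W.f 0 := by
    apply C.g_fix <;>
      simp [polar_add_left, polar_sub_left, polar_smul_left, ff, ef, n01.symm, n02.symm, n03.symm]
  refine ⟨C.x * C.u, mul_mem (H410.OZ.sq_mem_EQ hG C.r_mem) (siegel_mem_E _ _),
    C.dvd (f := W.f i1) (z := W.f i2) ?_ ?_ ?_ ?_ ?_ p, fun a => comm_dg _ C.g_mem _ ?_, C.not_inv⟩
  · simp [polar_add_left, ef, ff, n12.symm]
  · simp [polar_add_left, polar_smul_left, ef, ff, n13.symm]
  · simp [ef]
  · simp [fe, n12]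
  · simp [polar_sub_right, fe, ff]
  · rintro ⟨i, y⟩
    by_cases hi : i = 0
    · subst hi
      right
      cases y
      · exact ⟨g2, g1⟩
      · exact ⟨g1, g2⟩
    · left
      cases y
      · rw [lam_false, Pi.mulSingle_eq_of_ne hi, inv_one]
      · rw [lam_true, Pi.mulSingle_eq_of_ne hi]

end Cfsg.Agent.VAN.C
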