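import Cfsg.Agent.H410.OZ.Fin
import Cfsg.Agent.H530.OZ.Arith
import Cfsg.Agent.H631.Kaw.Main

/-!
# S4942: arithmetic for the classical groups (helper91)

* `good1`, `good2` : the conditions on the generators of the Singer cycles and their squares; `exists_sing`;
* `prim_sum`, `prim_add` : primitive prime divisors;
* `exists_mixed` : an element of order divisible by `r p`, from Steinberg's count of the `p`-elements.
-/

set_option autoImplicit false
set_option maxHeartbeats 400000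

namespace Cfsg.Agent.VAN.C

open Cfsg.Agent.H410.OZ Cfsg.Agent.H530.OZ Module

theorem good_of {N q m s a : ℕ} (hq : 2 ≤ q) (hm : 2 ≤ m) (ha : 0 < a) (hs : 0 < s) (hs' : s ≤ q + 1)
    (h : a * (q ^ (m - 1) + 1) < N) : Good N q m s a := by
  have key : ∀ x, 0 < x → x ≤ q ^ (m - 1) + 1 → ¬ N ∣ a * x := fun x h0 h1 =>
    Nat.not_dvd_of_pos_of_lt (Nat.mul_pos ha h0) (lt_of_le_of_lt (Nat.mul_le_mul_left a h1) h)
  have hp : ∀ j < m, q ^ j ≤ q ^ (m - 1) := fun j hj => Nat.pow_le_pow_right (by omega) (by omega)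
  refine ⟨fun d hd hlt => key _ ?_ ?_, fun j hj => key _ (Nat.succ_pos _) (Nat.succ_le_succ (hp j hj)), key _ hs ?_⟩
  · have h0 : d ≠ 0 := by
      rintro rfl
      rw [zero_dvd_iff] at hd
      omega
    have := Nat.one_lt_pow h0 (show 1 < q by omega)
    omega
  · have := hp d hlt
    omega
  · have := hp 1 (by omega)
    rw [pow_one] at this
    omega

theorem good1 {q m s : ℕ} (hq : 2 ≤ q) (hm : 2 ≤ m) (h : 3 ≤ q ∨ 3 ≤ m) (hs : 0 < s) (hs' : s ≤ q + 1) :
    Good (q ^ m - 1) q m s 1 := by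
  refine good_of hq hm one_pos hs hs' ?_
  obtain ⟨k, rfl⟩ : ∃ k, m = k + 1 := ⟨m - 1, by omega⟩
  rw [Nat.add_sub_cancel, pow_succ, one_mul]
  have h1 : 3 ≤ q ^ k := by
    rcases h with h | h
    · exact h.trans (Nat.le_self_pow (by omega) q)
    · calc 3 ≤ 2 ^ 2 := by norm_num
        _ ≤ q ^ 2 := Nat.pow_le_pow_left hq 2
        _ ≤ q ^ k := Nat.pow_le_pow_right (by omega) (by omega)
  have h2 : q ^ k * 2 ≤ q ^ k * q := Nat.mul_le_mul_left _ hq
  omega

theorem good2 {q m : ℕ} (hq : 2 ≤ q) (hm : 3 ≤ m) : Good (q ^ m - 1) q m 1 2 := by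
  rcases Nat.eq_or_lt_of_le hq with rfl | hq3
  · have g := good1 (s := 1) le_rfl (by omega : 2 ≤ m) (Or.inr hm) one_pos (by omega)
    have hc : Nat.Coprime (2 ^ m - 1) 2 := by
      rw [Nat.coprime_comm, Nat.prime_two.coprime_iff_not_dvd]
      exact not_dvd_pow_sub Nat.prime_two (by omega)
    exact ⟨fun d hd hlt h => g.adj d hd hlt (by rw [one_mul]; exact hc.dvd_of_dvd_mul_left h),
      fun j hj h => g.inv j hj (by rw [one_mul]; exact hc.dvd_of_dvd_mul_left h),
      fun h => g.pow (by rw [one_mul]; exact hc.dvd_of_dvd_mul_left h)⟩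
  · refine good_of hq (by omega) two_pos one_pos (by omega) ?_
    obtain ⟨k, rfl⟩ : ∃ k, m = k + 1 := ⟨m - 1, by omega⟩
    rw [Nat.add_sub_cancel, pow_succ]
    have h1 : 4 ≤ q ^ k :=
      calc 4 = 2 ^ 2 := by norm_num
        _ ≤ q ^ 2 := Nat.pow_le_pow_left hq 2
        _ ≤ q ^ k := Nat.pow_le_pow_right (by omega) (by omega)
    have h2 : q ^ k * 3 ≤ q ^ k * q := Nat.mul_le_mul_left _ hq3
    omega

/-- a generator of the multiplicative group of the extension of degree `m` -/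
theorem exists_ext (F : Type*) [Field F] [Finite F] {ι : Type*} [Fintype ι] {m : ℕ} (hm : 0 < m)
    (hι : Fintype.card ι = m) : ∃ (L : Type) (_ : Field L) (_ : Finite L) (_ : Algebra F L) (_ : Basis ι F L) (γ : Lˣ),
      finrank F L = m ∧ orderOf γ = Nat.card F ^ m - 1 ∧ ∀ z : Lˣ, z ∈ Subgroup.zpowers γ := by
  obtain ⟨p, hp⟩ := CharP.exists F
  have hpp : Fact p.Prime := ⟨(CharP.char_is_prime_or_zero F p).resolve_right (CharP.char_ne_zero_of_finite F p)⟩
  have : NeZero m := ⟨hm.ne'⟩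
  let L := FiniteField.Extension F p m
  have hfr : finrank F L = m := FiniteField.finrank_extension F p m
  have : FiniteDimensional F L := Module.Finite.of_finite
  have β : Basis ι F L := (finBasis F L).reindex ((finCongr hfr).trans (Fintype.equivFinOfCardEq hι).symm)
  have hcL : Nat.card Lˣ = Nat.card F ^ m - 1 := by
    have h1 : Nat.card L = Nat.card F ^ m := FiniteField.natCard_extension F p m
    rw [Nat.card_units, h1]
  obtain ⟨γ, hγ⟩ := IsCyclic.exists_generator (α := Lˣ)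
  exact ⟨L, inferInstance, inferInstance, inferInstance, β, γ, hfr,
    by rw [orderOf_eq_card_of_forall_mem_zpowers hγ, hcL], hγ⟩

theorem exists_sing (F : Type*) [Field F] [Finite F] {n : ℕ} (i : Fin n) :
    ∃ (L : Type) (_ : Field L) (_ : Finite L) (_ : Algebra F L) (_ : Basis {k : Fin n // k ≤ i} F L) (γ : Lˣ),
      finrank F L = i + 1 ∧ orderOf γ = Nat.card F ^ ((i : ℕ) + 1) - 1 ∧ ∀ z : Lˣ, z ∈ Subgroup.zpowers γ := by
  refine exists_ext F (Nat.succ_pos _) ?_
  rw [Fintype.card_subtype]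
  have : (Finset.univ.filter fun k : Fin n => k ≤ i) = Finset.Iic i := by
    ext k; simp
  rw [this, Fin.card_Iic]

section Prim

variable {q N r : ℕ} (h : Prim q N r) (hq : 2 ≤ q)

include h hq

theorem prim_sub {m : ℕ} (h0 : 0 < m) (hm : m < N) : ¬ r ∣ q ^ m - 1 := fun h1 =>
  Nat.not_dvd_of_pos_of_lt h0 hm ((h.iff m).1 h1)

theorem prim_sum {m : ℕ} (hm : m + 1 < N) : ¬ r ∣ ∑ j ∈ Finset.range (m + 1), q ^ j := by
  intro h1
  obtain ⟨x, rfl⟩ : ∃ x, q = x + 1 := ⟨q - 1, by omega⟩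
  refine prim_sub h hq (Nat.succ_pos m) hm ?_
  rw [← geom_sum_mul_add x (m + 1), Nat.add_sub_cancel]
  exact h1.mul_right x

theorem prim_add {m : ℕ} (hN : 2 < N) (hm : 2 * (m - 1) < N) : ¬ r ∣ q + q ^ m := by
  have key : ∀ j, r ∣ q ^ j + 1 → r ∣ q ^ (2 * j) - 1 := fun j h1 => by
    rw [mul_comm, pow_mul]
    have h2 := Nat.sq_sub_sq (q ^ j) 1
    rw [one_pow] at h2
    rw [h2]
    exact h1.mul_right _
  intro h1
  rcases Nat.eq_zero_or_pos m with rfl | h0
  · exact prim_sub h hq (m := 2 * 1) two_pos hN (key 1 (by rwa [pow_zero, ← pow_one q] at h1))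
  · obtain ⟨j, rfl⟩ : ∃ j, m = j + 1 := ⟨m - 1, by omega⟩
    have h2 : r ∣ q ^ j + 1 := by
      rw [show q + q ^ (j + 1) = q * (q ^ j + 1) by ring] at h1
      exact (h.prime.dvd_mul.1 h1).resolve_left h.nd
    rcases Nat.eq_zero_or_pos j with rfl | h3
    · have h4 := h.two_lt hN.le
      have := Nat.le_of_dvd (by norm_num) h2
      simp at this
      omega
    · exact prim_sub h hq (by omega) (by simpa using hm) (key j h2)

end Prim

/-- an element whose order is divisible by `r` and `p` -/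
theorem exists_mixed {S : Type*} [Group S] [Finite S] {p : ℕ} [hp : Fact p.Prime] (hS : Nodes.RGDChev.HasRGD p S)
    {r : ℕ} (hr : r.Prime) (hrp : r ≠ p) (hd : r ∣ Nat.card S)
    (hn : ¬ r ∣ p ^ (2 * (Nat.card S).factorization p) - 1) : ∃ g : S, r ∣ orderOf g ∧ p ∣ orderOf g := by
  have := Fact.mk hr
  obtain ⟨x, hx⟩ := exists_prime_orderOf_dvd_card' r hd
  by_contra hc
  letI : MulAction (Subgroup.zpowers x) (H730.OZ.pSet p S) :=
    { smul := fun g u => ⟨g.1 * u.1 * g.1⁻¹, by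
        obtain ⟨k, hk⟩ := u.2
        exact ⟨k, by rw [← hk]; exact (MulAut.conj g.1).orderOf_eq u.1⟩⟩
      one_smul := fun u => Subtype.ext (by change (1 : S) * u.1 * 1⁻¹ = u.1; group)
      mul_smul := fun g g' u => Subtype.ext (by
        change g.1 * g'.1 * u.1 * (g.1 * g'.1)⁻¹ = g.1 * (g'.1 * u.1 * g'.1⁻¹) * g.1⁻¹
        group) }
  have hP : IsPGroup r (Subgroup.zpowers x) := IsPGroup.of_card (n := 1) (by rw [Nat.card_zpowers, hx, pow_one])
  have h1 := hP.card_modEq_card_fixedPoints (H730.OZ.pSet p S)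
  have h2 : Nat.card (MulAction.fixedPoints (Subgroup.zpowers x) (H730.OZ.pSet p S)) = 1 := by
    rw [Nat.card_eq_one_iff_exists]
    refine ⟨⟨⟨1, 0, by rw [orderOf_one, pow_zero]⟩, fun g => Subtype.ext (by change g.1 * 1 * g.1⁻¹ = 1; group)⟩, ?_⟩
    rintro ⟨⟨u, k, hk⟩, hu⟩
    refine Subtype.ext (Subtype.ext ?_)
    change u = 1
    have h3 : x * u * x⁻¹ = u := congrArg Subtype.val (hu ⟨x, Subgroup.mem_zpowers x⟩)
    rcases Nat.eq_zero_or_pos k with rfl | h0
    · rwa [pow_zero, orderOf_eq_one_iff] at hk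
    · exfalso
      have h4 : Commute x u := mul_inv_eq_iff_eq_mul.1 h3
      have h5 := h4.orderOf_mul_eq_mul_orderOf_of_coprime (by
        rw [hx, hk]
        exact ((Nat.coprime_primes hr hp.1).2 hrp).pow_right k)
      refine hc ⟨x * u, ?_, ?_⟩
      · rw [h5, hx]
        exact dvd_mul_right _ _
      · rw [h5, hk]
        exact (dvd_pow_self p h0.ne').mul_left _
  rw [h2, Nat.card_coe_set_eq, H631.Kaw.card_pSet hS] at h1
  exact hn ((Nat.modEq_iff_dvd' (Nat.one_le_pow _ _ hp.1.pos)).1 h1.symm)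

/-- the groups of order `q ^ n² ∏ (q ^ (2 i) - 1) / d` -/
theorem exists_mixed_BC {S : Type*} [Group S] [Finite S] {p : ℕ} [hp : Fact p.Prime] (hS : Nodes.RGDChev.HasRGD p S)
    {f k d r : ℕ} (hf : 0 < f) (hk : 0 < k) (hd : ¬ p ∣ d) (hd2 : d ∣ 2)
    (hc : d * Nat.card S = (p ^ f) ^ ((k + 2) ^ 2) * ∏ i ∈ Finset.range (k + 2), ((p ^ f) ^ (2 * (i + 1)) - 1))
    (h : Prim (p ^ f) (2 * (k + 1)) r) : ∃ g : S, r ∣ orderOf g ∧ p ∣ orderOf g := by
  have h1 : (Nat.card S).factorization p = f * (k + 2) ^ 2 := by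
    refine fac_eq hp.1 hd (fun h2 => ?_) Nat.card_pos.ne' hc
    obtain ⟨i, -, h3⟩ := (hp.1.prime.dvd_finsetProd_iff _).1 h2
    rw [← pow_mul] at h3
    exact not_dvd_pow_sub hp.1 (Nat.mul_pos hf (by omega)) h3
  refine exists_mixed hS h.prime ?_ ?_ ?_
  · rintro rfl
    exact h.nd (dvd_pow_self r hf.ne')
  · have h2 : r ∣ d * Nat.card S := by
      rw [hc]
      exact (((h.iff _).2 dvd_rfl).trans (Finset.dvd_prod_of_mem
        (fun i => (p ^ f) ^ (2 * (i + 1)) - 1) (Finset.mem_range.2 (by omega : k < k + 2)))).mul_left _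
    refine (h.prime.dvd_mul.1 h2).resolve_left fun h3 => ?_
    have h4 := Nat.le_of_dvd two_pos (h3.trans hd2)
    have h5 := h.two_lt (by omega)
    omega
  · rw [h1, show 2 * (f * (k + 2) ^ 2) = f * (2 * (k + 2) ^ 2) by ring, pow_mul, h.iff]
    intro h2
    have h3 : k + 1 ∣ (k + 2) ^ 2 := Nat.dvd_of_mul_dvd_mul_left two_pos h2
    rw [show (k + 2) ^ 2 = (k + 1) * (k + 3) + 1 by ring, Nat.dvd_add_right (dvd_mul_right _ _), Nat.dvd_one] at h3
    omega

end Cfsg.Agent.VAN.C
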