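import Cfsg.Agent.VAN.C.Lin
import Cfsg.Agent.VAN.C.Num
import Cfsg.Agent.H279.VZ.Hd

/-!
# S4942: Singer cycles of the Levi subgroups (helper91)

* `elC_last`, `elC_pd`, `elD_last`, `elD_pd` : the elements `gl z * D` are elliptic;
* `gl_red` : modulo a subgroup which contains `SL(E)` the element `gl z` is diagonal; `cov_gl`.
-/

set_option autoImplicit false
set_option linter.unusedSectionVars false
set_option maxHeartbeats 400000

namespace Cfsg.Agent.VAN.C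

open CoxeterSystem Cfsg Cfsg.Agent.ChevalleyStructure.CoxeterGeom Cfsg.Agent.Tits.Roots
  Cfsg.Agent.Nodes.Reps Cfsg.Agent.Nodes.BNOf Cfsg.Agent.Nodes.Bruhat Cfsg.Agent.Nodes.LeviDec
  Cfsg.Agent.VAN.HC Cfsg.Agent.Nodes.RGDLib Cfsg.Agent.Nodes Cfsg.Agent.Nodes.WittRoot
open Cfsg.Agent.TitsThree Cfsg.Agent.TitsThree.Siegel Cfsg.Agent.TitsThree.WittFrame Cfsg.Agent.TitsThree.WittWeyl
  Cfsg.Agent.TitsThree.FrameCN
open Cfsg.Agent.H62.PCFrame Cfsg.Agent.H62.PCWitt Cfsg.Agent.H410.OZ Module Polynomial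
open Cfsg.Agent.H985.XZ (NodeK)
open Cfsg.Agent.H553.AF (IsSim)
open Cfsg.Agent.H644.OZ (dg lam)
open Cfsg.Agent.H279.VZ (GE mu dgB)
open Cfsg.Agent.Nodes.TypeD (pd)

variable {F : Type*} [Field F] {V : Type*} [AddCommGroup V] [Module F V] {H : HForm F V} {k : ℕ}
  {Fr : Frame H (Fin (k + 2))} {L : Type*} [Field L] [Algebra F L]

/-- the conditions on `z` -/
structure Sing (F : Type*) [Field F] {L : Type*} [Field L] [Algebra F L] (z : Lˣ) (s : ℕ) : Prop where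
  adj : Algebra.adjoin F {(z : L)} = ⊤
  ne : (z : L) ^ s ≠ 1
  root : aeval (z : L) (minpoly F ((z⁻¹ : Lˣ) : L)) ≠ 0

theorem sing_of [Finite F] [Finite L] {γ : Lˣ} {m s a : ℕ} (hm : finrank F L = m)
    (hγ : orderOf γ = Nat.card F ^ m - 1) (g : Good (Nat.card F ^ m - 1) (Nat.card F) m s a) : Sing F (γ ^ a) s :=
  ⟨g.adjoin hγ rfl hm, g.ne hγ, g.root hγ rfl hm⟩

theorem pd_lt : pd k < Fin.last (k + 1) := by
  rw [Fin.lt_def]
  exact Nat.lt_succ_self k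

section El

variable [Finite V] {W : Type*} [Group W] {p : ℕ} {T : Subgroup (V ≃ₗ[F] V)} {s : ℕ} {D : V ≃ₗ[F] V} {z : Lˣ}
  (hT : ∀ t ∈ T, Mono Fr t id) (hs : ∀ t ∈ T, ∃ c, IsSim H c t) (hz : Sing F z s)
  (hnd : ∀ v, (∀ w, H.h v w = 0) → v = 0)

include hT hs hz hnd

section C

variable {cs : CoxeterSystem (CoxeterMatrix.B (k + 2)) W} {p0 : Fr.Adm} (hp0 : p0.c ≠ 0)
  (R : RGD cs (TypeC.isCartan (k + 2)) p T (WittRGD.nn Fr p0) (rg Fr))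

include hp0 R

theorem elC_last {β : Basis {j : Fin (k + 2) // j ≤ Fin.last (k + 1)} F L} (hD : Comp Fr (Fin.last (k + 1)) s D)
    (ht : gl Fr β z * D ∈ GG cs (TypeC.isCartan (k + 2)) T (rg Fr)) :
    El cs (TypeC.isCartan (k + 2)) T (rg Fr) (J1 k) (gl Fr β z * D) :=
  ⟨(flC hp0 R hT hs _).fpf hD ht hz.ne hz.root hnd, fun j hj =>
    (flC hp0 R hT hs _).av_lt (flC hp0 R hT hs j) (Fin.lt_last_iff_ne_last.2 hj) (fun _ h => h.2) (gl_irr hD hz.adj)⟩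

theorem avC_pd {β : Basis {j : Fin (k + 2) // j ≤ pd k} F L} (hD : Comp Fr (pd k) s D) (j : Fin (k + 2))
    (hj : j ∈ J2 k) (hl : j ≠ Fin.last (k + 1)) :
    Av cs (TypeC.isCartan (k + 2)) T (rg Fr) (J2 k) (J2 k \ {j}) (gl Fr β z * D) := by
  refine (flC hp0 R hT hs _).av_lt (flC hp0 R hT hs j) ?_ (fun _ h => h.2) (gl_irr hD hz.adj)
  have h1 := mem_J2.1 hj
  have h2 : (j : ℕ) ≠ k + 1 := fun h => hl (Fin.ext h)
  have := j.2
  rw [Fin.lt_def]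
  change (j : ℕ) < k
  omega

theorem elC_pd {β : Basis {j : Fin (k + 2) // j ≤ pd k} F L} (hD : Comp Fr (pd k) s D)
    (ht : gl Fr β z * D ∈ GG cs (TypeC.isCartan (k + 2)) T (rg Fr))
    (hiso : ∀ U : Submodule F V, U ≤ Mid Fr (pd k) → (∀ x ∈ U, ∀ y ∈ U, H.h x y = 0) → (∀ x ∈ U, D x ∈ U) → U = ⊥) :
    El cs (TypeC.isCartan (k + 2)) T (rg Fr) (J2 k) (gl Fr β z * D) := by
  refine ⟨(flC hp0 R hT hs _).fpf hD ht hz.ne hz.root hnd, fun j hj => ?_⟩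
  by_cases hl : j = Fin.last (k + 1)
  · subst hl
    refine (flC hp0 R hT hs _).av_gt (flC hp0 R hT hs _) pd_lt (fun _ h => h.2) (fun v hv => ?_) fun U h1 h2 h3 =>
      hiso U h1 h2 fun x hx => ?_
    · rw [t_mid hD hv]
      exact hD.mid hv
    · rw [← t_mid (β := β) (z := z) hD (h1 hx)]
      exact h3 x hx
  · exact avC_pd hT hs hz hnd hp0 R hD j hj hl

end C

section D

variable {cs : CoxeterSystem (TypeD.M k) W} (R : RGD cs (TypeD.isCartan k) p T (WittRGDD.nn Fr) (WittRGDD.rg Fr))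

include R

theorem elD_last {β : Basis {j : Fin (k + 2) // j ≤ Fin.last (k + 1)} F L} (hD : Comp Fr (Fin.last (k + 1)) s D)
    (ht : gl Fr β z * D ∈ GG cs (TypeD.isCartan k) T (WittRGDD.rg Fr)) :
    El cs (TypeD.isCartan k) T (WittRGDD.rg Fr) (J1 k) (gl Fr β z * D) := by
  refine ⟨(flD R hT hs NodeK.last).fpf hD ht hz.ne hz.root hnd, fun j hj => ?_⟩
  by_cases h1 : (j : ℕ) < k
  · exact (flD R hT hs NodeK.last).av_lt (flD R hT hs (NodeK.of_lt h1)) (Fin.lt_last_iff_ne_last.2 hj)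
      (fun _ h => h.2) (gl_irr hD hz.adj)
  · obtain rfl : j = pd k := Fin.ext (by have := mem_J1.1 hj; change (j : ℕ) = k; omega)
    refine (flD R hT hs NodeK.last).av_lt (flD R hT hs NodeK.pair) pd_lt ?_ (gl_irr hD hz.adj)
    rintro x ⟨h2, h3⟩ (h4 | h4)
    · exact h3 h4
    · exact h2 h4

theorem elD_pd {β : Basis {j : Fin (k + 2) // j ≤ pd k} F L} (hD : Comp Fr (pd k) s D)
    (ht : gl Fr β z * D ∈ GG cs (TypeD.isCartan k) T (WittRGDD.rg Fr)) :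
    El cs (TypeD.isCartan k) T (WittRGDD.rg Fr) (J3 k) (gl Fr β z * D) :=
  ⟨(flD R hT hs NodeK.pair).fpf hD ht hz.ne hz.root hnd, fun _ hj =>
    (flD R hT hs NodeK.pair).av_lt (flD R hT hs (NodeK.of_lt (mem_J3.1 hj))) (mem_J3.1 hj) (fun _ h => h.2)
      (gl_irr hD hz.adj)⟩

end D

end El

/-! ### the norm -/

/-- the norm -/
noncomputable def nu (F : Type*) [Field F] {L : Type*} [Field L] [Algebra F L] : Lˣ →* Fˣ := Units.map (Algebra.norm F)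

theorem nu_val (z : Lˣ) : (nu F z : F) = Algebra.norm F (z : L) := rfl

theorem nu_surj [Finite L] (a : Fˣ) : ∃ z : Lˣ, nu F z = a := by
  obtain ⟨w, hw⟩ := FiniteField.norm_surjective F L (a : F)
  have : FiniteDimensional F L := Module.Finite.of_finite
  have h0 : w ≠ 0 := by
    rintro rfl
    rw [Algebra.norm_zero] at hw
    exact a.ne_zero hw.symm
  exact ⟨Units.mk0 w h0, Units.ext hw⟩

variable {i : Fin (k + 2)} {β : Basis {j : Fin (k + 2) // j ≤ i} F L}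

theorem Dh_single (a : Fˣ) : ∃ B : L ≃ₗ[F] L, Dh Fr (Pi.mulSingle 0 a) = GE Fr β B ∧
    LinearMap.det (B : L →ₗ[F] L) = a := by
  obtain ⟨l, hl⟩ : ∃ l : Fin (k + 2) → Fˣ, l = Pi.mulSingle 0 a := ⟨_, rfl⟩
  have h0 : l 0 = a := by rw [hl, Pi.mulSingle_eq_same]
  have h1 : ∀ j, j ≠ 0 → l j = 1 := fun j hj => by rw [hl, Pi.mulSingle_eq_of_ne hj]
  rw [← hl]
  refine ⟨dgB β fun j => l j.1, H279.VZ.eq_GE_dgB (fun j => Dh_b Fr _ _) (fun j => Dh_b Fr _ _) fun v hv => ?_, ?_⟩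
  · rw [Dh_apply]
    exact H279.VZ.dg_lam_mid (fun j hj => h1 j (Fin.pos_iff_ne_zero.1 (lt_of_le_of_lt (Fin.zero_le i) hj))) hv
  · rw [H279.VZ.det_dgB, Finset.prod_eq_single (⟨0, Fin.zero_le _⟩ : {j : Fin (k + 2) // j ≤ i}), h0]
    · intro j _ hj
      rw [h1 j.1 fun h => hj (Subtype.ext h), Units.val_one]
    · exact fun h => absurd (Finset.mem_univ _) h

theorem gl_red {S : Subgroup (V ≃ₗ[F] V)}
    (hGE : ∀ A : L ≃ₗ[F] L, LinearMap.det (A : L →ₗ[F] L) = 1 → GE Fr β A ∈ S) (z : Lˣ) :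
    (gl Fr β z)⁻¹ * Dh Fr (Pi.mulSingle 0 (nu F z)) ∈ S := by
  obtain ⟨B, hg, hc⟩ := Dh_single (Fr := Fr) (β := β) (nu F z)
  have h2 : ∀ A B : L ≃ₗ[F] L, LinearMap.det ((A * B : L ≃ₗ[F] L) : L →ₗ[F] L) =
      LinearMap.det (A : L →ₗ[F] L) * LinearMap.det (B : L →ₗ[F] L) := fun A B => by
    rw [← LinearMap.det_comp]
    rfl
  have h3 := hGE ((mu F z)⁻¹ * B) (by
    rw [h2, hc, nu_val, ← H279.VZ.det_mu, ← h2, inv_mul_cancel]
    exact LinearMap.det_id)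
  rwa [map_mul, map_inv, ← hg, ← H279.VZ.gl_eq] at h3

/-- `SL(E)` lies in the derived group -/
theorem GE_mem_comm (hi : 0 < i) (hF : ∃ a : F, a ≠ 0 ∧ a ≠ 1) {O : Subgroup (V ≃ₗ[F] V)}
    (hO : ∀ A : L ≃ₗ[F] L, GE Fr β A ∈ O) (A : L ≃ₗ[F] L) (hA : LinearMap.det (A : L →ₗ[F] L) = 1) :
    GE Fr β A ∈ ⁅O, O⁆ := by
  have : Nontrivial {j : Fin (k + 2) // j ≤ i} := ⟨⟨⟨0, hi.le⟩, ⟨i, le_rfl⟩, fun h => hi.ne (congrArg Subtype.val h)⟩⟩
  have h1 := Subgroup.mem_map_of_mem (GE Fr β) (H279.VZ.mem_commutator_of_det β hF hA)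
  rw [commutator_def, Subgroup.map_commutator] at h1
  have h2 : (⊤ : Subgroup (L ≃ₗ[F] L)).map (GE Fr β) ≤ O := by
    rintro _ ⟨B, -, rfl⟩
    exact hO B
  exact Subgroup.commutator_mono h2 h2 h1

section Cov

variable {W : Type*} [Group W] {M : CoxeterMatrix (Fin (k + 2))} {A : Fin (k + 2) → Fin (k + 2) → ℤ}
  {cs : CoxeterSystem M W} {h : IsCartan M A} {p : ℕ} {T : Subgroup (V ≃ₗ[F] V)} {n : Fin (k + 2) → V ≃ₗ[F] V}
  {X : (Fin (k + 2) → ℤ) → Subgroup (V ≃ₗ[F] V)} {Ω : SW cs h} {S : Subgroup (V ≃ₗ[F] V)}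
  (R : RGD cs h p T n X) (t : TD Ω T n (Dh Fr)) (s : Nm cs h T X S) (hn : ∀ i, n i ∈ S)
  (hT : ∀ y ∈ T, ∃ c l, y = c * Dh Fr l ∧ ∀ x, c * x = x * c)

include R t s hn hT

/-- it is enough to cover the first coordinate -/
theorem cov_of {g : V ≃ₗ[F] V} (hg : ∀ a : Fˣ, ∃ z, z * g = g * z ∧ z⁻¹ * Dh Fr (Pi.mulSingle 0 a) ∈ S) :
    Cov cs h T X S g := by
  intro y hy
  obtain ⟨c, l, rfl, hc⟩ := hT y hy
  obtain ⟨z, h1, h2⟩ := hg (∏ a, l a)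
  have h3 : (c * z)⁻¹ * (c * Dh Fr l) ∈ S := by
    have h4 := mul_mem h2 (t.red R s hn l)
    rwa [show z⁻¹ * Dh Fr (Pi.mulSingle 0 (∏ a, l a)) * ((Dh Fr (Pi.mulSingle 0 (∏ a, l a)))⁻¹ * Dh Fr l) =
      (c * z)⁻¹ * (c * Dh Fr l) by group] at h4
  refine ⟨c * z, ?_, by rw [mul_assoc, h1, ← mul_assoc, hc, mul_assoc], h3⟩
  have h4 := mul_mem (T_le_GG hy) (inv_mem (s.le h3))
  rwa [show c * Dh Fr l * ((c * z)⁻¹ * (c * Dh Fr l))⁻¹ = c * z by group] at h4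

theorem cov_gl [Finite L] (hGE : ∀ A : L ≃ₗ[F] L, LinearMap.det (A : L →ₗ[F] L) = 1 → GE Fr β A ∈ S)
    {e : ℕ} {D : V ≃ₗ[F] V} (hD : Comp Fr i e D) (z : Lˣ) : Cov cs h T X S (gl Fr β z * D) := by
  refine cov_of R t s hn hT fun a => ?_
  obtain ⟨w, rfl⟩ := nu_surj (L := L) a
  exact ⟨gl Fr β w, by rw [← mul_assoc, ← map_mul, mul_comm w z, map_mul, mul_assoc, gl_comm hD w, mul_assoc],
    gl_red hGE w⟩

end Cov

end Cfsg.Agent.VAN.C
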