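import Cfsg.Agent.VAN.Rk.Kaw
import Cfsg.Agent.H530.OZ.RowF

/-!
# S4942: the rows `PΩ⁻_{2n}` and `PΩ⁺_{2n}`, `n` odd, from two isolated primes (helper91)
-/

set_option autoImplicit false

namespace Cfsg.Agent.VAN.C

open Cfsg Cfsg.Agent.H730.OZ Cfsg.Agent.H530.OZ Cfsg.Agent.H727.TC Cfsg.Agent.LieClassical.OrthForms
  Cfsg.Agent.H182.Sign Cfsg.Agent.H182.Orth Cfsg.Agent.Nodes.RGDChev

universe u

theorem isol_of_isoAt {S : Type u} [Group S] {p r : ℕ} (hr : r.Prime) (hrp : r ≠ p) (hr2 : r ≠ 2)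
    (h : IsoAt p r S) : ∃ z : S, Isol S p r z := by
  obtain ⟨z, hz, h3, h4, h5, -⟩ := h
  refine ⟨z, hr, hr2, hrp, hz, h3, fun y hy _ => h4 y hy, ?_⟩
  rintro v hv ⟨k, hk⟩
  rcases Nat.eq_zero_or_pos k with rfl | hk0
  · rw [pow_zero] at hk
    exact orderOf_eq_one_iff.1 hk
  · exact absurd (by rw [hk]; exact dvd_pow_self p hk0.ne') (h5 v hv)

theorem van3_of_isoAt {S : Type u} [Group S] [Finite S] [IsSimpleGroup S] {p r₁ r₂ v : ℕ} (hp : p.Prime)
    (hK : Kaw p S) (hv : (Nat.card S).factorization p = v) (hv0 : v ≠ 0) (h₁ : IsoAt p r₁ S) (h₂ : IsoAt p r₂ S)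
    (hp₁ : r₁.Prime) (hp₂ : r₂.Prime) (hn₁ : r₁ ≠ p) (hn₂ : r₂ ≠ p) (ho₁ : r₁ ≠ 2) (ho₂ : r₂ ≠ 2)
    (ha : ∀ (m : ℕ) (e : ℤ), (e = 1 ∨ e = -1) → 0 < m → m < 2 * v →
      (r₁ : ℤ) ∣ e * (p : ℤ) ^ m - (p : ℤ) ^ 0 → (r₂ : ℤ) ∣ e * (p : ℤ) ^ m - (p : ℤ) ^ 0 → False) : Van3 S := by
  obtain ⟨x, hx⟩ := isol_of_isoAt hp₁ hn₁ ho₁ h₁
  obtain ⟨y, hy⟩ := isol_of_isoAt hp₂ hn₂ ho₂ h₂
  refine Rk.van3_of_isol hp (Nat.dvd_of_factorization_pos (by omega)) hK hx hy fun m e he hm hm2 h1 h2 => ?_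
  rw [hv] at hm2
  exact ha m e he hm hm2 (by rwa [pow_zero]) (by rwa [pow_zero])

/-- **The row `PΩ⁻`** -/
theorem row_ominus : VAN.Row.{u} (fun G _ => IsPOmegaMinus G) := by
  intro S _ _ hs _ h
  obtain ⟨F, _, _, n, a, b, hn, hab, ⟨e⟩⟩ := h
  obtain ⟨p, hch⟩ := CharP.exists F
  obtain ⟨⟨f, hf⟩, hp, hcard⟩ := FiniteField.card F p
  simp only [PNat.mk_coe] at hcard
  have hpf : Fact p.Prime := ⟨hp⟩
  have hKS : Kaw p S := H279.OZ.kaw_of_hasRGD hp
    ((Cfsg.Agent.Nodes.WittInst.hasRGD_PO_minus a b hab (m := n - 1) (by omega)).of_equiv e.symm)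
  have hab' : Cfsg.Agent.H403.Classify.Aniso a b := hab
  have hS0 := S0294.result hcard n hn a b hab
  have hcS : Nat.card (POmega F (quadFormMinus (n - 1) F a b)) = Nat.card S := (Nat.card_congr e.toEquiv).symm
  rw [hcS] at hS0
  have hfn : 0 < f * n := Nat.mul_pos hf (by omega)
  obtain ⟨ho1, -⟩ := order_facts hp hf hn (Nat.card_pos (α := S)).ne' (d := Nat.gcd 4 ((p ^ f) ^ n + 1))
    (w := (p ^ f) ^ n + 1) (fun h => not_dvd_pow_add hp hfn (by rw [pow_mul]; exact h.trans (Nat.gcd_dvd_right _ _)))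
    (fun h => not_dvd_pow_add hp hfn (by rw [pow_mul]; exact h)) (by
      have h4 : (p ^ f) ^ (2 * n) - 1 = ((p ^ f) ^ n + 1) * ((p ^ f) ^ n - 1) := by
        rw [mul_comm 2, pow_mul]
        have := Nat.sq_sub_sq ((p ^ f) ^ n) 1
        simpa using this
      rw [h4]
      exact Dvd.intro _ rfl) hS0
  have i : POmega F ⇑(minusForm (n - 1) F a b) ≃* S := by
    rw [coe_minusForm]
    exact e.symm
  have hR : Sg (minusForm (n - 1) F a b) (n + 0) (-1 * 1) := by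
    have h1 := sg_minusForm (n - 1) hab'
    rw [show n - 1 + 1 = n by omega] at h1
    simpa using h1
  have hn12 : 12 ≤ n * (n - 1) := Nat.mul_le_mul hn (by omega : 3 ≤ n - 1)
  have hnf : 4 ≤ n * f := hn.trans (Nat.le_mul_of_pos_right _ hf)
  have hnf' : 3 ≤ (n - 1) * f := (by omega : 3 ≤ n - 1).trans (Nat.le_mul_of_pos_right _ hf)
  obtain ⟨r₁, hr₁⟩ := exists_prim (p := p) (n := 2 * n * f) hp.two_le (by rw [mul_assoc]; omega) (by
    rw [mul_assoc]; omega)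
  have hc₁ : IsoAt p r₁ S := by
    obtain ⟨h1, h2⟩ := hr₁.conds hf
    exact isoM (p := p) (k := n) (sg_zero F) (Or.inl rfl) (by omega) (fun _ => hn)
      hR i hr₁.prime (by rw [hcard]; exact h1) (by rw [hcard]; exact h2)
  have ho₁ : r₁ ≠ 2 := (hr₁.two_lt (by rw [mul_assoc]; omega)).ne'
  by_cases hex : p = 2 ∧ 2 * (n - 1) * f = 6
  · obtain ⟨rfl, h6⟩ := hex
    have h7 : (n - 1) * f = 3 := by rw [mul_assoc] at h6; omega
    have hn4 : n = 4 := by
      by_contra hne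
      have h8 : 4 * 1 ≤ (n - 1) * f := Nat.mul_le_mul (by omega) hf
      omega
    subst hn4
    have hf1 : f = 1 := by omega
    subst hf1
    have hc₂ : IsoAt 2 7 S := by
      refine isoE (F := F) (p := 2) (by rw [hcard]; norm_num) ?_ i
      have h1 := hR
      simpa using h1
    refine van3_of_isoAt hp hKS ho1 (by norm_num) hc₁ hc₂ hr₁.prime (by norm_num) hr₁.ne (by norm_num) ho₁
      (by norm_num) ?_
    intro m ε hε hm hm' c1 c2
    exact end_exc (r₁ := r₁) hr₁ ε hε hm (by simpa using hm') c1 c2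
  · obtain ⟨r₂, hr₂⟩ := exists_prim (p := p) (n := 2 * (n - 1) * f) hp.two_le (by rw [mul_assoc]; omega) hex
    have hc₂ : IsoAt p r₂ S := by
      obtain ⟨h1, h2⟩ := hr₂.conds hf
      refine isoM (p := p) (k := n - 1) (sg_hypForm (F := F)) (Or.inr rfl) (by omega)
        (fun h => absurd h one_ne_zero) ?_ i hr₂.prime (by rw [hcard]; exact h1) (by rw [hcard]; exact h2)
      rw [show n - 1 + 1 = n by omega]
      simpa using hR
    refine van3_of_isoAt hp hKS ho1 (Nat.mul_pos hf (by omega)).ne' hc₁ hc₂ hr₁.prime hr₂.prime hr₁.ne hr₂.ne ho₁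
      (hr₂.two_lt (by rw [mul_assoc]; omega)).ne' ?_
    intro m ε hε hm hm' c1 c2
    exact end_minus hp.one_le hf hn hr₁ hr₂ ε hε hm hm' c1 c2

/-- **`PΩ⁺_{2n}`, `n` odd** -/
theorem van3_plus_odd {F : Type} [Field F] [Fintype F] {n : ℕ} (hn : 4 ≤ n) (hodd : Odd n) {S : Type u} [Group S]
    [Finite S] [IsSimpleGroup S] (e : S ≃* POmega F (quadFormPlus n F)) : Van3 S := by
  have hn5 : 5 ≤ n := by
    rcases Nat.eq_or_lt_of_le hn with h | h
    · subst h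
      exact absurd hodd (by decide)
    · exact h
  obtain ⟨p, hch⟩ := CharP.exists F
  obtain ⟨⟨f, hf⟩, hp, hcard⟩ := FiniteField.card F p
  simp only [PNat.mk_coe] at hcard
  have hpf : Fact p.Prime := ⟨hp⟩
  have hKS : Kaw p S := by
    refine H279.OZ.kaw_of_hasRGD hp ?_
    obtain ⟨k, rfl⟩ : ∃ k, n = k + 3 := ⟨n - 3, by omega⟩
    exact (Cfsg.Agent.Nodes.WittInst.hasRGD_PO_plus k).of_equiv e.symm
  have hS0 := S0293.result hcard n hn
  have hcS : Nat.card (POmega F (quadFormPlus n F)) = Nat.card S := (Nat.card_congr e.toEquiv).symm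
  rw [hcS] at hS0
  have hfn : 0 < f * n := Nat.mul_pos hf (by omega)
  obtain ⟨ho1, -⟩ := order_facts hp hf hn (Nat.card_pos (α := S)).ne' (d := Nat.gcd 4 ((p ^ f) ^ n - 1))
    (w := (p ^ f) ^ n - 1) (fun h => not_dvd_pow_sub hp hfn (by rw [pow_mul]; exact h.trans (Nat.gcd_dvd_right _ _)))
    (fun h => not_dvd_pow_sub hp hfn (by rw [pow_mul]; exact h)) (by
      have h4 : (p ^ f) ^ (2 * n) - 1 = ((p ^ f) ^ n + 1) * ((p ^ f) ^ n - 1) := by
        rw [mul_comm 2, pow_mul]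
        have := Nat.sq_sub_sq ((p ^ f) ^ n) 1
        simpa using this
      rw [h4]
      exact Dvd.intro_left _ rfl) hS0
  have i : POmega F ⇑(plusForm n F) ≃* S := by
    rw [coe_plusForm]
    exact e.symm
  have hR : Sg (plusForm n F) n 1 := sg_plusForm n
  have hn12 : 12 ≤ n * (n - 1) := Nat.mul_le_mul hn (by omega : 3 ≤ n - 1)
  have hnf : 5 ≤ n * f := hn5.trans (Nat.le_mul_of_pos_right _ hf)
  have hnf' : 4 ≤ (n - 1) * f := (by omega : 4 ≤ n - 1).trans (Nat.le_mul_of_pos_right _ hf)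
  obtain ⟨r₁, hr₁⟩ := exists_prim (p := p) (n := n * f) hp.two_le (by omega) (by
    rintro ⟨-, h6⟩
    have h7 : n ∣ 6 := ⟨f, h6.symm⟩
    have h8 : n ≤ 6 := Nat.le_of_dvd (by norm_num) h7
    interval_cases n
    · omega
    · exact absurd hodd (by decide))
  have hc₁ : IsoAt p r₁ S := by
    refine isoP (p := p) hn5 hodd hR i hr₁.prime ?_ ?_
    · rw [hcard, ← pow_mul, hr₁.iff]
      exact ⟨1, by ring⟩
    · intro j hj hjn
      rw [hcard, ← pow_mul, hr₁.iff]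
      intro h1
      have h3 := Nat.le_of_dvd (Nat.mul_pos hf hj) h1
      have h4 : f * j < f * n := Nat.mul_lt_mul_of_pos_left hjn hf
      have h5 : n * f = f * n := mul_comm _ _
      omega
  obtain ⟨r₂, hr₂⟩ := exists_prim (p := p) (n := 2 * (n - 1) * f) hp.two_le (by rw [mul_assoc]; omega) (by
    rw [mul_assoc]; omega)
  have hc₂ : IsoAt p r₂ S := by
    obtain ⟨h1, h2⟩ := hr₂.conds hf
    obtain ⟨L, _, _, _, Q', u, hQ', -, -⟩ := exists_torusM F (k := 1) one_ne_zero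
    refine isoM (p := p) (k := n - 1) hQ' (Or.inr rfl) (by omega)
      (fun h => absurd h one_ne_zero) ?_ i hr₂.prime (by rw [hcard]; exact h1) (by rw [hcard]; exact h2)
    rw [show n - 1 + 1 = n by omega]
    simpa using hR
  refine van3_of_isoAt hp hKS ho1 (Nat.mul_pos hf (by omega)).ne' hc₁ hc₂ hr₁.prime hr₂.prime hr₁.ne hr₂.ne
    (hr₁.two_lt (by omega)).ne' (hr₂.two_lt (by rw [mul_assoc]; omega)).ne' ?_
  intro m ε hε hm hm' c1 c2
  exact end_plus hp.one_le hf hn5 hodd hr₁ hr₂ ε hε hm hm' c1 c2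

end Cfsg.Agent.VAN.C
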