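import Cfsg.Agent.VAN.C.Res
import Cfsg.Agent.H410.OZ.OmF
import Cfsg.Agent.H985.XZ.LeviD
import Cfsg.Agent.H553.AF.Sim
import Cfsg.Agent.Nodes.CardWitt

/-!
# S4942: elliptic elements of the classical groups (helper91)

`Fr` a Witt frame, `R` a root group datum in `V ≃ₗ V`.
* `Fl N i` : the parabolic subgroup of `Nᶜ` is the stabiliser of the member `i` of the flag; `flC`, `flD`;
* `Fl.fpf`, `Fl.av_lt`, `Fl.av_gt` : the properties of the elements `gl z * D`;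
* `Dh Fr` : the diagonal torus, `tdC`, `tdD`.
-/

set_option autoImplicit false
set_option linter.unusedSectionVars false
set_option maxHeartbeats 400000

namespace Cfsg.Agent.VAN.C

open CoxeterSystem Cfsg Cfsg.Agent.ChevalleyStructure.CoxeterGeom Cfsg.Agent.Tits.Roots
  Cfsg.Agent.Nodes.Reps Cfsg.Agent.Nodes.BNOf Cfsg.Agent.Nodes.Bruhat Cfsg.Agent.Nodes.LeviDec
  Cfsg.Agent.VAN.HC Cfsg.Agent.Nodes.RGDLib Cfsg.Agent.Nodes Cfsg.Agent.Nodes.WittRoot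
open Cfsg.Agent.TitsThree Cfsg.Agent.TitsThree.Siegel Cfsg.Agent.TitsThree.WittFrame Cfsg.Agent.TitsThree.WittWeyl
  Cfsg.Agent.TitsThree.FrameCN
open Cfsg.Agent.H62.PCFrame Cfsg.Agent.H62.PCWitt Cfsg.Agent.H410.OZ Module
open Cfsg.Agent.H769.OZ (StE UR mem_StE_of_finite mono_StE inv_apply_self apply_inv_self)
open Cfsg.Agent.H985.XZ (NodeK)
open Cfsg.Agent.H553.AF (IsSim)
open Cfsg.Agent.H644.OZ (dg lam)
open Cfsg.Agent.Nodes.WittRGD (Tor)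

variable {F : Type*} [Field F] {V : Type*} [AddCommGroup V] [Module F V] {H : HForm F V}

section Flag

variable {n : ℕ} {Fr : Frame H (Fin n)} {i j : Fin n}

theorem E_true : H769.OZ.E Fr i true = RS Fr (Si i) := by
  refine congrArg (Submodule.span F) (Set.ext fun v => ⟨?_, ?_⟩)
  · rintro ⟨k, hk, rfl⟩
    exact ⟨(k, true), ⟨hk, rfl⟩, rfl⟩
  · rintro ⟨⟨k, s⟩, ⟨hk, hs⟩, rfl⟩
    obtain rfl : s = true := hs
    exact ⟨k, hk, rfl⟩

theorem E_false : H769.OZ.E Fr i false = RS Fr (Ni i) := by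
  refine congrArg (Submodule.span F) (Set.ext fun v => ⟨?_, ?_⟩)
  · rintro ⟨k, hk, rfl⟩
    exact ⟨(k, false), ⟨hk, rfl⟩, rfl⟩
  · rintro ⟨⟨k, s⟩, ⟨hk, hs⟩, rfl⟩
    obtain rfl : s = false := hs
    exact ⟨k, hk, rfl⟩

theorem UR_le_Uni : UR Fr i ≤ Uni Fr i := by
  rintro g ⟨h1, h2, h3⟩
  rw [E_true] at h2 h3
  exact ⟨h3, h2, h1⟩

theorem b_ne (x : Fin n × Bool) : Fr.b x ≠ 0 := by
  intro h1
  have h2 := Fr.hb_neg_self x
  rw [h1, H.zero_right] at h2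
  exact Fr.η_ne x h2.symm

theorem b_notMem (hji : j < i) : Fr.b (i, true) ∉ RS Fr (Si j) := by
  intro hm
  rw [← E_true] at hm
  have h1 := H769.OZ.h_E_zero (Fr := Fr) (k := j) (s := true) (x := (i, false)) (Or.inr hji) hm
  rw [Fr.hb] at h1
  simp at h1

theorem b_mem_Mid (hij : i < j) (s : Bool) : Fr.b (j, s) ∈ Mid Fr i := fun k hk _ =>
  Fr.hb_of_ne (x := (j, s)) fun h => absurd (lt_of_le_of_lt hk hij) (by rw [show j = k from h]; exact lt_irrefl _)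

theorem sim_mid {g : V ≃ₗ[F] V} {c : F} (hg : IsSim H c g) (h1 : g ∈ StE (RS Fr (Si i))) (h2 : g ∈ StE (RS Fr (Ni i)))
    {v : V} (hv : v ∈ Mid Fr i) : g v ∈ Mid Fr i := by
  intro k hk s
  rw [← apply_inv_self g (Fr.b (k, s)), hg.sim]
  cases s
  · rw [Mid_F hv _ ((h2 _).1 (by rw [apply_inv_self]; exact b_mem ⟨hk, rfl⟩)), mul_zero]
  · rw [Mid_E hv _ ((h1 _).1 (by rw [apply_inv_self]; exact b_mem ⟨hk, rfl⟩)), mul_zero]

variable {W : Type*} [Group W] {M : CoxeterMatrix (Fin n)} {A : Fin n → Fin n → ℤ}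

/-- the parabolic subgroup of `Nᶜ` is the stabiliser of the member `i` of the flag -/
structure Fl (cs : CoxeterSystem M W) (h : IsCartan M A) (T : Subgroup (V ≃ₗ[F] V))
    (X : (Fin n → ℤ) → Subgroup (V ≃ₗ[F] V)) (Fr : Frame H (Fin n)) (N : Set (Fin n)) (i : Fin n) : Prop where
  le : LJ cs h T X Nᶜ ≤ StE (RS Fr (Si i))
  lf : LJ cs h T X Nᶜ ≤ StE (RS Fr (Ni i))
  vj : ∀ g ∈ VJ cs h X Nᶜ, g ∈ Uni Fr i ∧ H.IsIso g
  pj : ∀ g ∈ GG cs h T X, g ∈ StE (RS Fr (Si i)) → ∃ l ∈ LJ cs h T X Nᶜ, ∃ v ∈ VJ cs h X Nᶜ, g = l * v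
  sim : ∀ g ∈ GG cs h T X, ∃ c, IsSim H c g

variable {cs : CoxeterSystem M W} {h : IsCartan M A} {T : Subgroup (V ≃ₗ[F] V)}
  {X : (Fin n → ℤ) → Subgroup (V ≃ₗ[F] V)} {N N' : Set (Fin n)}

theorem sim_of (hT : ∀ t ∈ T, ∃ c, IsSim H c t) (hX : ∀ x, ∀ g ∈ X x, H.IsIso g) :
    ∀ g ∈ GG cs h T X, ∃ c, IsSim H c g := by
  let S : Subgroup (V ≃ₗ[F] V) :=
    { carrier := {g | ∃ c, IsSim H c g}
      one_mem' := ⟨1, IsSim.of_iso fun _ _ => rfl⟩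
      mul_mem' := fun ⟨_, h1⟩ ⟨_, h2⟩ => ⟨_, h1.mul h2⟩
      inv_mem' := fun ⟨_, h1⟩ => ⟨_, h1.inv⟩ }
  have h1 : GG cs h T X ≤ S := sup_le hT (RGD.Sup_le fun x _ g hg => ⟨1, IsSim.of_iso (hX x g hg)⟩)
  exact h1

theorem Fl.pj_le (a : Fl cs h T X Fr N i) : PJ cs h T X Nᶜ ≤ StE (RS Fr (Si i)) :=
  sup_le a.le (H769.OZ.le_StE fun g hg v hv => by rw [(a.vj g hg).1.1 v hv]; exact hv)

theorem Fl.mem_LJ (a : Fl cs h T X Fr N i) {g : V ≃ₗ[F] V} (hg : g ∈ GG cs h T X) (h1 : g ∈ StE (RS Fr (Si i)))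
    (h2 : g ∈ StE (RS Fr (Ni i))) : g ∈ LJ cs h T X Nᶜ := by
  obtain ⟨l, hl, v, hv, rfl⟩ := a.pj g hg h1
  have h3 := mul_mem (inv_mem (a.lf hl)) h2
  rw [inv_mul_cancel_left] at h3
  rw [eq_one_of_Uni (a.vj v hv).1 (a.vj v hv).2 fun x hx => (h3 x).2 hx, mul_one]
  exact hl

theorem Fl.av_lt (a : Fl cs h T X Fr N i) (b : Fl cs h T X Fr N' j) (hji : j < i) {K : Set (Fin n)} (hK : K ⊆ N'ᶜ)
    {t : V ≃ₗ[F] V}
    (hirr : ∀ U : Submodule F V, U ≤ RS Fr (Si i) → U ≠ ⊥ → (∀ x ∈ U, t x ∈ U) → U = RS Fr (Si i)) :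
    Av cs h T X Nᶜ K t := by
  intro x hx h1
  have h2 := b.pj_le (H246.Dl.PJ_mono hK h1)
  have hsub : RS Fr (Si j) ≤ RS Fr (Si i) :=
    Submodule.span_mono (Set.image_mono fun a ha => ⟨ha.1.trans hji.le, ha.2⟩)
  have h3 := hirr ((RS Fr (Si j)).comap (x⁻¹ : V ≃ₗ[F] V).toLinearMap) (fun v hv => (inv_mem (a.le hx) v).1 (hsub hv))
    (fun h0 => by
      have h4 : x (Fr.b (j, true)) ∈ (RS Fr (Si j)).comap (x⁻¹ : V ≃ₗ[F] V).toLinearMap := by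
        change x⁻¹ (x _) ∈ RS Fr (Si j)
        rw [inv_apply_self]
        exact b_mem ⟨le_rfl, rfl⟩
      rw [h0, Submodule.mem_bot, x.map_eq_zero_iff] at h4
      exact b_ne _ h4) (fun v hv => by
      have h4 := (h2 (x⁻¹ v)).2 hv
      change x⁻¹ (t (x (x⁻¹ v))) ∈ _ at h4
      rwa [apply_inv_self] at h4)
  have h4 : x (Fr.b (i, true)) ∈ RS Fr (Si i) := (a.le hx _).2 (b_mem ⟨le_rfl, rfl⟩)
  rw [← h3] at h4
  change x⁻¹ (x _) ∈ RS Fr (Si j) at h4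
  rw [inv_apply_self] at h4
  exact b_notMem hji h4

theorem Fl.av_gt (a : Fl cs h T X Fr N i) (b : Fl cs h T X Fr N' j) (hij : i < j) {K : Set (Fin n)} (hK : K ⊆ N'ᶜ)
    {t : V ≃ₗ[F] V} (hm : ∀ v ∈ Mid Fr i, t v ∈ Mid Fr i)
    (hiso : ∀ U : Submodule F V, U ≤ Mid Fr i → (∀ x ∈ U, ∀ y ∈ U, H.h x y = 0) → (∀ x ∈ U, t x ∈ U) → U = ⊥) :
    Av cs h T X Nᶜ K t := by
  intro x hx h1
  have h2 := b.pj_le (H246.Dl.PJ_mono hK h1)
  obtain ⟨c, hc⟩ := a.sim x (LJ_le_GG hx)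
  have h3 := hiso ((RS Fr (Si j)).comap (x⁻¹ : V ≃ₗ[F] V).toLinearMap ⊓ Mid Fr i) inf_le_right (fun v hv w hw => by
      rw [← apply_inv_self x v, ← apply_inv_self x w, hc.sim, isotropic (isoS_Si j) (x⁻¹ v) hv.1 (x⁻¹ w) hw.1, mul_zero])
    (fun v hv => ⟨by
      have h4 := (h2 (x⁻¹ v)).2 hv.1
      change x⁻¹ (t (x (x⁻¹ v))) ∈ _ at h4
      rwa [apply_inv_self] at h4, hm v hv.2⟩)
  have h4 : x (Fr.b (j, true)) ∈ (RS Fr (Si j)).comap (x⁻¹ : V ≃ₗ[F] V).toLinearMap ⊓ Mid Fr i := by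
    refine ⟨?_, sim_mid hc (a.le hx) (a.lf hx) (b_mem_Mid hij true)⟩
    change x⁻¹ (x _) ∈ RS Fr (Si j)
    rw [inv_apply_self]
    exact b_mem ⟨le_rfl, rfl⟩
  rw [h3, Submodule.mem_bot, x.map_eq_zero_iff] at h4
  exact b_ne _ h4

theorem Fl.fpf_of (a : Fl cs h T X Fr N i) {t : V ≃ₗ[F] V} (ht : t ∈ LJ cs h T X Nᶜ)
    (hM : ∀ f : V →ₗ[F] V, (∀ v ∈ Mid Fr i, f v ∈ RS Fr (Si i)) → (∀ v ∈ Mid Fr i, f (t v) = t (f v)) →
      ∀ v ∈ Mid Fr i, f v = 0)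
    (hFE : ∀ f : V →ₗ[F] V, (∀ v ∈ RS Fr (Ni i), f v ∈ RS Fr (Si i)) →
      (∀ v ∈ RS Fr (Ni i), f (t v) = t (f v)) → ∀ v ∈ RS Fr (Ni i), f v = 0)
    (hnd : ∀ v ∈ Mid Fr i, (∀ w ∈ Mid Fr i, H.h v w = 0) → v = 0) : Fpf cs h T X Nᶜ t := by
  refine ⟨ht, fun u hu hc => ?_⟩
  obtain ⟨⟨h1, h2, h3⟩, hI⟩ := a.vj u hu
  have hcv : ∀ v, t (u v) = u (t v) := fun v => LinearEquiv.congr_fun hc v
  set f : V →ₗ[F] V := (u : V →ₗ[F] V) - LinearMap.id with hf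
  have hfa : ∀ v, f v = u v - v := fun v => rfl
  have hft : ∀ v, f (t v) = t (f v) := fun v => by rw [hfa, hfa, map_sub, hcv]
  have hmid : ∀ v ∈ Mid Fr i, u v = v := fun v hv => by
    have := hM f (fun v hv => by rw [hfa]; exact h2 v (Mid_le_Pp hv)) (fun v _ => hft v) v hv
    rw [hfa] at this
    exact sub_eq_zero.1 this
  have hFm : ∀ v ∈ RS Fr (Ni i), f v ∈ RS Fr (Si i) := fun v hv => by
    obtain ⟨x, hx, y, hy, w, hw, e⟩ := exists_decomp (Fr := Fr) i (f v)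
    have hfP : f v ∈ Pp Fr i := by rw [hfa]; exact h3 v
    have hy0 : y = 0 := by
      apply eq_zero_of_F_Pp hy
      have e2 : y = f v - x - w := by rw [e]; abel
      rw [e2]
      exact Submodule.sub_mem _ (Submodule.sub_mem _ hfP (E_le_Pp hx)) (Mid_le_Pp hw)
    have hw0 : w = 0 := by
      apply hnd w hw
      intro w' hw'
      have e2 : w = f v - x := by rw [e, hy0]; abel
      have e3 : H.h (u v) w' = H.h v w' := by
        conv_lhs => rw [← hmid w' hw']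
        exact hI _ _
      have e4 : H.h x w' = 0 := H.orth_symm (Mid_E hw' x hx)
      rw [e2, H.sub_left, hfa, H.sub_left, e3, sub_self, e4, sub_zero]
    rw [e, hy0, hw0, add_zero, add_zero]
    exact hx
  have hF1 : ∀ v ∈ RS Fr (Ni i), u v = v := fun v hv => by
    have := hFE f hFm (fun v _ => hft v) v hv
    rw [hfa] at this
    exact sub_eq_zero.1 this
  ext v
  obtain ⟨x, hx, y, hy, w, hw, rfl⟩ := exists_decomp (Fr := Fr) i v
  change u (x + y + w) = x + y + w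
  rw [map_add, map_add, h1 x hx, hF1 y hy, hmid w hw]

section gl

open Polynomial

variable {L : Type*} [Field L] [Algebra F L] {β : Basis {k : Fin n // k ≤ i} F L} {s : ℕ} {D : V ≃ₗ[F] V} {z : Lˣ}

theorem gl_irr (hD : Comp Fr i s D) (hadj : Algebra.adjoin F {(z : L)} = ⊤) (U : Submodule F V)
    (hU : U ≤ RS Fr (Si i)) (hU0 : U ≠ ⊥) (hUt : ∀ x ∈ U, (gl Fr β z * D) x ∈ U) : U = RS Fr (Si i) := by
  set U' : Submodule F L := U.comap (eE Fr β) with hU'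
  have hz : ∀ x ∈ U', (z : L) * x ∈ U' := fun x hx => by
    change eE Fr β (z * x) ∈ U
    rw [← t_eE hD]
    exact hUt _ hx
  let A : Subalgebra F L :=
    { carrier := {a | ∀ x ∈ U', a * x ∈ U'}
      mul_mem' := fun ha hb x hx => by rw [mul_assoc]; exact ha _ (hb _ hx)
      add_mem' := fun ha hb x hx => by rw [add_mul]; exact Submodule.add_mem _ (ha _ hx) (hb _ hx)
      algebraMap_mem' := fun c x hx => by rw [← Algebra.smul_def]; exact Submodule.smul_mem _ _ hx }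
  have hA : A = ⊤ := by
    rw [eq_top_iff, ← hadj]
    exact Algebra.adjoin_le (by rintro _ rfl; exact hz)
  obtain ⟨v, hv, hv0⟩ := Submodule.exists_mem_ne_zero_of_ne_bot hU0
  obtain ⟨x, rfl⟩ := exists_eE β (hU hv)
  have hx0 : x ≠ 0 := by rintro rfl; exact hv0 (map_zero _)
  apply le_antisymm hU
  intro w hw
  obtain ⟨y, rfl⟩ := exists_eE β hw
  have h1 : y * x⁻¹ ∈ A := by rw [hA]; trivial
  have h2 := h1 x hv
  rw [inv_mul_cancel_right₀ hx0] at h2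
  exact h2

variable [Finite V]

theorem gl_E (hD : Comp Fr i s D) : gl Fr β z * D ∈ StE (RS Fr (Si i)) := mem_StE_of_finite fun x hx => by
  obtain ⟨y, rfl⟩ := exists_eE β hx
  rw [t_eE hD]
  exact eE_mem _

theorem gl_F (hD : Comp Fr i s D) : gl Fr β z * D ∈ StE (RS Fr (Ni i)) := mem_StE_of_finite fun x hx => by
  obtain ⟨l, rfl⟩ := exists_fF β hx
  rw [t_fF hD]
  exact fF_mem _

theorem Fl.fpf (a : Fl cs h T X Fr N i) (hD : Comp Fr i s D) (ht : gl Fr β z * D ∈ GG cs h T X)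
    (hzs : (z : L) ^ s ≠ 1) (hzz : aeval (z : L) (minpoly F ((z⁻¹ : Lˣ) : L)) ≠ 0)
    (hnd : ∀ v, (∀ w, H.h v w = 0) → v = 0) : Fpf cs h T X Nᶜ (gl Fr β z * D) := by
  refine a.fpf_of (a.mem_LJ ht (gl_E hD) (gl_F hD)) ?_ ?_ (nd_of hnd)
  · intro f hf hft v hv
    obtain ⟨x, hx⟩ := exists_eE β (hf v hv)
    have h1 := aeval_comm f ((gl Fr β z * D : V ≃ₗ[F] V) : V →ₗ[F] V) ((gl Fr β z * D : V ≃ₗ[F] V) : V →ₗ[F] V)
      (Mid Fr i) (fun v hv => by change (gl Fr β z * D) v ∈ _; rw [t_mid hD hv]; exact hD.mid hv) hft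
      (Polynomial.X ^ s - 1) v hv
    rw [← hx, t_aeval_eE hD] at h1
    have h2 : aeval ((gl Fr β z * D : V ≃ₗ[F] V) : V →ₗ[F] V) (Polynomial.X ^ s - 1 : F[X]) v = 0 := by
      rw [map_sub, map_pow, aeval_X, map_one, LinearMap.sub_apply, H410.OZ.coe_pow, (pow_mid hD s v hv).1, hD.pow v hv]
      exact sub_self _
    rw [h2, map_zero] at h1
    have h3 : aeval (z : L) (Polynomial.X ^ s - 1 : F[X]) * x = 0 := eE_injective (by rw [← h1, map_zero])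
    rw [map_sub, map_pow, aeval_X, map_one] at h3
    rw [← hx, (mul_eq_zero.1 h3).resolve_left (sub_ne_zero.2 hzs), map_zero]
  · intro f hf hft v hv
    obtain ⟨l, rfl⟩ := exists_fF β hv
    obtain ⟨x, hx⟩ := exists_eE β (hf _ hv)
    have h1 := aeval_comm f ((gl Fr β z * D : V ≃ₗ[F] V) : V →ₗ[F] V) ((gl Fr β z * D : V ≃ₗ[F] V) : V →ₗ[F] V)
      (RS Fr (Ni i)) (fun v hv => by
        obtain ⟨l, rfl⟩ := exists_fF β hv
        change (gl Fr β z * D) _ ∈ _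
        rw [t_fF hD]
        exact fF_mem _) hft (minpoly F ((z⁻¹ : Lˣ) : L)) _ hv
    rw [← hx, t_aeval_eE hD, t_aeval_fF hD, minpoly.aeval] at h1
    have h2 : dl (0 : L) l = 0 := by
      ext y
      simp [dl]
    rw [h2, map_zero, map_zero] at h1
    have h3 : aeval (z : L) (minpoly F ((z⁻¹ : Lˣ) : L)) * x = 0 := eE_injective (by rw [← h1, map_zero])
    rw [← hx, (mul_eq_zero.1 h3).resolve_left hzz, map_zero]

omit [Finite V] in
/-- elements which commute with `gl z * D` -/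
theorem comm_gl (hD : Comp Fr i s D) {y : V ≃ₗ[F] V} {a b : F} (h1 : ∀ k ≤ i, y (Fr.b (k, true)) = a • Fr.b (k, true))
    (h2 : ∀ k ≤ i, y (Fr.b (k, false)) = b • Fr.b (k, false)) (h3 : ∀ v ∈ Mid Fr i, y v ∈ Mid Fr i)
    (h4 : ∀ v ∈ Mid Fr i, y (D v) = D (y v)) : y * (gl Fr β z * D) = gl Fr β z * D * y := by
  have e1 : ∀ x, y (eE Fr β x) = a • eE Fr β x := fun x => by
    rw [eE_apply, map_sum, Finset.smul_sum]
    exact Finset.sum_congr rfl fun k _ => by rw [map_smul, h1 k.1 k.2, smul_comm]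
  have e2 : ∀ x, y (fF Fr β x) = b • fF Fr β x := fun x => by
    rw [fF_apply, map_sum, Finset.smul_sum]
    exact Finset.sum_congr rfl fun k _ => by rw [map_smul, h2 k.1 k.2, smul_comm]
  ext v
  obtain ⟨x, hx, w, hw, m, hm, rfl⟩ := exists_decomp (Fr := Fr) i v
  obtain ⟨x, rfl⟩ := exists_eE β hx
  obtain ⟨l, rfl⟩ := exists_fF β hw
  change y ((gl Fr β z * D) _) = (gl Fr β z * D) (y _)
  simp only [map_add, map_smul, e1, e2, t_eE hD, t_fF hD, t_mid hD hm, t_mid hD (h3 m hm), h4 m hm]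

end gl

end Flag

/-! ### types `C` and `D` -/

section Types

variable {W : Type*} [Group W] {p : ℕ} {T : Subgroup (V ≃ₗ[F] V)}

theorem rg_iso {n : ℕ} (Fr : Frame H (Fin n)) (x : Fin n → ℤ) : rg Fr x ≤ SpIdent.isos H := by
  refine iSup_le fun q => ?_
  unfold PG
  split_ifs
  · rintro _ ⟨t, rfl⟩
    exact Fr.isIso_Z _ _
  · rintro _ ⟨t, rfl⟩
    exact Fr.isIso_X _ _ _

theorem rgD_iso {k : ℕ} (Fr : Frame H (Fin (k + 2))) (x : Fin (k + 2) → ℤ) : WittRGDD.rg Fr x ≤ SpIdent.isos H := by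
  refine iSup_le fun q => ?_
  rintro _ ⟨t, rfl⟩
  exact Fr.isIso_X _ _ _

theorem flC {n : ℕ} {Fr : Frame H (Fin n)} {cs : CoxeterSystem (CoxeterMatrix.B n) W} {p0 : Fr.Adm} (hp0 : p0.c ≠ 0)
    (R : RGD cs (TypeC.isCartan n) p T (WittRGD.nn Fr p0) (rg Fr)) (hT : ∀ t ∈ T, Mono Fr t id)
    (hs : ∀ t ∈ T, ∃ c, IsSim H c t) (i : Fin n) : Fl cs (TypeC.isCartan n) T (rg Fr) Fr {i} i := by
  have : Finite W := TypeC.finite_W cs
  have h1 : ∀ s, LJ cs (TypeC.isCartan n) T (rg Fr) {i}ᶜ ≤ StE (H769.OZ.E Fr i s) := fun s =>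
    sup_le (fun t ht => mono_StE (hT t ht) s) (RGD.Sup_le fun x hx => H769.OZ.rg_le_St hx.1 (hx.2 i (by simp)) s)
  have h2 : VJ cs (TypeC.isCartan n) (rg Fr) {i}ᶜ ≤ UR Fr i ⊓ SpIdent.isos H := by
    refine RGD.Sup_le fun x hx => le_inf ?_ (rg_iso Fr x)
    obtain ⟨k1, k2, j, hj, k3⟩ := hx
    obtain rfl : j = i := by simpa using hj
    exact H769.OZ.rg_le_UR k1 k2 k3
  refine ⟨by rw [← E_true]; exact h1 true, by rw [← E_false]; exact h1 false,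
    fun g hg => ⟨UR_le_Uni (h2 hg).1, (h2 hg).2⟩, fun g hg h3 => ?_,
    sim_of hs (rg_iso Fr)⟩
  have h4 : RGD.B cs (TypeC.isCartan n) T (rg Fr) ≤ StE (H769.OZ.E Fr i true) :=
    (B_le_PJ (J := {i}ᶜ)).trans (sup_le (h1 true) fun g hg => H769.OZ.UR_le_St (h2 hg).1)
  have h5 := inf_eq_PJ R h4
  have h6 : {j | WittRGD.nn Fr p0 j ∈ StE (H769.OZ.E Fr i true)} = {i}ᶜ := by
    ext j
    rw [Set.mem_ofPred_eq, H769.OZ.nn_StE_iff hp0]
    rfl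
  rw [h6, E_true] at h5
  exact (mem_PJ R).1 (h5.le ⟨h3, hg⟩)

theorem flD {k : ℕ} {Fr : Frame H (Fin (k + 2))} {cs : CoxeterSystem (TypeD.M k) W}
    (R : RGD cs (TypeD.isCartan k) p T (WittRGDD.nn Fr) (WittRGDD.rg Fr)) (hT : ∀ t ∈ T, Mono Fr t id)
    (hs : ∀ t ∈ T, ∃ c, IsSim H c t) {N : Set (Fin (k + 2))} {i : Fin (k + 2)} (hN : NodeK N i) :
    Fl cs (TypeD.isCartan k) T (WittRGDD.rg Fr) Fr N i := by
  have : Finite W := TypeD.finite_W cs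
  have h1 : ∀ s, LJ cs (TypeD.isCartan k) T (WittRGDD.rg Fr) Nᶜ ≤ StE (H769.OZ.E Fr i s) := fun s =>
    sup_le (fun t ht => mono_StE (hT t ht) s) (RGD.Sup_le fun x hx =>
      H985.XZ.rg_le_St hN hx.1 (fun j hj => hx.2 j fun h => h hj) s)
  have h2 : VJ cs (TypeD.isCartan k) (WittRGDD.rg Fr) Nᶜ ≤ UR Fr i ⊓ SpIdent.isos H := by
    refine RGD.Sup_le fun x hx => le_inf ?_ (rgD_iso Fr x)
    obtain ⟨k1, k2, j, hj, k3⟩ := hx
    exact H985.XZ.rg_le_UR hN k1 k2 ⟨j, not_not.1 hj, k3⟩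
  refine ⟨by rw [← E_true]; exact h1 true, by rw [← E_false]; exact h1 false,
    fun g hg => ⟨UR_le_Uni (h2 hg).1, (h2 hg).2⟩, fun g hg h3 => ?_,
    sim_of hs (rgD_iso Fr)⟩
  have h4 : RGD.B cs (TypeD.isCartan k) T (WittRGDD.rg Fr) ≤ StE (H769.OZ.E Fr i true) :=
    (B_le_PJ (J := Nᶜ)).trans (sup_le (h1 true) fun g hg => H769.OZ.UR_le_St (h2 hg).1)
  have h5 := inf_eq_PJ R h4
  have h6 : {j | WittRGDD.nn Fr j ∈ StE (H769.OZ.E Fr i true)} = Nᶜ := by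
    ext j
    exact H985.XZ.nn_StE_iff (Fr := Fr) hN j
  rw [h6, E_true] at h5
  exact (mem_PJ R).1 (h5.le ⟨h3, hg⟩)

theorem card_rg {n : ℕ} (Fr : Frame H (Fin n)) (hq : Nat.card Fr.Adm = Nat.card F) (i : Fin n) :
    Nat.card (rg Fr (sr i)) = Nat.card F := by
  rw [WittRGD.rg_sr]
  by_cases hi : (i : ℕ) + 1 < n
  · have hne : ((i, true) : Fin n × Bool).1 ≠ (TypeC.nx i).1 := by
      rw [TypeC.nx, dif_pos hi]
      simp [Fin.ext_iff]
    rw [PG_ne Fr hne, CardWitt.card_XG _ hne]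
  · rw [TypeC.nx, dif_neg hi, PG_self, ← hq]
    symm
    refine Nat.card_congr (Equiv.ofBijective (fun t : Fr.Adm => (⟨Fr.Z (i, true) t, t, rfl⟩ : ZG Fr (i, true))) ⟨?_, ?_⟩)
    · intro q q' e0
      have e : Fr.Z (i, true) q = Fr.Z (i, true) q' := congrArg Subtype.val e0
      generalize (i, true) = a at e
      have e1 := Z_apply_neg Fr a q
      rw [e, Z_apply_neg Fr a q'] at e1
      have e2 : Fr.η a • q'.w + (q'.c * Fr.η a) • Fr.b a = Fr.η a • q.w + (q.c * Fr.η a) • Fr.b a := by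
        rw [add_assoc, add_assoc] at e1
        exact add_left_cancel e1
      have e3 := congrArg (fun v => H.h (Fr.b (neg a)) v) e2
      simp only [H.add_right, H.smul_right, Fr.hb_neg_self, Fr.h0 _ _ (Fr.ok_mem q.ok), Fr.h0 _ _ (Fr.ok_mem q'.ok),
        mul_zero, zero_add] at e3
      have h0 := Fr.η_ne a
      have e5 : q'.c * Fr.η a = q.c * Fr.η a := H.σ.injective (mul_right_cancel₀ h0 e3)
      rw [e5] at e2
      exact Frame.Adm.ext (smul_right_injective _ h0 (add_right_cancel e2)).symm (mul_right_cancel₀ h0 e5).symm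
    · rintro ⟨_, t, rfl⟩
      exact ⟨t, rfl⟩

/-- the group of a model is generated by the torus and the root groups -/
theorem model_le {n : ℕ} {Fr : Frame H (Fin n)} {K : Type*} [Group K] (M : Model Fr K) (hn : 0 < n)
    (cs : CoxeterSystem (CoxeterMatrix.B n) W) (hT : Tor Fr M.I ≤ T) :
    M.I ≤ GG cs (TypeC.isCartan n) T (rg Fr) := by
  intro g hg
  have h1 : G1 cs (TypeC.isCartan n) (WittModel.X M) ≤
      ((GG cs (TypeC.isCartan n) T (rg Fr)).subgroupOf M.I).map M.φ :=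
    RGD.Sup_le fun x hx => Subgroup.map_mono (Subgroup.comap_mono (X_le_GG hx))
  rw [WittModel.G1_eq_top M hn cs] at h1
  obtain ⟨g', hg', e⟩ := h1 (Subgroup.mem_top (M.φ ⟨g, hg⟩))
  have h2 : M.φ (g'⁻¹ * ⟨g, hg⟩) = 1 := by rw [map_mul, map_inv, e, inv_mul_cancel]
  have h3 : g'.1⁻¹ * g ∈ Tor Fr M.I := by
    refine ⟨mul_mem (inv_mem g'.2) hg, fun x => ?_⟩
    obtain ⟨a, ha⟩ : ∃ a : F, (g'.1⁻¹ * g) (Fr.b x) = a • Fr.b x := M.ker (Fr.b x) _ h2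
    refine ⟨a, ?_, ha⟩
    rintro rfl
    rw [zero_smul, LinearEquiv.map_eq_zero_iff] at ha
    exact b_ne _ ha
  have h4 := mul_mem (show g'.1 ∈ GG cs (TypeC.isCartan n) T (rg Fr) from hg') (T_le_GG (hT h3))
  rwa [mul_inv_cancel_left] at h4

end Types

/-! ### the diagonal torus -/

section Torus

variable {n : ℕ} (Fr : Frame H (Fin n))

/-- the diagonal torus -/
def Dh : (Fin n → Fˣ) →* (V ≃ₗ[F] V) where
  toFun l := dg Fr (lam l) 1
  map_one' := by rw [H644.OZ.lam_one, H644.OZ.dg_one]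
  map_mul' l l' := by rw [H644.OZ.lam_mul, ← H644.OZ.dg_mul, mul_one]

theorem Dh_apply (l : Fin n → Fˣ) : Dh Fr l = dg Fr (lam l) 1 := rfl

theorem Dh_b (l : Fin n → Fˣ) (x : Fin n × Bool) : Dh Fr l (Fr.b x) = (lam l x : F) • Fr.b x := H644.OZ.dg_b Fr _ _ x

theorem dg_comm (s s' : Fin n × Bool → Fˣ) (a a' : Fˣ) : dg Fr s a * dg Fr s' a' = dg Fr s' a' * dg Fr s a := by
  rw [← H644.OZ.dg_mul, ← H644.OZ.dg_mul, mul_comm s, mul_comm a]

theorem dg_pow (s : Fin n × Bool → Fˣ) (a : Fˣ) (m : ℕ) : dg Fr s a ^ m = dg Fr (s ^ m) (a ^ m) := by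
  induction m with
  | zero => rw [pow_zero, pow_zero, pow_zero, H644.OZ.dg_one]
  | succ m ih => rw [pow_succ, ih, ← H644.OZ.dg_mul, ← pow_succ, ← pow_succ]

theorem dg_pow_card [Finite F] (s : Fin n × Bool → Fˣ) (a : Fˣ) : dg Fr s a ^ (Nat.card F - 1) = 1 := by
  have h1 : ∀ b : Fˣ, b ^ (Nat.card F - 1) = 1 := fun b => by rw [← Nat.card_units, pow_card_eq_one']
  rw [dg_pow, h1, show s ^ (Nat.card F - 1) = 1 from funext fun x => h1 (s x), H644.OZ.dg_one]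

variable {Fr} (hV0 : ∀ v, (∀ x, H.h v (Fr.b x) = 0) → v ∈ Fr.V0)

include hV0

theorem iso_V0 {g : V ≃ₗ[F] V} (hg : H.IsIso g) {π : Fin n × Bool → Fin n × Bool} (hm : Mono Fr g π)
    (hπ : ∀ x, π (π x) = x) {w : V} (hw : w ∈ Fr.V0) : g w ∈ Fr.V0 := by
  refine hV0 _ fun x => ?_
  obtain ⟨l, hl, e⟩ := hm (π x)
  rw [hπ] at e
  have h1 := hg w (Fr.b (π x))
  rw [e, H.smul_right, Fr.h0' _ hw] at h1
  exact (mul_eq_zero.1 h1).resolve_left (by simpa using hl)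

/-- a diagonal map which is a scalar on `V0` -/
theorem exists_dg {g : V ≃ₗ[F] V} (hm : Mono Fr g id) {a : Fˣ} (h0 : ∀ w ∈ Fr.V0, g w = (a : F) • w) :
    ∃ s, g = dg Fr s a := by
  choose l hl e using hm
  exact ⟨fun x => Units.mk0 (l x) (hl x), H644.OZ.ext_b hV0 (fun x => by rw [e, H644.OZ.dg_b]; rfl)
    fun w hw => by rw [h0 w hw, H644.OZ.dg_V0 _ _ _ hw]⟩

omit hV0 in
theorem exists_lam (hσ : ∀ a, H.σ a = a) {s : Fin n × Bool → Fˣ} {a : Fˣ} (hg : H.IsIso (dg Fr s a)) :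
    ∃ l, s = lam l := by
  refine ⟨fun k => s (k, true), funext fun ⟨k, b⟩ => ?_⟩
  cases b
  · have h1 := hg (Fr.b (k, true)) (Fr.b (k, false))
    rw [H644.OZ.dg_b, H644.OZ.dg_b, H.smul_left, H.smul_right, hσ, Fr.hb] at h1
    simp only [ne_eq, Bool.true_eq_false, not_false_eq_true, and_self, if_true, mul_one] at h1
    exact eq_inv_of_mul_eq_one_right (Units.ext h1)
  · rfl

end Torus

section TD

variable {k : ℕ} {Fr : Frame H (Fin (k + 2))} (hV0 : ∀ v, (∀ x, H.h v (Fr.b x) = 0) → v ∈ Fr.V0)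
  {W : Type*} [Group W] {T : Subgroup (V ≃ₗ[F] V)} (hT : ∀ t ∈ T, ∃ s a, t = dg Fr s a) (hD : ∀ l, Dh Fr l ∈ T)

include hV0

theorem nn_dg {p0 : Fr.Adm} (hp0 : p0.c ≠ 0) (i : Fin (k + 2)) (s : Fin (k + 2) × Bool → Fˣ) (a : Fˣ) :
    (WittRGD.nn Fr p0 i)⁻¹ * dg Fr s a * WittRGD.nn Fr p0 i = dg Fr (fun x => s (TypeC.sg i x)) a :=
  H644.OZ.conj_dg hV0 (WittRGD.mono_nn hp0 i) (fun _ hw => iso_V0 hV0
    (sup_le (rg_iso Fr _) (rg_iso Fr _) (WittRGD.nn_mem_sup p0 i)) (WittRGD.mono_nn hp0 i) (TypeC.sg_sg i) hw) s a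

include hT hD

theorem tdC (cs : CoxeterSystem (CoxeterMatrix.B (k + 2)) W) {p0 : Fr.Adm} (hp0 : p0.c ≠ 0) :
    TD (swB cs) T (WittRGD.nn Fr p0) (Dh Fr) where
  comm a ha b hb := by
    obtain ⟨s, c, rfl⟩ := hT a ha
    obtain ⟨s', c', rfl⟩ := hT b hb
    exact dg_comm Fr _ _ _ _
  mem := hD
  nn i l := by
    rw [Dh_apply, nn_dg hV0 hp0, Dh_apply]
    congr 1
    funext x
    rw [lam_ac]
    change _ = lam l (H215.WB.cc (H215.WB.homB cs (cs.simple i)) x)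
    rw [H215.WB.homB_simple, H215.WB.cc_gen]
    rfl

theorem tdD (cs : CoxeterSystem (TypeD.M k) W) : TD (swD cs) T (WittRGDD.nn Fr) (Dh Fr) where
  comm a ha b hb := by
    obtain ⟨s, c, rfl⟩ := hT a ha
    obtain ⟨s', c', rfl⟩ := hT b hb
    exact dg_comm Fr _ _ _ _
  mem := hD
  nn i l := by
    rw [Dh_apply, H644.OZ.conj_dg hV0 (WittRGDD.mono_nn i) (fun _ hw => iso_V0 hV0
      (sup_le (rgD_iso Fr _) (rgD_iso Fr _) (WittRGDD.nn_mem_sup i)) (WittRGDD.mono_nn i) (TypeD.sg_sg i) hw), Dh_apply]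
    congr 1
    funext x
    rw [lam_ac]
    change _ = lam l (H215.WB.cc (H493.CC.homD cs (cs.simple i)) x)
    rw [H493.CC.homD_simple, H493.CC.cc_genD]
    rfl

end TD

end Cfsg.Agent.VAN.C
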