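import Cfsg.Agent.VAN.C.Gl
import Cfsg.Agent.H644.OZ.OmTD
import Cfsg.Agent.H410.OZ.OmF
import Cfsg.Agent.H353.PanO
import Cfsg.Agent.S0292

/-!
# S4942: the triple of `POmega_{2m+1}(q)`, `q` odd, `m ≥ 3` (helper29)
-/

set_option autoImplicit false
set_option linter.unusedSectionVars false
set_option maxHeartbeats 400000

namespace Cfsg.Agent.VAN.C

open CoxeterSystem Cfsg Cfsg.Agent.ChevalleyStructure.CoxeterGeom Cfsg.Agent.Tits.Roots
  Cfsg.Agent.Nodes.Reps Cfsg.Agent.Nodes.BNOf Cfsg.Agent.Nodes.Bruhat Cfsg.Agent.Nodes.LeviDec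
  Cfsg.Agent.VAN.HC Cfsg.Agent.Nodes.RGDLib Cfsg.Agent.Nodes Cfsg.Agent.Nodes.WittRoot
open Cfsg.Agent.TitsThree Cfsg.Agent.TitsThree.Siegel Cfsg.Agent.TitsThree.WittFrame Cfsg.Agent.TitsThree.WittWeyl
  Cfsg.Agent.TitsThree.FrameCN
open Cfsg.Agent.H62.PCFrame Cfsg.Agent.H62.PCWitt Cfsg.Agent.H410.OZ Module
open Cfsg.Agent.H553.AF (IsSim)
open Cfsg.Agent.H644.OZ (dg lam)
open Cfsg.Agent.H279.VZ (GE)
open Cfsg.Agent.Nodes.TypeD (pd)
open Cfsg.Agent.Nodes.WittRGD (Tor)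
open Cfsg.Agent.LieClassical Cfsg.Agent.LieClassical.OrthCore Cfsg.Agent.LieClassical.OrthForms
open Cfsg.Agent.TitsThree.KSideO Cfsg.Agent.TitsThree.WBridge Cfsg.Agent.Nodes.WittInst

namespace OddB

theorem lam_single {F : Type*} [Field F] {n : ℕ} {i : Fin n} (b : Fˣ) {x : Fin n × Bool} (h : x.1 ≠ i) :
    lam (Pi.mulSingle i b) x = 1 := by
  obtain ⟨j, s⟩ := x
  cases s
  · rw [H644.OZ.lam_false, Pi.mulSingle_eq_of_ne h, inv_one]
  · rw [H644.OZ.lam_true, Pi.mulSingle_eq_of_ne h]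

section gen

variable {F : Type*} [Field F] {V : Type*} [AddCommGroup V] [Module F V] {H : HForm F V} {k : ℕ}
  {Fr : Frame H (Fin (k + 2))} (hV0 : ∀ v, (∀ x, H.h v (Fr.b x) = 0) → v ∈ Fr.V0) {p0 : Fr.Adm} (hp0 : p0.c ≠ 0)

include hV0 hp0

theorem nn_comm (b : Fˣ) (j : Fin (k + 2)) (hj : (j : ℕ) < k) :
    WittRGD.nn Fr p0 j * Dh Fr (Pi.mulSingle (Fin.last (k + 1)) b) =
      Dh Fr (Pi.mulSingle (Fin.last (k + 1)) b) * WittRGD.nn Fr p0 j := by
  have h1 := nn_dg hV0 hp0 j (lam (Pi.mulSingle (Fin.last (k + 1)) b)) 1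
  have h2 : ∀ s, TypeC.sg j (Fin.last (k + 1), s) = (Fin.last (k + 1), s) := fun s =>
    TypeC.sg_of_ne (fun e => by
      have := congrArg Fin.val e
      simp only [Fin.val_last] at this
      omega) (by simp only [Fin.val_last]; omega)
  have h3 : (fun x => lam (Pi.mulSingle (Fin.last (k + 1)) b) (TypeC.sg j x)) =
      lam (Pi.mulSingle (Fin.last (k + 1)) b) := funext fun x => by
    by_cases hx : x.1 = Fin.last (k + 1)
    · obtain ⟨i, s⟩ := x
      obtain rfl : i = Fin.last (k + 1) := hx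
      rw [h2]
    · rw [lam_single b hx, lam_single b fun e => hx ((TypeC.sg_fst_eq j (y := (Fin.last (k + 1), true))).1
        (by rw [h2]; exact e))]
  rw [h3, ← Dh_apply, mul_assoc, inv_mul_eq_iff_eq_mul] at h1
  exact h1.symm

theorem nn_last (a : Fˣ) :
    WittRGD.nn Fr p0 (Fin.last (k + 1)) * Dh Fr (Pi.mulSingle (Fin.last (k + 1)) a⁻¹) *
      (WittRGD.nn Fr p0 (Fin.last (k + 1)))⁻¹ =
      Dh Fr (Pi.mulSingle (Fin.last (k + 1)) a⁻¹) * Dh Fr (Pi.mulSingle (Fin.last (k + 1)) (a ^ 2)) := by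
  have h1 := nn_dg hV0 hp0 (Fin.last (k + 1)) (lam (Pi.mulSingle (Fin.last (k + 1)) a)) 1
  have h3 : (fun x => lam (Pi.mulSingle (Fin.last (k + 1)) a) (TypeC.sg (Fin.last (k + 1)) x)) =
      lam (Pi.mulSingle (Fin.last (k + 1)) a⁻¹) := funext fun x => by
    by_cases hx : x.1 = Fin.last (k + 1)
    · obtain ⟨i, s⟩ := x
      obtain rfl : i = Fin.last (k + 1) := hx
      rw [TypeC.sg_last (by simp)]
      cases s
      · simp only [Bool.not_false, H644.OZ.lam_true, H644.OZ.lam_false, Pi.mulSingle_eq_same, inv_inv]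
      · simp only [Bool.not_true, H644.OZ.lam_true, H644.OZ.lam_false, Pi.mulSingle_eq_same]
    · rw [lam_single _ hx, TypeC.sg_of_ne hx (by have := x.1.2; simp only [Fin.val_last]; omega), lam_single _ hx]
  rw [h3, ← Dh_apply, ← Dh_apply] at h1
  rw [← map_mul, ← Pi.mulSingle_mul, pow_two, inv_mul_cancel_left, ← h1]
  group

end gen

variable {F : Type} [Field F] {m : ℕ}

theorem tor_O (h2 : (2 : F) ≠ 0) {y : Vo m F ≃ₗ[F] Vo m F} (hy : y ∈ Tor (toFrame (wodd m F)) (O (oddForm m F))) :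
    ∃ (l : Fin m → Fˣ) (a : Fˣ), y = dg (toFrame (wodd m F)) (lam l) a ∧ a * a = 1 := by
  have hA := H644.OZ.amb_OO (m := m) h2
  have h1 := H644.OZ.V0_span (hA.map_V0 hy.1 hy.2 (ρ := id) (fun _ => rfl) (H644.OZ.single_V0 m F))
  generalize y (Pi.single (Sum.inl ()) 1) (Sum.inl ()) = a at h1
  have h3 : a * a = 1 := by
    have h3 := mem_O.1 hy.1 (Pi.single (Sum.inl ()) 1)
    have h4 : oddForm m F (Pi.single (Sum.inl ()) 1) = 1 := by
      rw [coe_oddForm, quadFormOdd_apply]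
      simp
    rwa [h1, QuadraticMap.map_smul, h4, smul_eq_mul, mul_one] at h3
  obtain ⟨s, hs⟩ := exists_dg hA.V0 hy.2 (a := ⟨a, a, h3, h3⟩) fun w hw => by
    rw [H644.OZ.V0_span hw, map_smul, h1, smul_comm]
  obtain ⟨l, rfl⟩ := exists_lam (fun _ => rfl) (hs ▸ hA.iso y hy.1)
  exact ⟨l, _, hs, Units.ext h3⟩

theorem tor_split (h2 : (2 : F) ≠ 0) (y : Vo m F ≃ₗ[F] Vo m F)
    (hy : y ∈ Tor (toFrame (wodd m F)) (O (oddForm m F))) :
    ∃ c l, y = c * Dh (toFrame (wodd m F)) l ∧ ∀ x, c * x = x * c := by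
  obtain ⟨l, a, rfl, ha⟩ := tor_O h2 hy
  refine ⟨dg (toFrame (wodd m F)) (fun _ => a) a, fun j => a * l j, ?_, fun x => LinearEquiv.ext fun v => ?_⟩
  · rw [Dh_apply, ← H644.OZ.dg_mul, mul_one]
    congr 1
    funext ⟨j, s⟩
    cases s
    · simp only [Pi.mul_apply, H644.OZ.lam_false, mul_inv, mul_inv_cancel_left]
    · simp only [Pi.mul_apply, H644.OZ.lam_true, ← mul_assoc, ha, one_mul]
  · simp only [LinearEquiv.mul_apply, H644.OZ.dg_apply, sub_self, zero_mul, zero_smul, Finset.sum_const_zero, add_zero,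
      map_smul]

theorem tt_Dh (h2 : (2 : F) ≠ 0) (j : Fin m) (d : Fˣ) : adE j (dgl d) = Dh (toFrame (wodd m F)) (Pi.mulSingle j d) := by
  refine H644.OZ.ext_b (H644.OZ.amb_OO h2).V0 (fun ⟨i, s⟩ => ?_) fun w hw => ?_
  · rw [Dh_b]
    by_cases hi : i = j
    · subst hi
      cases s
      · rw [tt_bf, H644.OZ.lam_false, Pi.mulSingle_eq_same, Units.val_inv_eq_inv_val]
      · rw [tt_bt, H644.OZ.lam_true, Pi.mulSingle_eq_same]
    · rw [lam_single d hi, Units.val_one, one_smul,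
        tt_fix j d (by rw [b_x]; simp [Ne.symm hi]) (by rw [b_y]; simp [Ne.symm hi])]
  · rw [Dh_apply, H644.OZ.dg_V0 _ _ _ hw, Units.val_one, one_smul, H644.OZ.V0_span hw]
    exact tt_fix j d (by simp) (by simp)

/-- the rotation of the last anisotropic plane -/
theorem exists_rot [Finite F] {i j : Fin m} (hij : i < j) {d : Fˣ} (hd : ¬ IsSquare d) :
    ∃ (A : GL (Fin 2) F) (S : Matrix.SpecialLinearGroup (Fin 2) F), Anis A.1 ∧
      A = Matrix.SpecialLinearGroup.toGL S * dgl d ∧ Comp (toFrame (wodd m F)) i (Nat.card F + 1) (adE j A) := by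
  obtain ⟨L, _, _, _, b, -, hfr, -, -⟩ := exists_ext F (ι := Fin 2) two_pos (Fintype.card_fin 2)
  have : FiniteDimensional F L := Module.Finite.of_finite
  obtain ⟨y, hy⟩ := nu_surj (L := L) d
  have h1 : Algebra.norm F (y : L) = d := congrArg Units.val hy
  let A : GL (Fin 2) F := Matrix.GeneralLinearGroup.mkOfDetNeZero (Algebra.leftMulMatrix b (y : L))
    (det_mul_ne b y.ne_zero)
  have hA : A.1 = Algebra.leftMulMatrix b (y : L) := rfl
  obtain ⟨S, e, hS, -⟩ := exists_SL A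
  have h3 : e = d := by
    have h3 := congrArg (fun B : GL (Fin 2) F => B.1.det) hS
    simp only [Units.val_mul, Matrix.det_mul, Matrix.SpecialLinearGroup.coe_GL_coe_matrix, S.det_coe, one_mul,
      dgl_val, Matrix.det_fin_two_of, mul_one, mul_zero, sub_zero] at h3
    rw [hA, ← Algebra.norm_eq_matrix_det, h1] at h3
    exact Units.ext h3.symm
  have hpow : adE j A ^ (Nat.card F + 1) = 1 := by
    rw [← map_pow]
    refine LinearEquiv.ext fun v => ?_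
    rw [adE_apply, Units.val_pow_eq_pow_val, hA, ← map_pow]
    have h3 : (y : L) ^ (Nat.card F + 1) = algebraMap F L (Algebra.norm F (y : L)) := by
      rw [FiniteField.algebraMap_norm_eq_pow_sum, hfr]
      congr 1
      simp
    rw [h3, AlgHom.commutes]
    exact adL_scalar j (Algebra.norm_ne_zero_iff.2 y.ne_zero) v
  refine ⟨A, S, hA ▸ anis_mul b fun l hl => hd ?_, h3 ▸ hS, (comp_odd hij (s := 0) (pow_zero A)).iso,
    (comp_odd hij (s := 0) (pow_zero A)).fix, fun v _ => by rw [hpow]; rfl⟩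
  rw [hl, Algebra.norm_algebraMap, hfr, pow_two] at h1
  have h4 : l ≠ 0 := by
    rintro rfl
    exact d.ne_zero (by rw [← h1, mul_zero])
  exact ⟨Units.mk0 l h4, Units.ext h1.symm⟩

theorem nu_not_sq [Finite F] (h2 : (2 : F) ≠ 0) {L : Type*} [Field L] [Algebra F L] [Finite L] {γ : Lˣ}
    (hγ : ∀ z : Lˣ, z ∈ Subgroup.zpowers γ) : ¬ IsSquare (nu F γ)⁻¹ := by
  intro h
  obtain ⟨a, ha⟩ := FiniteField.exists_nonsquare (F := F) fun e => h2 (by
    have := ringChar.Nat.cast_ringChar (R := F)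
    rw [e] at this
    exact_mod_cast this)
  have h0 : a ≠ 0 := by
    rintro rfl
    exact ha ⟨0, (mul_zero _).symm⟩
  obtain ⟨z, hz⟩ := nu_surj (L := L) (Units.mk0 a h0)
  obtain ⟨n, rfl⟩ := hγ z
  have h1 : IsSquare (Units.mk0 a h0) := by
    rw [← hz, map_zpow]
    exact (isSquare_inv.1 h).zpow n
  obtain ⟨c, hc⟩ := h1
  exact ha ⟨c, congrArg Units.val hc⟩

end OddB

open OddB in
/-- **the triple of `POmega_{2m+1}(q)`** -/
theorem van3_odd {F : Type} [Field F] [Fintype F] (hF : Odd (Fintype.card F)) {m : ℕ} (hm : 3 ≤ m) :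
    Van3 (POmega F (quadFormOdd m F)) := by
  obtain ⟨k, rfl⟩ : ∃ k, m = k + 2 := ⟨m - 2, by omega⟩
  have hk : 0 < k := by omega
  obtain ⟨p, hcp⟩ := CharP.exists F
  obtain ⟨f, hpp, hf⟩ := FiniteField.card F p
  have : Fact p.Prime := ⟨hpp⟩
  have hp2 : ¬ p ∣ 2 := fun e => by
    rw [hf, (Nat.prime_dvd_prime_iff_eq hpp Nat.prime_two).1 e] at hF
    exact (Nat.not_even_iff_odd.2 hF) (Nat.even_pow.2 ⟨even_two, f.ne_zero⟩)
  have h2 : (2 : F) ≠ 0 := fun e => hp2 ((CharP.cast_eq_zero_iff F p 2).1 (by exact_mod_cast e))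
  have h3 := three_le F h2
  have hq : Nat.card F = p ^ (f : ℕ) := Nat.card_eq_fintype_card.trans hf
  have hG := good_odd (m := k + 2) h2 (by omega)
  obtain ⟨p0, hp0⟩ := adm_odd (k + 2) F
  have hA := H644.OZ.amb_OO (m := k + 2) h2
  have hE := amb_O_of_two (wodd (k + 2) F) h2
  have : Finite (Vo (k + 2) F ≃ₗ[F] Vo (k + 2) F) :=
    Finite.of_injective (fun g : Vo (k + 2) F ≃ₗ[F] Vo (k + 2) F => (g : Vo (k + 2) F → Vo (k + 2) F))
      DFunLike.coe_injective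
  let cs := (CoxeterMatrix.B (k + 2)).toCoxeterSystem
  have := TypeC.finite_W cs
  have R := WittAll.rgdC (WittAll.AmbT.of_amb hA p) hp0 cs
  have hD : ∀ l, Dh (toFrame (wodd (k + 2) F)) l ∈ Tor (toFrame (wodd (k + 2) F)) (O (oddForm (k + 2) F)) := fun l =>
    ⟨H644.OZ.dg_mem_O l, H644.OZ.mono_dg _ _ _⟩
  have t := tdC hA.V0 (fun y hy => (tor_O h2 hy).elim fun _ h => h.elim fun a h => ⟨_, a, h.1⟩) hD cs hp0
  have s : Nm cs (TypeC.isCartan (k + 2)) (Tor (toFrame (wodd (k + 2) F)) (O (oddForm (k + 2) F)))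
      (rg (toFrame (wodd (k + 2) F))) (E (oddForm (k + 2) F)) :=
    ⟨model_le (model (wodd (k + 2) F) hG ⟨p0, hp0⟩) (by omega) cs fun y hy => ⟨E_le_O hy.1, hy.2⟩,
      fun x _ => hE.rg_le x, fun y hy z hz => conj_mem_E hy.1 hz⟩
  have hn := WittRGD.nn_mem hE p0
  have hT : ∀ y ∈ Tor (toFrame (wodd (k + 2) F)) (O (oddForm (k + 2) F)), Mono (toFrame (wodd (k + 2) F)) y id :=
    fun y hy => hy.2
  have hs : ∀ y ∈ Tor (toFrame (wodd (k + 2) F)) (O (oddForm (k + 2) F)), ∃ c, IsSim (HO (oddForm (k + 2) F)) c y :=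
    fun y hy => ⟨1, IsSim.of_iso (hA.iso y hy.1)⟩
  have hGE : ∀ {i : Fin (k + 2)} (_ : 0 < i) {L : Type} [Field L] [Algebra F L]
      (β : Basis {j : Fin (k + 2) // j ≤ i} F L) (A : L ≃ₗ[F] L), LinearMap.det (A : L →ₗ[F] L) = 1 →
      GE (toFrame (wodd (k + 2) F)) β A ∈ E (oddForm (k + 2) F) := fun hi L _ _ β A h =>
    hG.commutator_eq_E ▸ GE_mem_comm hi ⟨2, h2, fun e => one_ne_zero (by linear_combination e : (1 : F) = 0)⟩
      (fun B => mem_O_of_iso h2 (H279.VZ.isIso_GE (fun _ => rfl) B)) A h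
  obtain ⟨L₁, _, _, _, β₁, γ₁, k1, k2, -⟩ := exists_sing F (Fin.last (k + 1))
  obtain ⟨L₂, _, _, _, β₂, γ₂, k3, k4, k5⟩ := exists_sing F (pd k)
  have hi₁ : (0 : Fin (k + 2)) < Fin.last (k + 1) := Fin.last_pos
  have hi₂ : (0 : Fin (k + 2)) < pd k := hk
  obtain ⟨A, S, a1, a2, a3⟩ := exists_rot (pd_lt (k := k)) (nu_not_sq h2 k5)
  have m₁ : gl (toFrame (wodd (k + 2) F)) β₁ (γ₁ ^ 2) * 1 ∈ E (oddForm (k + 2) F) := by
    rw [mul_one, pow_two, map_mul]
    exact sq_mem_EQ hG (mem_O_of_iso h2 (isIso_gl (fun _ => rfl) γ₁))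
  have m₂ : gl (toFrame (wodd (k + 2) F)) β₂ (γ₂ ^ 1) * adE (Fin.last (k + 1)) A ∈ E (oddForm (k + 2) F) := by
    have h4 := gl_red (hGE hi₂ β₂) γ₂
    have h5 := t.red R s hn (Pi.mulSingle (Fin.last (k + 1)) (nu F γ₂)⁻¹)
    rw [Finset.prod_pi_mulSingle', if_pos (Finset.mem_univ _), Pi.mulSingle_inv, map_inv] at h5
    have h6 := mul_mem (conj_mem_E (hD (Pi.mulSingle 0 (nu F γ₂))).1
      (mul_mem (inv_mem h4) (adE_SL (Fin.last (k + 1)) h2 hG S))) h5
    rw [pow_one, a2, map_mul, tt_Dh h2]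
    convert h6 using 1
    group
  obtain ⟨r, hr⟩ := H530.OZ.exists_prim (p := Nat.card F) (n := 2 * (k + 1)) (by omega) (by omega) (by omega)
  have hrp : r ≠ p := fun e => hr.nd (by rw [hq, e]; exact dvd_pow_self p f.ne_zero)
  have : Finite (POmega F ⇑(oddForm (k + 2) F)) := Finite.of_surjective _ (toPOmega_surjective hG)
  obtain ⟨g, o1, o2⟩ := exists_mixed_BC (S := POmega F ⇑(oddForm (k + 2) F))
    (by rw [coe_oddForm]; exact hasRGD_PO_odd h2 (by omega)) f.pos hk hp2 dvd_rfl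
    (by rw [coe_oddForm]; exact S0292.result hf (hf ▸ hF) (k + 2) hm) (hq ▸ hr)
  obtain ⟨g, rfl⟩ := toPOmega_surjective hG g
  have o3 := (orderOf_map_dvd (toPOmega hG) g).trans (Subgroup.orderOf_coe g).symm.dvd
  rw [← coe_oddForm]
  refine Van3.of_surj ?_ (toPOmega hG) (toPOmega_surjective hG)
  refine vanA' R s hk t (e := 2) (fun a => ⟨_, hD _, nn_comm hA.V0 hp0 a⁻¹, nn_last hA.V0 hp0 a⟩) (fun y hy hy' => ?_)
    m₁ m₂ g.2 (cov_gl R t s hn (tor_split h2) (hGE hi₁ β₁) (comp_one _ _) _)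
    (cov_gl R t s hn (tor_split h2) (hGE hi₂ β₂) a3 _)
    (elC_last hT hs (sing_of k1 k2 (C.good2 (by omega) (by rw [Fin.val_last]; omega))) (fun v h => nd_odd h2 h) hp0 R
      (comp_one _ _) (s.le m₁))
    (elC_pd hT hs (sing_of k3 k4 (good1 (by omega) (Nat.succ_le_succ hk) (Or.inl h3) (Nat.succ_pos _) le_rfl))
      (fun v h => nd_odd h2 h) hp0 R a3 (s.le m₂) (iso_odd h2 rfl rfl a1))
    (card_rg _ ((H353.PanO.card_adm _).trans H353.PanO.card_V0_odd)) hr.prime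
    (not_dvd_B R hr.prime hrp (q := Nat.card F - 1) (fun y hy => ?_) ?_)
    (fun n hn => prim_sum hr (by omega) (by omega)) (fun n hn => prim_add hr (by omega) (by omega) (by omega))
    (o1.trans o3) (o2.trans o3)
  · obtain ⟨l, rfl⟩ := H644.OZ.tor_dg hG h2 ⟨hy', hy.2⟩
    have h4 := mul_mem hy' (inv_mem (t.red R s hn l))
    rw [← Dh_apply, mul_inv_rev, inv_inv, mul_inv_cancel_left] at h4
    obtain ⟨c, hc⟩ := H644.OZ.square_of_mem h2 hG 0 _ h4
    exact ⟨l, c, rfl, by rw [hc, pow_two]⟩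
  · obtain ⟨l, a, rfl, -⟩ := tor_O h2 hy
    exact dg_pow_card _ _ _
  · have h4 := prim_sub hr (by omega) one_pos (by omega)
    rwa [pow_one] at h4

end Cfsg.Agent.VAN.C
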