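import Cfsg.Agent.VAN.C.Gl
import Cfsg.Agent.VAN.C.G3Plus
import Cfsg.Agent.VAN.HC.Trans
import Cfsg.Agent.H644.OZ.OmTD

/-!
# S4942: the orthogonal groups of plus type (helper91)

`van3_plus` : `PΩ⁺_{2n}(q)`, `n ≥ 4`.
-/

set_option autoImplicit false
set_option linter.unusedSectionVars false
set_option maxHeartbeats 400000

namespace Cfsg.Agent.VAN.C

open CoxeterSystem Cfsg Cfsg.Agent.ChevalleyStructure.CoxeterGeom Cfsg.Agent.Tits.Roots
  Cfsg.Agent.Nodes.Reps Cfsg.Agent.Nodes.BNOf Cfsg.Agent.Nodes.Bruhat Cfsg.Agent.Nodes.LeviDec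
  Cfsg.Agent.VAN.HC Cfsg.Agent.Nodes.RGDLib Cfsg.Agent.Nodes Cfsg.Agent.Nodes.WittRoot
open Cfsg.Agent.TitsThree Cfsg.Agent.TitsThree.Siegel Cfsg.Agent.TitsThree.WittFrame Cfsg.Agent.TitsThree.WittWeyl
  Cfsg.Agent.TitsThree.FrameCN
open Cfsg.Agent.H62.PCFrame Cfsg.Agent.H62.PCWitt Cfsg.Agent.H410.OZ Module
open Cfsg.Agent.H985.XZ (NodeK)
open Cfsg.Agent.H553.AF (IsSim)
open Cfsg.Agent.H644.OZ (dg lam)
open Cfsg.Agent.H279.VZ (GE)
open Cfsg.Agent.Nodes.TypeD (pd)
open Cfsg.Agent.Nodes.WittRGD (Tor)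
open QuadraticMap Cfsg.Agent.LieClassical Cfsg.Agent.LieClassical.OrthCore Cfsg.Agent.LieClassical.OrthForms
open Cfsg.Agent.LieClassical.OrthFinite
open Cfsg.Agent.TitsThree.KSideO Cfsg.Agent.TitsThree.WBridge Cfsg.Agent.Nodes.WittU Cfsg.Agent.Nodes.WittInst
open Cfsg.Agent.ClassicalGeometry.SpinorSign Cfsg.Agent.ClassicalGeometry.Reflection

namespace Plus

section Gen

variable {ι : Type} [Fintype ι] [DecidableEq ι] {F : Type} [Field F] {Q : QuadraticForm F (ι → F)} {k : ℕ}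
  (W : SiegelGen.WFrame (PO Q) (k + 2))

theorem Q_RS {S : Set (Fin (k + 2) × Bool)} (hS : IsoS S) : ∀ v ∈ RS (toFrame W) S, Q v = 0 := by
  intro v hv
  refine Submodule.span_induction (p := fun v _ => Q v = 0) ?_ (QuadraticMap.map_zero Q) (fun x y hx hy h1 h2 => ?_)
    (fun c x _ h1 => ?_) hv
  · rintro _ ⟨a, -, rfl⟩
    exact (sing_iff Q).1 (b_sing W a)
  · rw [Q_add, h1, h2, show polar Q x y = 0 from isotropic hS x hx y hy, add_zero, add_zero]
  · rw [QuadraticMap.map_smul, h1, smul_zero]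

theorem GE_O {L : Type*} [Field L] [Algebra F L] {i : Fin (k + 2)} {β : Basis {j : Fin (k + 2) // j ≤ i} F L}
    (A : L ≃ₗ[F] L) : GE (toFrame W) β A ∈ O Q := by
  have hI : ∀ x y, polar Q (GE (toFrame W) β A x) (GE (toFrame W) β A y) = polar Q x y :=
    H279.VZ.isIso_GE (H := HO Q) (fun _ => rfl) A
  have key : ∀ x y, Q (GE (toFrame W) β A x) = Q x → Q (GE (toFrame W) β A y) = Q y →
      Q (GE (toFrame W) β A (x + y)) = Q (x + y) := fun x y h1 h2 => by rw [map_add, Q_add, Q_add, h1, h2, hI]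
  intro v
  obtain ⟨x, hx, y, hy, w, hw, rfl⟩ := exists_decomp (Fr := toFrame W) i v
  obtain ⟨x, rfl⟩ := exists_eE β hx
  obtain ⟨l, rfl⟩ := exists_fF β hy
  refine key _ _ (key _ _ ?_ ?_) (by rw [H279.VZ.GE_Mid _ hw])
  · rw [H279.VZ.GE_eE, Q_RS W (isoS_Si i) _ (eE_mem _), Q_RS W (isoS_Si i) _ hx]
  · rw [H279.VZ.GE_fF, Q_RS W (isoS_Ni i) _ (fF_mem _), Q_RS W (isoS_Ni i) _ hy]

/-- reflections as elements of `O Q` -/
noncomputable def rQ (v : ι → F) (hv : Q v ≠ 0) : O Q := isometryEquiv Q (reflIso Q v hv)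

theorem rQ_apply (v : ι → F) (hv : Q v ≠ 0) (x : ι → F) : (rQ v hv).1 x = x - ((Q v)⁻¹ * polar Q v x) • v := by
  unfold rQ
  rw [isometryEquiv_apply, coe_reflIso, reflectionMatrix_mulVec]

theorem Q_ef (j : Fin (k + 2)) (a : F) : Q ((toFrame W).b (j, true) - a • (toFrame W).b (j, false)) = -a := by
  rw [sub_eq_add_neg, ← neg_smul, Q_add, QuadraticMap.map_smul, polar_smul_right, (sing_iff Q).1 (b_sing W (j, true)),
    (sing_iff Q).1 (b_sing W (j, false)),
    show polar Q ((toFrame W).b (j, true)) ((toFrame W).b (j, false)) = 1 from H62.FrameSL.ht (toFrame W) j]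
  simp

theorem step (j : Fin (k + 2)) {a : F} (ha0 : a ≠ 0)
    (ha : Q ((toFrame W).b (j, true) - a • (toFrame W).b (j, false)) ≠ 0) :
    (rQ _ ha).1 ((toFrame W).b (j, true)) = a • (toFrame W).b (j, false) ∧
      (rQ _ ha).1 ((toFrame W).b (j, false)) = a⁻¹ • (toFrame W).b (j, true) ∧
      ∀ x, polar Q ((toFrame W).b (j, true)) x = 0 → polar Q ((toFrame W).b (j, false)) x = 0 → (rQ _ ha).1 x = x := by
  have pe : ∀ x, polar Q ((toFrame W).b (j, true) - a • (toFrame W).b (j, false)) x =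
      polar Q ((toFrame W).b (j, true)) x - a * polar Q ((toFrame W).b (j, false)) x := fun x => by
    rw [sub_eq_add_neg, ← neg_smul, polar_add_left, polar_smul_left, smul_eq_mul]
    ring
  have pt : polar Q ((toFrame W).b (j, true)) ((toFrame W).b (j, false)) = 1 := H62.FrameSL.ht (toFrame W) j
  have pf : polar Q ((toFrame W).b (j, false)) ((toFrame W).b (j, true)) = 1 := H62.FrameSL.hf (toFrame W) j
  have ptt : polar Q ((toFrame W).b (j, true)) ((toFrame W).b (j, true)) = 0 := (toFrame W).hb_self _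
  have pff : polar Q ((toFrame W).b (j, false)) ((toFrame W).b (j, false)) = 0 := (toFrame W).hb_self _
  refine ⟨?_, ?_, fun x h3 h4 => ?_⟩
  · rw [rQ_apply, Q_ef, pe, ptt, pf, smul_sub]
    have e : (-a)⁻¹ * (0 - a * 1) = 1 := by field_simp; ring
    rw [e, one_smul, one_smul, sub_sub_cancel]
  · rw [rQ_apply, Q_ef, pe, pff, pt, smul_sub, smul_smul]
    have e : (-a)⁻¹ * (1 - a * 0) = -a⁻¹ := by rw [mul_zero, sub_zero, mul_one, inv_neg]
    have e2 : -a⁻¹ * a = -1 := by rw [neg_mul, inv_mul_cancel₀ ha0]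
    rw [e, e2, neg_smul, neg_smul, one_smul]
    abel
  · rw [rQ_apply, pe, h3, h4, mul_zero, sub_zero, mul_zero, zero_smul, sub_zero]

/-- the spinor norm of the diagonal elements -/
theorem sq_of_mem [Finite F] (hG : OrthTrans.Good Q) (y : Fˣ) (h : Dh (toFrame W) (Pi.mulSingle 0 y) ∈ E Q) :
    ∃ c : Fˣ, y = c ^ 2 := by
  classical
  have key : IsSquare ((y⁻¹ : Fˣ) : F) := by
    by_cases h2 : (2 : F) = 0
    · have : Fintype F := Fintype.ofFinite F
      have : CharP F 2 := CharTwo.of_one_ne_zero_of_two_eq_zero one_ne_zero h2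
      exact FiniteField.isSquare_of_char_two (ringChar.eq F 2) _
    obtain ⟨l, hl⟩ : ∃ l : Fin (k + 2) → Fˣ, l = Pi.mulSingle 0 y := ⟨_, rfl⟩
    have l0 : l 0 = y := by rw [hl, Pi.mulSingle_eq_same]
    have l1 : ∀ j, j ≠ 0 → l j = 1 := fun j hj => by rw [hl, Pi.mulSingle_eq_of_ne hj]
    have h1 : Q ((toFrame W).b (0, true) - (1 : F) • (toFrame W).b (0, false)) ≠ 0 := by
      rw [Q_ef]
      exact neg_ne_zero.2 one_ne_zero
    have hy : Q ((toFrame W).b (0, true) - ((y⁻¹ : Fˣ) : F) • (toFrame W).b (0, false)) ≠ 0 := by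
      rw [Q_ef]
      exact neg_ne_zero.2 (y⁻¹).ne_zero
    obtain ⟨a1, a2, a3⟩ := step W 0 one_ne_zero h1
    obtain ⟨b1, b2, b3⟩ := step W 0 (y⁻¹).ne_zero hy
    have hmul : ∀ x, (rQ _ hy * rQ _ h1).1 x = (rQ _ hy).1 ((rQ _ h1).1 x) := fun _ => rfl
    have e : (rQ _ hy * rQ _ h1).1 = Dh (toFrame W) l := by
      refine H644.OZ.ext_b (Fr := toFrame W) (fun v h => mem_V0_of_orth W (fun i => h (i, true)) fun i => h (i, false))
        (fun ⟨j, b⟩ => ?_) fun w hw => ?_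
      · rw [hmul, Dh_b]
        by_cases hj : j = 0
        · subst hj
          cases b
          · rw [a2, map_smul, b1, smul_smul, H644.OZ.lam_false, l0, inv_one, one_mul]
          · rw [a1, map_smul, b2, smul_smul, H644.OZ.lam_true, l0, one_mul, Units.val_inv_eq_inv_val, inv_inv]
        · have h3 : ∀ s, polar Q ((toFrame W).b (0, s)) ((toFrame W).b (j, b)) = 0 := fun s =>
            (toFrame W).hb_of_ne (x := (0, s)) (y := (j, b)) (Ne.symm hj)
          have h5 : ((lam l (j, b) : Fˣ) : F) = 1 := by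
            cases b
            · rw [H644.OZ.lam_false, l1 j hj, inv_one, Units.val_one]
            · rw [H644.OZ.lam_true, l1 j hj, Units.val_one]
          rw [a3 _ (h3 _) (h3 _), b3 _ (h3 _) (h3 _), h5, one_smul]
      · have h3 : ∀ x, polar Q ((toFrame W).b x) w = 0 := fun x => (toFrame W).h0 x w hw
        rw [hmul, a3 _ (h3 _) (h3 _), b3 _ (h3 _) (h3 _), Dh_apply, H644.OZ.dg_V0 _ _ _ hw, Units.val_one, one_smul]
    rw [← hl, ← e] at h
    have th : ∀ (v : ι → F) (hv : Q v ≠ 0), (spinorSign (⇑Q) (-1)).comp (isometryEquiv Q).symm.toMonoidHom (rQ v hv) =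
        if IsSquare (-1 * Q v) then -1 else 1 := fun v hv => by
      rw [MonoidHom.comp_apply, show (isometryEquiv Q).symm.toMonoidHom (rQ v hv) = reflIso Q v hv from
        (isometryEquiv Q).symm_apply_apply _]
      exact spinorSign_reflIso h2 Q (neg_ne_zero.2 one_ne_zero) v hv
    have h3 := H644.OZ.char_E hG ((spinorSign (⇑Q) (-1)).comp (isometryEquiv Q).symm.toMonoidHom) h
    rw [map_mul, th, th, Q_ef, Q_ef, if_pos (show IsSquare (-1 * -1 : F) from ⟨1, by ring⟩), neg_mul_neg, one_mul] at h3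
    by_contra hs
    rw [if_neg hs] at h3
    exact absurd h3 (by decide)
  obtain ⟨z, hz⟩ := key
  have hz0 : z ≠ 0 := by
    rintro rfl
    exact (y⁻¹).ne_zero (by rw [hz, zero_mul])
  refine ⟨(Units.mk0 z hz0)⁻¹, ?_⟩
  rw [inv_pow, ← inv_inj, inv_inv, pow_two]
  exact Units.ext hz

end Gen

variable {F : Type} [Field F] {k : ℕ}

theorem amb : Amb (toFrame (wplus (k + 2) F)) (O (plusForm (k + 2) F)) := by
  refine amb_of (wplus (k + 2) F) _ (fun g hg v w => polar_map hg v w) (fun g hg w c h => ?_)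
    (fun a b t => E_le_O (X_mem _ a b t)) (fun a p => E_le_O (Z_mem _ a p)) fun w hw _ => ?_
  · show c = -(plusForm (k + 2) F) (g w)
    rw [show c = -(plusForm (k + 2) F) w from h, mem_O.1 hg]
  · rw [(Submodule.mem_bot F).1 hw]
    exact (sing_iff _).2 (QuadraticMap.map_zero _)

theorem mid0 {v : Fin (k + 2) ⊕ Fin (k + 2) → F} (hv : v ∈ Mid (toFrame (wplus (k + 2) F)) (Fin.last (k + 1))) : v = 0 :=
  (Submodule.mem_bot F).1 (amb.V0 v fun x => hv x.1 (Fin.le_last _) x.2)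

theorem hT : ∀ t ∈ Tor (toFrame (wplus (k + 2) F)) (O (plusForm (k + 2) F)), ∃ l, t = Dh (toFrame (wplus (k + 2) F)) l := by
  intro t ht
  obtain ⟨s, rfl⟩ := exists_dg amb.V0 ht.2 (a := 1) fun w hw => by rw [(Submodule.mem_bot F).1 hw, map_zero, smul_zero]
  obtain ⟨l, rfl⟩ := exists_lam (fun _ => rfl) (amb.iso _ ht.1)
  exact ⟨l, rfl⟩

theorem hD (l : Fin (k + 2) → Fˣ) :
    Dh (toFrame (wplus (k + 2) F)) l ∈ Tor (toFrame (wplus (k + 2) F)) (O (plusForm (k + 2) F)) := by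
  refine ⟨fun v => ?_, H644.OZ.mono_dg _ _ _⟩
  have h1 := H644.OZ.diag_apply (g := Dh (toFrame (wplus (k + 2) F)) l)
    (d := Sum.elim (fun i => (l i : F)) fun i => ((l i)⁻¹ : Fˣ)) fun i => by
      rcases i with i | i
      · exact Dh_b _ l (i, true)
      · exact Dh_b _ l (i, false)
  rw [coe_plusForm, quadFormPlus_apply, quadFormPlus_apply]
  refine Finset.sum_congr rfl fun i _ => ?_
  rw [h1, h1, Sum.elim_inl, Sum.elim_inr, mul_mul_mul_comm, Units.mul_inv, one_mul]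

variable {W : Type*} [Group W] (cs : CoxeterSystem (TypeD.M k) W)

theorem nm : Nm cs (TypeD.isCartan k) (Tor (toFrame (wplus (k + 2) F)) (O (plusForm (k + 2) F)))
    (WittRGDD.rg (toFrame (wplus (k + 2) F))) (E (plusForm (k + 2) F)) where
  le g hg := by
    have h1 : G1 cs (TypeD.isCartan k) (XD (wplus (k + 2) F) (MonoidHom.id _)) ≤
        (GG cs (TypeD.isCartan k) (Tor (toFrame (wplus (k + 2) F)) (O (plusForm (k + 2) F)))
          (WittRGDD.rg (toFrame (wplus (k + 2) F)))).subgroupOf (E (plusForm (k + 2) F)) :=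
      RGD.Sup_le fun x hx => by
        rw [XD, Subgroup.map_id]
        exact Subgroup.comap_mono (X_le_GG hx)
    rw [G1D_eq_top _ _ Function.surjective_id (adm_plus _)] at h1
    exact h1 (Subgroup.mem_top ⟨g, hg⟩)
  root x _ := rgD_le _ (amb_plus _) x
  nm _ ht _ hs := conj_mem_E ht.1 hs

end Plus

open Plus

/-- **`PΩ⁺_{2n}(q)`, `n ≥ 4`** -/
theorem van3_plus {F : Type} [Field F] [Finite F] {k : ℕ} (hk : 2 ≤ k) : Van3 (POmega F (quadFormPlus (k + 2) F)) := by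
  obtain ⟨p, hch⟩ := CharP.exists F
  have : Fact p.Prime := ⟨(CharP.char_is_prime_or_zero F p).resolve_right (CharP.char_ne_zero_of_finite F p)⟩
  have hq : 2 ≤ Nat.card F := Finite.one_lt_card
  let cs := (TypeD.M k).toCoxeterSystem
  have : Finite (TypeD.M k).Group := TypeD.finite_W cs
  have : Finite ((Fin (k + 2) ⊕ Fin (k + 2) → F) ≃ₗ[F] (Fin (k + 2) ⊕ Fin (k + 2) → F)) :=
    Finite.of_injective (fun g : (Fin (k + 2) ⊕ Fin (k + 2) → F) ≃ₗ[F] (Fin (k + 2) ⊕ Fin (k + 2) → F) => (g : _ → _))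
      DFunLike.coe_injective
  have hG : OrthTrans.Good (plusForm (k + 2) F) := by
    apply good_of_finite (nondeg_plusForm (k + 2) F)
    rw [Module.finrank_fintype_fun_eq_card, Fintype.card_sum, Fintype.card_fin]
    omega
  have R := WittAll.rgdD (amb (F := F) (k := k)) (p := p) (adm_plus _) cs
  have s := nm (F := F) cs
  have t := tdD (amb (F := F) (k := k)).V0 (fun t ht => (hT t ht).elim fun l h => ⟨lam l, 1, h⟩) hD cs
  have hn : ∀ i, WittRGDD.nn (toFrame (wplus (k + 2) F)) i ∈ E (plusForm (k + 2) F) := WittRGDD.nn_mem (amb_plus _)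
  have hT' : ∀ y ∈ Tor (toFrame (wplus (k + 2) F)) (O (plusForm (k + 2) F)), ∃ c l,
      y = c * Dh (toFrame (wplus (k + 2) F)) l ∧ ∀ x, c * x = x * c := fun y hy =>
    (hT y hy).elim fun l h => ⟨1, l, by rw [one_mul, h], fun x => by rw [one_mul, mul_one]⟩
  have hM : ∀ y ∈ Tor (toFrame (wplus (k + 2) F)) (O (plusForm (k + 2) F)), Mono (toFrame (wplus (k + 2) F)) y id :=
    fun _ h => h.2
  have hS : ∀ y ∈ Tor (toFrame (wplus (k + 2) F)) (O (plusForm (k + 2) F)), ∃ c, IsSim (HO (plusForm (k + 2) F)) c y :=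
    fun y h => ⟨1, IsSim.of_iso (amb.iso y h.1)⟩
  have key : ∀ i : Fin (k + 2), 2 ≤ (i : ℕ) → ∃ (L : Type) (_ : Field L) (_ : Algebra F L)
      (β : Basis {j : Fin (k + 2) // j ≤ i} F L) (z : Lˣ), Sing F z 1 ∧
      gl (toFrame (wplus (k + 2) F)) β z * 1 ∈ E (plusForm (k + 2) F) ∧
      Cov cs (TypeD.isCartan k) (Tor (toFrame (wplus (k + 2) F)) (O (plusForm (k + 2) F)))
        (WittRGDD.rg (toFrame (wplus (k + 2) F))) (E (plusForm (k + 2) F)) (gl (toFrame (wplus (k + 2) F)) β z * 1) := by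
    intro i hi
    obtain ⟨L, _, _, _, β, γ, h₁, o₁, -⟩ := exists_sing F i
    refine ⟨L, _, _, β, γ ^ 2, sing_of h₁ o₁ (good2 hq (by omega)), ?_, ?_⟩
    · rw [mul_one, pow_two, map_mul, H279.VZ.gl_eq]
      exact sq_mem_EQ hG (GE_O _ _)
    · by_cases hF : ∃ a : F, a ≠ 0 ∧ a ≠ 1
      · refine cov_gl R t s hn hT' (fun A hA => ?_) (comp_one _ _) _
        rw [← hG.commutator_eq_E]
        exact GE_mem_comm (by rw [Fin.lt_def]; change 0 < (i : ℕ); omega) hF (GE_O _) A hA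
      · refine cov_of R t s hn hT' fun a => ⟨1, by rw [one_mul, mul_one, mul_one], ?_⟩
        have h1 : a = 1 := Units.ext (by_contra fun h => hF ⟨a, a.ne_zero, h⟩)
        rw [h1, Pi.mulSingle_one, map_one, mul_one]
        exact inv_mem (one_mem _)
  obtain ⟨L₁, _, _, β₁, z₁, s₁, m₁, c₁⟩ := key (Fin.last (k + 1)) (by simp; omega)
  obtain ⟨L₂, _, _, β₂, z₂, s₂, m₂, c₂⟩ := key (pd k) hk
  obtain ⟨g, m₃, o₃, h₃, a₃⟩ := exists_g3_plus F p hk
  rw [← coe_plusForm]
  refine (vanD' R s (by omega) t (fun y hy hy' => ?_) m₁ m₂ m₃ c₁ c₂ (cov_of R t s hn hT' fun a => ⟨_, h₃ a, ?_⟩)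
    (elD_last hM hS s₁ (nondeg_plusForm _ F) R (comp_one _ _) (s.le m₁))
    (elD_pd hM hS s₂ (nondeg_plusForm _ F) R (comp_one _ _) (s.le m₂)) (fun x hx h1 => ?_) o₃).of_surj
    (toPOmega hG) (toPOmega_surjective hG)
  · obtain ⟨l, rfl⟩ := hT y hy
    have h1 := mul_mem hy' (inv_mem (t.red R s hn l))
    rw [mul_inv_rev, inv_inv, mul_inv_cancel_left] at h1
    obtain ⟨c, hc⟩ := sq_of_mem _ hG _ h1
    exact ⟨l, c, rfl, hc⟩
  · rw [Dh_apply, inv_mul_cancel]
    exact one_mem _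
  · have h2 := (flD R hM hS NodeK.last).pj_le h1
    have hO : x ∈ O (plusForm (k + 2) F) := by
      have h3 : GG cs (TypeD.isCartan k) (Tor (toFrame (wplus (k + 2) F)) (O (plusForm (k + 2) F)))
          (WittRGDD.rg (toFrame (wplus (k + 2) F))) ≤ O (plusForm (k + 2) F) :=
        sup_le (fun _ h => h.1) (RGD.Sup_le fun y hy => (s.root y hy).trans E_le_O)
      exact h3 (LJ_le_GG hx)
    have hO' := inv_mem hO
    refine a₃ ((RS (toFrame (wplus (k + 2) F)) (Si (Fin.last (k + 1)))).comap (x⁻¹ : _ ≃ₗ[F] _).toLinearMap)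
      (fun v => ⟨fun hv w hw => ?_, fun hv => ?_⟩) (fun v hv => ?_) fun v hv => ?_
    · rw [← polar_map hO']
      exact isotropic (isoS_Si _) _ hv _ hw
    · change x⁻¹ v ∈ RS (toFrame (wplus (k + 2) F)) (Si (Fin.last (k + 1)))
      obtain ⟨a, ha, b, hb, w, hw, e⟩ := exists_decomp (Fr := toFrame (wplus (k + 2) F)) (Fin.last (k + 1)) (x⁻¹ v)
      rw [mid0 hw, add_zero] at e
      have h3 : b = 0 := eq_zero_of_F_Pp hb fun j hj => by
        have h4 := hv (x ((toFrame (wplus (k + 2) F)).b (j, true))) (by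
          change x⁻¹ (x _) ∈ RS (toFrame (wplus (k + 2) F)) (Si (Fin.last (k + 1)))
          rw [H769.OZ.inv_apply_self]
          exact b_mem ⟨hj, rfl⟩)
        rw [← polar_map hO', H769.OZ.inv_apply_self, e, polar_add_left,
          show polar (plusForm (k + 2) F) a _ = 0 from isotropic (isoS_Si _) a ha _ (b_mem ⟨hj, rfl⟩), zero_add] at h4
        exact h4
      rw [e, h3, add_zero]
      exact ha
    · rw [← mem_O.1 hO' v]
      exact Q_RS _ (isoS_Si _) _ hv
    · have h4 := (h2 (x⁻¹ v)).2 hv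
      change x⁻¹ (g (x (x⁻¹ v))) ∈ _ at h4
      rwa [H769.OZ.apply_inv_self] at h4

end Cfsg.Agent.VAN.C
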