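import Cfsg.Agent.VAN.C.Abs
import Cfsg.Agent.Nodes.RGDLib

/-!
# S4942: the triples in an ambient group (helper91)

`R` a root group datum in a finite group `G`, `GG cs h T X` the group it generates, `S` a subgroup of it which contains
the root groups and is normalised by the torus (`Nm`): `vanA'`, `vanB'`, `vanD'`.
-/

set_option autoImplicit false
set_option linter.unusedSectionVars false
set_option maxHeartbeats 400000

namespace Cfsg.Agent.VAN.C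

open CoxeterSystem Cfsg Cfsg.Agent.ChevalleyStructure.CoxeterGeom Cfsg.Agent.Tits.Roots Cfsg.Agent.Tits.Core
  Cfsg.Agent.Nodes.Reps Cfsg.Agent.Nodes.BNOf Cfsg.Agent.Nodes.Bruhat Cfsg.Agent.Nodes.LeviDec
  Cfsg.Agent.H215.WB Cfsg.Agent.VAN.HC Cfsg.Agent.Nodes.RGDLib
open Cfsg.Agent.H53.HC (Perm MJ Orth)
open Cfsg.Agent.Nodes.TypeD (pd)

section Gen

variable {I W G : Type*} [Fintype I] [DecidableEq I] [Group W] [Group G] {M : CoxeterMatrix I}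
  (cs : CoxeterSystem M W) {A : I → I → ℤ} (h : IsCartan M A) {p : ℕ} (T : Subgroup G) {n : I → G}
  (X : (I → ℤ) → Subgroup G)

/-- the torus of `GG` -/
abbrev Tk : Subgroup (GG cs h T X) := T.subgroupOf (GG cs h T X)

/-- the root groups of `GG` -/
abbrev Xk : (I → ℤ) → Subgroup (GG cs h T X) := fun x => (X x).subgroupOf (GG cs h T X)

/-- the normal subgroup -/
structure Nm (S : Subgroup G) : Prop where
  le : S ≤ GG cs h T X
  root : ∀ x, IsRoot cs h x → X x ≤ S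
  nm : ∀ t ∈ T, ∀ s ∈ S, t * s * t⁻¹ ∈ S

/-- every coset of `S` in `GG` meets the centraliser of `g` -/
def Cov (S : Subgroup G) (g : G) : Prop := ∀ t ∈ T, ∃ z ∈ GG cs h T X, z * g = g * z ∧ z⁻¹ * t ∈ S

variable {cs h T X}

theorem T_le_GG : T ≤ GG cs h T X := le_sup_left

theorem Sup_res {S : Set (I → ℤ)} (hS : ∀ x ∈ S, IsRoot cs h x) :
    RGD.Sup (Xk cs h T X) S = (RGD.Sup X S).subgroupOf (GG cs h T X) :=
  (iSup_subgroupOf (fun z : S => X z.1) fun z => X_le_GG (hS z.1 z.2)).symm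

theorem sup_res {S : Set (I → ℤ)} (hS : ∀ x ∈ S, IsRoot cs h x) :
    Tk cs h T X ⊔ RGD.Sup (Xk cs h T X) S = (T ⊔ RGD.Sup X S).subgroupOf (GG cs h T X) := by
  rw [Sup_res hS, Subgroup.subgroupOf_sup T_le_GG (RGD.Sup_le fun x hx => X_le_GG (hS x hx))]

theorem LJ_res (J : Set I) : LJ cs h (Tk cs h T X) (Xk cs h T X) J = (LJ cs h T X J).subgroupOf (GG cs h T X) :=
  sup_res fun _ hx => hx.1

theorem VJ_res (J : Set I) : VJ cs h (Xk cs h T X) J = (VJ cs h X J).subgroupOf (GG cs h T X) :=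
  Sup_res fun _ hx => hx.1

theorem MJ_res (J : Set I) : MJ cs h (Xk cs h T X) J = (MJ cs h X J).subgroupOf (GG cs h T X) :=
  Sup_res fun _ hx => hx.1

theorem PJ_res (J : Set I) : PJ cs h (Tk cs h T X) (Xk cs h T X) J = (PJ cs h T X J).subgroupOf (GG cs h T X) := by
  rw [PJ, LJ_res, VJ_res, PJ, Subgroup.subgroupOf_sup LJ_le_GG (VJ_le_PJ.trans PJ_le_GG)]

theorem GG_res : GG cs h (Tk cs h T X) (Xk cs h T X) = ⊤ :=
  (sup_res fun _ hx => hx).trans (Subgroup.subgroupOf_self _)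

theorem B_res : RGD.B cs h (Tk cs h T X) (Xk cs h T X) = (RGD.B cs h T X).subgroupOf (GG cs h T X) :=
  sup_res fun _ hx => hx.1

theorem fpf_res {J : Set I} {g : GG cs h T X} (f : Fpf cs h T X J g.1) : Fpf cs h (Tk cs h T X) (Xk cs h T X) J g := by
  refine ⟨by rw [LJ_res]; exact f.1, fun v hv e => Subtype.ext (f.2 v.1 ?_ (congrArg Subtype.val e))⟩
  rw [VJ_res] at hv
  exact hv

theorem av_res {J K : Set I} {g : GG cs h T X} (f : Av cs h T X J K g.1) :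
    Av cs h (Tk cs h T X) (Xk cs h T X) J K g := by
  intro x hx h1
  rw [LJ_res] at hx
  rw [PJ_res] at h1
  exact f x.1 hx h1

variable {S : Subgroup G}

theorem Nm.conj (s : Nm cs h T X S) {g : G} (hg : g ∈ GG cs h T X) {y : G} (hy : y ∈ S) : g * y * g⁻¹ ∈ S := by
  have h1 : GG cs h T X ≤ Subgroup.normalizer (S : Set G) := by
    refine sup_le (fun t ht => ?_) (RGD.Sup_le fun x hx => (s.root x hx).trans Subgroup.le_normalizer)
    rw [Subgroup.mem_normalizer_iff]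
    refine fun y => ⟨s.nm t ht y, fun hy => ?_⟩
    have h2 := s.nm _ (inv_mem ht) _ hy
    rwa [show t⁻¹ * (t * y * t⁻¹) * t⁻¹⁻¹ = y by group] at h2
  exact (Subgroup.mem_normalizer_iff.1 (h1 hg) y).1 hy

theorem Nm.normal (s : Nm cs h T X S) : (S.subgroupOf (GG cs h T X)).Normal :=
  ⟨fun _ hy g => s.conj g.2 hy⟩

theorem Nm.root_res (s : Nm cs h T X S) (x : I → ℤ) (hx : IsRoot cs h x) :
    Xk cs h T X x ≤ S.subgroupOf (GG cs h T X) := fun _ hy => s.root x hx hy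

theorem cov_res (s : Nm cs h T X S) {g : GG cs h T X} (c : Cov cs h T X S g.1) :
    Cover (S.subgroupOf (GG cs h T X)) g := by
  have := s.normal
  intro y
  obtain ⟨t, ht, u, hu, rfl⟩ := exists_TS GG_res (S.subgroupOf (GG cs h T X)) s.root_res y
  obtain ⟨z, hz, e1, e2⟩ := c t.1 ht
  refine ⟨⟨z, hz⟩, Subtype.ext e1, ?_⟩
  rw [← mul_assoc]
  exact mul_mem e2 hu

variable (R : RGD cs h p T n X)

include R

theorem n_mem_GG (i : I) : n i ∈ GG cs h T X := LJ_le_GG (n_mem_LJ R (J := Set.univ) trivial)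

/-- the datum of `GG` -/
theorem rgd_res : RGD cs h p (Tk cs h T X) (fun i => ⟨n i, n_mem_GG R i⟩) (Xk cs h T X) :=
  rgd_restrict R _ (fun _ hx => X_le_GG hx) _

theorem not_dvd_B [Finite W] [Finite G] [hp : Fact p.Prime] {r q : ℕ} (hr : r.Prime) (hrp : r ≠ p)
    (hT : ∀ t ∈ T, t ^ q = 1) (hq : ¬ r ∣ q) : ¬ r ∣ Nat.card (RGD.B cs h T X) := by
  have := Fact.mk hr
  intro hd
  have h1 : Nat.card (RGD.B cs h T X) ∣ Nat.card T * Nat.card (RGD.Sup X (RGD.Pos cs h)) := by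
    have h2 : ((RGD.Sup X (RGD.Pos cs h)).subgroupOf (RGD.B cs h T X)).Normal := by
      rw [Subgroup.normal_subgroupOf_iff_le_normalizer RGD.U_le_B]
      exact sup_le R.T_le_normalizer_U Subgroup.le_normalizer
    rw [← ((RGD.Sup X (RGD.Pos cs h)).subgroupOf (RGD.B cs h T X)).index_mul_card,
      Nat.card_congr (Subgroup.subgroupOfEquivOfLe RGD.U_le_B).toEquiv]
    refine Nat.mul_dvd_mul_right ?_ _
    refine Subgroup.card_dvd_of_surjective ((QuotientGroup.mk' _).comp (Subgroup.inclusion RGD.T_le_B)) fun y => ?_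
    obtain ⟨⟨y, hy⟩, rfl⟩ := QuotientGroup.mk_surjective y
    obtain ⟨t, ht, u, hu, rfl⟩ := R.mem_B.1 hy
    refine ⟨⟨t, ht⟩, QuotientGroup.eq.2 ?_⟩
    change t⁻¹ * (t * u) ∈ RGD.Sup X (RGD.Pos cs h)
    rwa [inv_mul_cancel_left]
  rcases (Nat.Prime.dvd_mul hr).1 (hd.trans h1) with h2 | h2
  · obtain ⟨t, ht⟩ := exists_prime_orderOf_dvd_card' r h2
    refine hq ?_
    rw [← ht, orderOf_dvd_iff_pow_eq_one]
    exact Subtype.ext (hT t.1 t.2)
  · obtain ⟨m, hm⟩ := IsPGroup.iff_card.1 R.isPGroup_Upos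
    rw [hm] at h2
    exact hrp ((Nat.prime_dvd_prime_iff_eq hr hp.1).1 (hr.dvd_of_dvd_pow h2))

end Gen

section SW

variable {k : ℕ} {W G : Type*} [Group W] [Group G] {M : CoxeterMatrix (Fin (k + 2))}
  {A : Fin (k + 2) → Fin (k + 2) → ℤ} {cs : CoxeterSystem M W} {h : IsCartan M A} {p : ℕ} {T : Subgroup G}
  {n : Fin (k + 2) → G} {X : (Fin (k + 2) → ℤ) → Subgroup G} {F : Type*} [Field F]
  {Ω : SW cs h} {D : (Fin (k + 2) → Fˣ) →* G} {S : Subgroup G}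

theorem El.res {J : Set (Fin (k + 2))} {g : GG cs h T X} (e : El cs h T X J g.1) :
    El cs h (Tk cs h T X) (Xk cs h T X) J g := ⟨fpf_res e.fpf, fun j hj => av_res (e.av j hj)⟩

theorem TD.res (R : RGD cs h p T n X) (t : TD Ω T n D) :
    TD Ω (Tk cs h T X) (fun i => ⟨n i, n_mem_GG R i⟩) (D.codRestrict _ fun l => T_le_GG (t.mem l)) where
  comm a ha b hb := Subtype.ext (t.comm a.1 ha b.1 hb)
  mem l := t.mem l
  nn i l := Subtype.ext (t.nn i l)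

/-- modulo `S` only the product of the entries matters -/
theorem TD.red (R : RGD cs h p T n X) (t : TD Ω T n D) (s : Nm cs h T X S) (hn : ∀ i, n i ∈ S)
    (l : Fin (k + 2) → Fˣ) : (D (Pi.mulSingle 0 (∏ a, l a)))⁻¹ * D l ∈ S := by
  have key : ∀ (b : Fin (k + 2)) (a : Fˣ), (D (Pi.mulSingle 0 a))⁻¹ * D (Pi.mulSingle b a) ∈ S := by
    intro b a
    obtain ⟨v, -, e⟩ := Ω.exists_inr (Equiv.swap 0 b)
    obtain ⟨y, hy, hr⟩ := exists_rp_closure (cs := cs) (hN := R.nsys) v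
    have hyS : y ∈ S := (Subgroup.closure_le S).2 (by rintro _ ⟨i, rfl⟩; exact hn i) hy
    have h1 := t.rp R hr (Pi.mulSingle 0 a)
    rw [e, ac_inr] at h1
    have h2 : (fun c => (Pi.mulSingle 0 a : Fin (k + 2) → Fˣ) (Equiv.swap 0 b c)) = Pi.mulSingle b a := by
      funext c
      by_cases hc : c = b
      · rw [hc, Equiv.swap_apply_right, Pi.mulSingle_eq_same, Pi.mulSingle_eq_same]
      · rw [Pi.mulSingle_eq_of_ne hc, Pi.mulSingle_eq_of_ne]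
        intro h6
        apply hc
        rw [Equiv.swap_apply_eq_iff, Equiv.swap_apply_left] at h6
        exact h6
    rw [h2] at h1
    rw [← h1]
    have h3 := mul_mem (s.nm _ (inv_mem (t.mem (Pi.mulSingle 0 a))) _ (inv_mem hyS)) hyS
    rwa [inv_inv, mul_assoc, mul_assoc, ← mul_assoc y⁻¹] at h3
  let ψ : (Fin (k + 2) → Fˣ) →* (Fin (k + 2) → Fˣ) :=
    { toFun := fun l => (Pi.mulSingle 0 (∏ a, l a))⁻¹ * l
      map_one' := by simp
      map_mul' := fun l l' => by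
        simp only [Pi.mul_apply, Finset.prod_mul_distrib, Pi.mulSingle_mul, mul_inv]
        exact mul_mul_mul_comm _ _ _ _ }
  have h1 : ∀ l, D (ψ l) = (D (Pi.mulSingle 0 (∏ a, l a)))⁻¹ * D l := fun l => by
    change D ((Pi.mulSingle 0 (∏ a, l a))⁻¹ * l) = _
    rw [map_mul, map_inv]
  rw [← h1]
  change l ∈ S.comap (D.comp ψ)
  rw [← Finset.univ_prod_mulSingle l]
  refine Subgroup.prod_mem _ fun b _ => ?_
  change D (ψ _) ∈ S
  rw [h1, Finset.prod_pi_mulSingle', if_pos (Finset.mem_univ _)]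
  exact key b _

end SW

section TypeB

variable {k : ℕ} {W G : Type*} [Group W] [Group G] {cs : CoxeterSystem (CoxeterMatrix.B (k + 2)) W} {p : ℕ}
  {T : Subgroup G} {n : Fin (k + 2) → G} {X : (Fin (k + 2) → ℤ) → Subgroup G} {F : Type*} [Field F]
  {D : (Fin (k + 2) → Fˣ) →* G} [Finite W] [Finite G] (R : RGD cs (Nodes.TypeC.isCartan (k + 2)) p T n X)
  {S : Subgroup G} (s : Nm cs (Nodes.TypeC.isCartan (k + 2)) T X S)

include R s

theorem vanA' [Fact p.Prime] (hk : 0 < k) (t : TD (swB cs) T n D) {e : ℕ}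
    (hend : ∀ a : Fˣ, ∃ s ∈ T, (∀ j : Fin (k + 2), (j : ℕ) < k → n j * s = s * n j) ∧
      n (Fin.last (k + 1)) * s * (n (Fin.last (k + 1)))⁻¹ = s * D (Pi.mulSingle (Fin.last (k + 1)) (a ^ e)))
    (hTS : ∀ s ∈ T, s ∈ S → ∃ l c, s = D l ∧ ∏ a, l a = c ^ e)
    {g₁ g₂ g₃ : G} (m₁ : g₁ ∈ S) (m₂ : g₂ ∈ S) (m₃ : g₃ ∈ S)
    (c₁ : Cov cs (Nodes.TypeC.isCartan (k + 2)) T X S g₁) (c₂ : Cov cs (Nodes.TypeC.isCartan (k + 2)) T X S g₂)
    (e₁ : El cs (Nodes.TypeC.isCartan (k + 2)) T X (J1 k) g₁) (e₂ : El cs (Nodes.TypeC.isCartan (k + 2)) T X (J2 k) g₂)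
    {q r : ℕ} (hq : ∀ i, Nat.card (X (sr i)) = q) (hr : r.Prime)
    (hB : ¬ r ∣ Nat.card (RGD.B cs (Nodes.TypeC.isCartan (k + 2)) T X))
    (ha : ∀ m < k + 2, ¬ r ∣ ∑ j ∈ Finset.range (m + 1), q ^ j) (hb : ∀ m < k + 2, ¬ r ∣ q + q ^ m)
    (o₁ : r ∣ orderOf g₃) (o₂ : p ∣ orderOf g₃) : Van3 S := by
  have : Fintype (GG cs (Nodes.TypeC.isCartan (k + 2)) T X) := Fintype.ofFinite _
  have := s.normal
  refine (vanA (rgd_res R) GG_res (S.subgroupOf _) s.root_res hk (t.res R) (e := e) (fun a => ?_) (fun y hy hy' => ?_)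
    (g₁ := ⟨g₁, s.le m₁⟩) (g₂ := ⟨g₂, s.le m₂⟩) (g₃ := ⟨g₃, s.le m₃⟩) m₁ m₂ m₃ (cov_res s c₁) (cov_res s c₂)
    e₁.res e₂.res (q := q) (fun i => ?_) hr ?_ ha hb ?_ ?_).of_equiv (Subgroup.subgroupOfEquivOfLe s.le)
  · obtain ⟨y, hy, h1, h2⟩ := hend a
    exact ⟨⟨y, T_le_GG hy⟩, hy, fun j hj => Subtype.ext (h1 j hj), Subtype.ext h2⟩
  · obtain ⟨l, c, h1, h2⟩ := hTS y.1 hy hy'
    exact ⟨l, c, Subtype.ext h1, h2⟩
  · rw [← hq i]
    exact Nat.card_congr (Subgroup.subgroupOfEquivOfLe (X_le_GG (isRoot_sr cs _ i))).toEquiv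
  · rwa [B_res, Nat.card_congr (Subgroup.subgroupOfEquivOfLe ((B_le_PJ (J := ∅)).trans PJ_le_GG)).toEquiv]
  · rwa [Subgroup.orderOf_mk]
  · rwa [Subgroup.orderOf_mk]

theorem vanB' (hk : 0 < k) (hT : ∀ a ∈ T, a = 1)
    {g₁ y u g₃ : G} (m₁ : g₁ ∈ S) (m₃ : g₃ ∈ S)
    (e₁ : El cs (Nodes.TypeC.isCartan (k + 2)) T X (J1 k) g₁)
    (f₂ : Fpf cs (Nodes.TypeC.isCartan (k + 2)) T X (J2 k) (y * u))
    (a₂ : ∀ j ∈ J2 k, j ≠ Fin.last (k + 1) → Av cs (Nodes.TypeC.isCartan (k + 2)) T X (J2 k) (J2 k \ {j}) (y * u))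
    (hy : y ∈ LJ cs (Nodes.TypeC.isCartan (k + 2)) T X (J2 k \ {Fin.last (k + 1)})) (hyS : y ∈ S)
    (hya : ∀ z ∈ MJ cs (Nodes.TypeC.isCartan (k + 2)) X {Fin.last (k + 1)}, y * z = z * y)
    (hu : u ∈ X (sr (Fin.last (k + 1)))) (hu1 : u ≠ 1)
    {q r : ℕ} (hq : ∀ i, Nat.card (X (sr i)) = q) (hr : r.Prime)
    (hB : ¬ r ∣ Nat.card (RGD.B cs (Nodes.TypeC.isCartan (k + 2)) T X))
    (ha : ∀ m < k + 2, ¬ r ∣ ∑ j ∈ Finset.range (m + 1), q ^ j) (hb : ∀ m < k + 2, ¬ r ∣ q + q ^ m)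
    (o₁ : r ∣ orderOf g₃) : Van3 S := by
  have : Fintype (GG cs (Nodes.TypeC.isCartan (k + 2)) T X) := Fintype.ofFinite _
  have := s.normal
  have huS : u ∈ S := s.root _ (isRoot_sr cs _ _) hu
  have hc : ∀ g, Cov cs (Nodes.TypeC.isCartan (k + 2)) T X S g := fun g t ht =>
    ⟨1, one_mem _, by rw [one_mul, mul_one], by rw [hT t ht, mul_one]; exact inv_mem (one_mem _)⟩
  refine (vanB (rgd_res R) GG_res (S.subgroupOf _) s.root_res hk
    (fun a ha b _ => by rw [show a = 1 from Subtype.ext (hT a.1 ha), one_mul, mul_one])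
    (fun a ha _ => Subtype.ext (hT a.1 ha))
    (g₁ := ⟨g₁, s.le m₁⟩) (y := ⟨y, s.le hyS⟩) (u := ⟨u, s.le huS⟩) (g₃ := ⟨g₃, s.le m₃⟩) m₁ (mul_mem hyS huS) m₃
    (cov_res s (hc _)) (cov_res s (hc _)) e₁.res (fpf_res f₂) (fun j hj hl => av_res (a₂ j hj hl))
    ?_ (fun z hz => ?_) hu (fun h1 => hu1 (congrArg Subtype.val h1)) (q := q) (fun i => ?_) hr ?_ ha hb ?_).of_equiv
    (Subgroup.subgroupOfEquivOfLe s.le)
  · rw [LJ_res]
    exact hy
  · rw [MJ_res] at hz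
    exact Subtype.ext (hya z.1 hz)
  · rw [← hq i]
    exact Nat.card_congr (Subgroup.subgroupOfEquivOfLe (X_le_GG (isRoot_sr cs _ i))).toEquiv
  · rwa [B_res, Nat.card_congr (Subgroup.subgroupOfEquivOfLe ((B_le_PJ (J := ∅)).trans PJ_le_GG)).toEquiv]
  · rwa [Subgroup.orderOf_mk]

end TypeB

section TypeD

variable {k : ℕ} {W G : Type*} [Group W] [Group G] {cs : CoxeterSystem (Nodes.TypeD.M k) W} {p : ℕ}
  {T : Subgroup G} {n : Fin (k + 2) → G} {X : (Fin (k + 2) → ℤ) → Subgroup G} {F : Type*} [Field F]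
  {D : (Fin (k + 2) → Fˣ) →* G} [Finite W] [Finite G] (R : RGD cs (Nodes.TypeD.isCartan k) p T n X)
  {S : Subgroup G} (s : Nm cs (Nodes.TypeD.isCartan k) T X S)

include R s

theorem vanD' [Fact p.Prime] (hk : 0 < k) (t : TD (swD cs) T n D)
    (hTS : ∀ s ∈ T, s ∈ S → ∃ l c, s = D l ∧ ∏ a, l a = c ^ 2)
    {g₁ g₂ g₃ : G} (m₁ : g₁ ∈ S) (m₂ : g₂ ∈ S) (m₃ : g₃ ∈ S)
    (c₁ : Cov cs (Nodes.TypeD.isCartan k) T X S g₁) (c₂ : Cov cs (Nodes.TypeD.isCartan k) T X S g₂)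
    (c₃ : Cov cs (Nodes.TypeD.isCartan k) T X S g₃)
    (e₁ : El cs (Nodes.TypeD.isCartan k) T X (J1 k) g₁) (e₂ : El cs (Nodes.TypeD.isCartan k) T X (J3 k) g₂)
    (a₃ : Av cs (Nodes.TypeD.isCartan k) T X Set.univ (J1 k) g₃) (o₂ : p ∣ orderOf g₃) : Van3 S := by
  have : Fintype (GG cs (Nodes.TypeD.isCartan k) T X) := Fintype.ofFinite _
  have := s.normal
  refine (vanD (rgd_res R) GG_res (S.subgroupOf _) s.root_res hk (t.res R) (fun y hy hy' => ?_)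
    (g₁ := ⟨g₁, s.le m₁⟩) (g₂ := ⟨g₂, s.le m₂⟩) (g₃ := ⟨g₃, s.le m₃⟩) m₁ m₂ m₃ (cov_res s c₁) (cov_res s c₂)
    (cov_res s c₃) e₁.res e₂.res (av_res a₃) ?_).of_equiv (Subgroup.subgroupOfEquivOfLe s.le)
  · obtain ⟨l, c, h1, h2⟩ := hTS y.1 hy hy'
    exact ⟨l, c, Subtype.ext h1, h2⟩
  · rwa [Subgroup.orderOf_mk]

end TypeD

end Cfsg.Agent.VAN.C
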