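import Cfsg.Agent.VAN.C.Sp
import Cfsg.Agent.VAN.C.Plus
import Cfsg.Agent.VAN.C.Odd
import Cfsg.Agent.VAN.C.Kap
import Cfsg.Agent.VAN.Sm.SpSix
import Cfsg.Agent.VAN.Rk.SpFour
import Cfsg.Agent.VAN.Lin.GlTwo
import Cfsg.Agent.VAN.Lin.UFourTwo

/-!
# S4942: the rows of the classical groups (helper91)
-/

set_option autoImplicit false

namespace Cfsg.Agent.VAN.C

universe u

theorem row_psp : Row.{u} (fun G _ => IsPSp G) := by
  rintro G _ _ _ - ⟨F, _, _, m, hm, h2, ⟨e⟩⟩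
  refine Van3.of_equiv ?_ e.symm
  obtain ⟨k, rfl⟩ : ∃ k, m = k + 2 := ⟨m - 2, by omega⟩
  have hq : 1 < Fintype.card F := Fintype.one_lt_card
  rcases Nat.eq_zero_or_pos k with rfl | hk
  · exact Rk.van3_psp4 F (h2 rfl)
  · by_cases h3 : 3 ≤ Fintype.card F
    · exact van3_sp_big hk h3
    · by_cases h1 : k = 1
      · subst h1
        exact Sm.van3_sp62 F (by omega)
      · exact van3_sp_two (by omega) (by omega)

theorem row_oplus : Row.{u} (fun G _ => IsPOmegaPlus G) := by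
  rintro G _ _ _ - ⟨F, _, _, m, hm, ⟨e⟩⟩
  obtain ⟨k, rfl⟩ : ∃ k, m = k + 2 := ⟨m - 2, by omega⟩
  exact (van3_plus (by omega)).of_equiv e.symm

theorem row_oodd : Row.{u} (fun G _ => IsPOmegaOdd G) := by
  rintro G _ _ _ - ⟨F, _, _, m, hm, hF, ⟨e⟩⟩
  exact (van3_odd hF hm).of_equiv e.symm

/-- **The classical groups.** -/
theorem classRows : ClassRows.{u} := ⟨Lin.row_psl, row_psp, Lin.row_psu, row_oodd, row_oplus, row_ominus⟩

end Cfsg.Agent.VAN.C
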