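import Cfsg.Agent.VAN.C.WB
import Cfsg.Agent.VAN.HC.Defs
import Cfsg.Agent.H644.OZ.Dg

/-!
# S4942: the Weyl groups of types `B_{k+2}`, `D_{k+2}` as groups of signed permutations (helper91)

* `SW cs h` : the common data; `swB`, `swD`;
* `cn m hm` : the chain `0, …, m - 1`; `SW.chain`, `SW.cyc` (the cycle type of the Coxeter element of the chain);
* `SW.eq_empty` : the types `A_{d-1}^{n/d}`, `d > 1`, are not conjugate into a set of nodes which fixes an index;
* `ac g l` : the action on the diagonal torus.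
-/

set_option autoImplicit false

namespace Cfsg.Agent.VAN.C

open CoxeterSystem Cfsg Cfsg.Agent.ChevalleyStructure.CoxeterGeom Cfsg.Agent.Tits.Roots Cfsg.Agent.Tits.Core
  Cfsg.Agent.H215.WB Cfsg.Agent.VAN.HC
open Cfsg.Agent.Nodes.TypeC (wt wt_apply ng)
open Cfsg.Agent.H493.CC (par homD)
open Cfsg.Agent.H45.GG (Mp)
open Cfsg.Agent.H644.OZ (lam)

/-! ### cycles -/

theorem prod_swap {α : Type*} [DecidableEq α] : ∀ (m : ℕ) (f : Fin (m + 1) → α),
    (List.ofFn fun i : Fin m => Equiv.swap (f i.castSucc) (f i.succ)).prod = (List.ofFn f).formPerm := by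
  intro m
  induction m with
  | zero => intro f; simp
  | succ m ih =>
    intro f
    have h1 := ih (fun i => f i.succ)
    rw [List.ofFn_succ, List.prod_cons, List.ofFn_succ (f := f), List.ofFn_succ (f := fun i => f i.succ),
      List.formPerm_cons_cons, ← List.ofFn_succ (f := fun i => f i.succ), ← h1]
    rfl

theorem cyc_swap {α : Type*} [Fintype α] [DecidableEq α] {m : ℕ} (hm : 0 < m) {f : Fin (m + 1) → α}
    (hf : Function.Injective f) :
    m + 1 ∈ (List.ofFn fun i : Fin m => Equiv.swap (f i.castSucc) (f i.succ)).prod.cycleType := by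
  have h1 : (List.ofFn f).Nodup := List.nodup_ofFn.2 hf
  have h2 : 2 ≤ (List.ofFn f).length := by rw [List.length_ofFn]; omega
  rw [prod_swap, (List.isCycle_formPerm h1 h2).cycleType, List.support_formPerm_of_nodup _ h1 (by
    intro x hx
    rw [hx] at h2
    simp at h2), List.toFinset_card_of_nodup h1, List.length_ofFn]
  exact Multiset.mem_singleton_self _

/-! ### the data -/

variable {k : ℕ} {W : Type*} [Group W] {M : CoxeterMatrix (Fin (k + 2))} {A : Fin (k + 2) → Fin (k + 2) → ℤ}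

/-- the Weyl group as a group of signed permutations -/
structure SW (cs : CoxeterSystem M W) (h : IsCartan M A) where
  /-- the embedding -/
  κ : W →* Wb (Fin (k + 2))
  inj : Function.Injective κ
  rng : (par : Wb (Fin (k + 2)) →* ℤˣ).ker ≤ κ.range
  lt : ∀ (i : Fin (k + 2)) (hi : (i : ℕ) + 1 < k + 2),
    κ (cs.simple i) = SemidirectProduct.inr (Equiv.swap i ⟨i + 1, hi⟩)
  /-- `ε`-coordinates -/
  ee : (Fin (k + 2) → ℤ) → (Fin (k + 2) → ℤ)
  act : ∀ (w : W) (x : Fin (k + 2) → ℤ) (a b : Fin (k + 2) × Bool), ee x = wt a + wt b →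
    ee (rep cs h w x) = wt (cc (κ w) a) + wt (cc (κ w) b)
  sr_lt : ∀ (i : Fin (k + 2)) (hi : (i : ℕ) + 1 < k + 2), ee (sr i) = wt (i, true) + wt (⟨i + 1, hi⟩, false)
  adj : ∀ i j : Fin (k + 2), (i : ℕ) + 1 = j → (j : ℕ) + 1 < k + 2 → M i j = 3
  far : ∀ i j : Fin (k + 2), (i : ℕ) + 1 < j → (j : ℕ) + 1 < k + 2 → M i j = 2

/-- the chain `0, …, m - 1` -/
def cn (m : ℕ) (hm : m ≤ k + 1) : Fin m → Fin (k + 2) := fun i => ⟨i, by have := i.2; omega⟩

theorem cn_val {m : ℕ} (hm : m ≤ k + 1) (i : Fin m) : (cn m hm i : ℕ) = i := rfl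

theorem mem_range_cn {m : ℕ} (hm : m ≤ k + 1) {j : Fin (k + 2)} : j ∈ Set.range (cn m hm) ↔ (j : ℕ) < m := by
  constructor
  · rintro ⟨i, rfl⟩
    exact i.2
  · intro h
    exact ⟨⟨j, h⟩, rfl⟩

/-- the nodes of the Siegel parabolic subgroup -/
abbrev J1 (k : ℕ) : Set (Fin (k + 2)) := {Fin.last (k + 1)}ᶜ

theorem mem_J1 {j : Fin (k + 2)} : j ∈ J1 k ↔ (j : ℕ) < k + 1 := by
  have := j.2
  simp only [J1, Set.mem_compl_iff, Set.mem_singleton_iff, Fin.ext_iff, Fin.val_last]
  omega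

theorem range_cn1 : Set.range (cn (k + 1) le_rfl) = J1 k := by
  ext j
  rw [mem_range_cn, mem_J1]

namespace SW

variable {cs : CoxeterSystem M W} {h : IsCartan M A} (S : SW cs h)

include S in
theorem chain {m : ℕ} (hm : m ≤ k + 1) {J : Set (Fin (k + 2))} (h1 : ∀ j : Fin (k + 2), (j : ℕ) < m → j ∈ J)
    (h2 : ∀ i : Fin (k + 2), (i : ℕ) < m → ∀ j ∈ J, m ≤ (j : ℕ) → M i j = 2) : Chain M J (cn m hm) where
  inj i j e := Fin.ext (congrArg (fun z : Fin (k + 2) => (z : ℕ)) e)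
  mem i := h1 _ i.2
  adj i j e := S.adj _ _ e (by have := j.2; rw [cn_val]; omega)
  far i j e := S.far _ _ e (by have := j.2; rw [cn_val]; omega)
  orth i j hj hn := h2 _ i.2 j hj (by rw [mem_range_cn] at hn; omega)

include S in
theorem chain1 : Chain M (J1 k) (cn (k + 1) le_rfl) :=
  S.chain le_rfl (fun _ hj => mem_J1.2 hj) fun _ _ j hj h1 => by rw [mem_J1] at hj; omega

theorem word (m : ℕ) (hm : m ≤ k + 1) : S.κ (cs.wordProd (List.ofFn (cn m hm))) = SemidirectProduct.inr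
    (List.ofFn fun i : Fin m => Equiv.swap (Fin.castLE (by omega) i.castSucc : Fin (k + 2))
      (Fin.castLE (by omega) i.succ)).prod := by
  rw [wordProd, map_list_prod, map_list_prod, List.map_map, List.map_ofFn, List.map_ofFn]
  congr 2
  funext i
  have hi : ((cn m hm i : Fin (k + 2)) : ℕ) + 1 < k + 2 := by have := i.2; rw [cn_val]; omega
  exact S.lt _ hi

theorem cyc {m : ℕ} (hm : m ≤ k + 1) (h0 : 0 < m) :
    m + 1 ∈ (S.κ (cs.wordProd (List.ofFn (cn m hm)))).right.cycleType := by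
  rw [S.word, SemidirectProduct.right_inr]
  exact cyc_swap h0 (f := fun i : Fin (m + 1) => (Fin.castLE (by omega) i : Fin (k + 2))) (Fin.castLE_injective (by omega))

theorem exists_inr (σ : Equiv.Perm (Fin (k + 2))) : ∃ w ∈ WJ cs (J1 k), S.κ w = SemidirectProduct.inr σ := by
  have h3 : σ ∈ Submonoid.closure (Set.range fun i : Fin (k + 1) => Equiv.swap i.castSucc i.succ) := by
    rw [Equiv.Perm.mclosure_swap_castSucc_succ]
    exact Submonoid.mem_top σ
  induction h3 using Submonoid.closure_induction with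
  | mem x hx =>
    obtain ⟨i, rfl⟩ := hx
    have h4 : ((i.castSucc : Fin (k + 2)) : ℕ) + 1 < k + 2 := by
      rw [Fin.val_castSucc]
      omega
    refine ⟨cs.simple i.castSucc, Subgroup.subset_closure ⟨_, mem_J1.2 i.2, rfl⟩, ?_⟩
    rw [S.lt _ h4]
    rfl
  | one => exact ⟨1, one_mem _, by rw [map_one, map_one]⟩
  | mul x y _ _ hx hy =>
    obtain ⟨v, hv, e⟩ := hx
    obtain ⟨w, hw, e'⟩ := hy
    exact ⟨v * w, mul_mem hv hw, by rw [map_mul, map_mul, e, e']⟩

theorem mem_WJ1 {w : W} (hw : (S.κ w).left = 1) : w ∈ WJ cs (J1 k) := by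
  obtain ⟨v, hv, e⟩ := S.exists_inr (S.κ w).right
  have : w = v := S.inj (by rw [e]; exact SemidirectProduct.ext hw rfl)
  rwa [this]

/-- **the type of the cuspidal pair is empty** -/
theorem eq_empty {K K' : Set (Fin (k + 2))} (hK : K ⊆ J1 k) {d : ℕ} (hd : d ∣ k + 1 + 1)
    (hs : ∀ i : Fin (k + 1), cn (k + 1) le_rfl i ∈ K ↔ ¬ d ∣ (i : ℕ) + 1)
    (hK' : ∀ j ∈ K', S.ee (sr j) (Fin.last (k + 1)) ≠ 1 ∧ S.ee (sr j) (Fin.last (k + 1)) ≠ -1) {w : W}
    (hw : Mp cs h K' K w) : K = ∅ := by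
  by_cases hd1 : d = 1
  · subst hd1
    rw [Set.eq_empty_iff_forall_notMem]
    intro j hj
    exact (hs ⟨j, mem_J1.1 (hK hj)⟩).1 hj (one_dvd _)
  exfalso
  set σ := (S.κ w).right with hσ
  set a : Fin (k + 2) := σ⁻¹ (Fin.last (k + 1)) with ha
  have ha' : σ a = Fin.last (k + 1) := by rw [ha]; simp
  obtain ⟨i, hi, hia⟩ : ∃ i : Fin (k + 1), cn (k + 1) le_rfl i ∈ K ∧ ((a : ℕ) = i ∨ (a : ℕ) = i + 1) := by
    by_cases h1 : d ∣ (a : ℕ) + 1
    · have h2 : (a : ℕ) ≠ 0 := by
        intro h3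
        rw [h3] at h1
        exact hd1 (Nat.dvd_one.1 h1)
      have h3 := a.2
      refine ⟨⟨a - 1, by omega⟩, (hs _).2 fun h4 => ?_, Or.inr (by simp only; omega)⟩
      have h5 : (a : ℕ) - 1 + 1 = a := by omega
      simp only [h5] at h4
      exact hd1 (Nat.dvd_one.1 ((Nat.dvd_add_right h4).1 h1))
    · have h3 := a.2
      have h4 : (a : ℕ) ≠ k + 1 := fun h5 => h1 (by rw [h5]; exact hd)
      exact ⟨⟨a, by omega⟩, (hs _).2 h1, Or.inl rfl⟩
  obtain ⟨j, hj, e⟩ := hw.1 _ hi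
  have hi' : ((cn (k + 1) le_rfl i : Fin (k + 2)) : ℕ) + 1 < k + 2 := by have := i.2; rw [cn_val]; omega
  have h1 := S.act w _ _ _ (S.sr_lt _ hi')
  rw [e] at h1
  have h2 := congrFun h1 (Fin.last (k + 1))
  rw [Pi.add_apply, wt_apply, wt_apply, cc_apply, cc_apply] at h2
  simp only [← hσ] at h2
  have h3 : ∀ b : Fin (k + 2), Fin.last (k + 1) = σ b ↔ (b : ℕ) = a := fun b => by
    rw [← ha', σ.injective.eq_iff, eq_comm, Fin.ext_iff]
  simp only [h3, cn_val] at h2
  obtain ⟨n1, n2⟩ := hK' j hj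
  have h5 : ∀ (P : Prop) [Decidable P] (z : ℤ), z = (if P then 1 else -1) → z = 1 ∨ z = -1 := by
    intro P _ z hz
    by_cases hP : P
    · exact Or.inl (by rw [hz, if_pos hP])
    · exact Or.inr (by rw [hz, if_neg hP])
  rcases hia with h4 | h4
  · rw [if_pos h4.symm, if_neg (show ¬ ((i : ℕ) + 1 = a) by omega), add_zero] at h2
    exact (h5 _ _ h2).elim n1 n2
  · rw [if_neg (show ¬ ((i : ℕ) = a) by omega), if_pos h4.symm, zero_add] at h2
    exact (h5 _ _ h2).elim n1 n2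

theorem ee_lt {j : Fin (k + 2)} (hj : (j : ℕ) < k) : S.ee (sr j) (Fin.last (k + 1)) = 0 := by
  rw [S.sr_lt j (by omega), Pi.add_apply, wt_apply, wt_apply, if_neg, if_neg, add_zero]
  · simp only [Fin.ext_iff, Fin.val_last]; omega
  · simp only [Fin.ext_iff, Fin.val_last]; omega

end SW

/-- type `B` -/
noncomputable def swB (cs : CoxeterSystem (CoxeterMatrix.B (k + 2)) W) : SW cs (Nodes.TypeC.isCartan (k + 2)) where
  κ := homB cs
  inj := homB_injective cs
  rng := by rw [MonoidHom.range_eq_top.2 (homB_surjective cs)]; exact le_top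
  lt i hi := by rw [homB_simple, gen_lt hi]
  ee := Nodes.TypeC.ee
  act := ee_act cs
  sr_lt i hi := by rw [Nodes.TypeC.ee_sr, Nodes.TypeC.bt, Nodes.TypeC.nx, dif_pos hi]
  adj i j h1 h2 := by
    simp only [CoxeterMatrix.B, Matrix.of_apply, Fin.ext_iff]
    split_ifs <;> omega
  far i j h1 h2 := by
    simp only [CoxeterMatrix.B, Matrix.of_apply, Fin.ext_iff]
    split_ifs <;> omega

theorem B_last (i : Fin (k + 2)) (hi : (i : ℕ) < k) : CoxeterMatrix.B (k + 2) i (Fin.last (k + 1)) = 2 := by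
  simp only [CoxeterMatrix.B, Matrix.of_apply, Fin.ext_iff, Fin.val_last]
  split_ifs <;> omega

/-- type `D` -/
noncomputable def swD (cs : CoxeterSystem (Nodes.TypeD.M k) W) : SW cs (Nodes.TypeD.isCartan k) where
  κ := homD cs
  inj := H493.CC.homD_injective cs
  rng := by rw [H493.CC.range_homD]
  lt i hi := H493.CC.homD_simple_lt cs hi
  ee := Nodes.TypeD.ee
  act := H493.CC.ee_actD cs
  sr_lt i hi := by rw [Nodes.TypeD.ee_sr, Nodes.TypeD.bt, Nodes.TypeD.nx, dif_pos hi]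
  adj i j h1 h2 := by
    rw [Nodes.TypeD.M_apply, if_neg (by rw [Fin.ext_iff]; omega), if_pos (by unfold Nodes.TypeD.Adj; omega)]
  far i j h1 h2 := by
    rw [Nodes.TypeD.M_apply, if_neg (by rw [Fin.ext_iff]; omega), if_neg (by unfold Nodes.TypeD.Adj; omega)]

/-! ### the action on the torus -/

section ac

variable {n : ℕ} {F : Type*} [Field F]

/-- the action of the signed permutations on the diagonal torus -/
def ac (g : Wb (Fin n)) (l : Fin n → Fˣ) : Fin n → Fˣ := fun a => lam l (cc g (a, true))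

theorem lam_ac (g : Wb (Fin n)) (l : Fin n → Fˣ) (y : Fin n × Bool) : lam (ac g l) y = lam l (cc g y) := by
  obtain ⟨a, b⟩ := y
  cases b
  · change (lam l (cc g (a, true)))⁻¹ = _
    rw [cc_apply, cc_apply]
    rcases Int.units_eq_one_or (g.left (g.right a)) with h | h
    · simp only [h, bx_one]
      rfl
    · simp only [h, bx_neg]
      exact inv_inv _
  · rfl

theorem ac_mul (g g' : Wb (Fin n)) (l : Fin n → Fˣ) : ac (g * g') l = ac g' (ac g l) := by
  funext a
  rw [ac, ac, lam_ac, map_mul, Equiv.Perm.mul_apply]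

theorem ac_one (l : Fin n → Fˣ) : ac 1 l = l := by
  funext a
  rw [ac, map_one]
  rfl

theorem ac_inr (σ : Equiv.Perm (Fin n)) (l : Fin n → Fˣ) : ac (SemidirectProduct.inr σ) l = fun a => l (σ a) := by
  funext a
  rw [ac, cc_apply, SemidirectProduct.left_inr, SemidirectProduct.right_inr, Pi.one_apply, bx_one]
  rfl

theorem prod_ac (g : Wb (Fin n)) (c : Fin n) (b : Fˣ) :
    ∏ a, ac g (Pi.mulSingle c b) a = if g.left c = 1 then b else b⁻¹ := by
  rw [Finset.prod_eq_single (g.right⁻¹ c)]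
  · rw [ac, cc_apply]
    simp only [app_inv]
    rcases Int.units_eq_one_or (g.left c) with h | h
    · rw [h, bx_one, if_pos rfl]
      exact Pi.mulSingle_eq_same _ _
    · rw [h, bx_neg, if_neg (by decide)]
      change ((Pi.mulSingle c b : Fin n → Fˣ) c)⁻¹ = _
      rw [Pi.mulSingle_eq_same]
  · intro a _ ha
    have h1 : g.right a ≠ c := fun h => ha (by rw [← h]; simp)
    rw [ac, cc_apply, lam]
    simp only [Pi.mulSingle_eq_of_ne h1, inv_one, ite_self]
  · intro h
    exact absurd (Finset.mem_univ _) h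

end ac

end Cfsg.Agent.VAN.C
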