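import Cfsg.Agent.VAN.C.Gl
import Cfsg.Agent.VAN.HC.Trans
import Cfsg.Agent.H553.AF.PSp
import Cfsg.Agent.H754.XZ.Inter
import Cfsg.Agent.S0245
import Cfsg.Agent.S0246

/-!
# S4942: the symplectic groups (helper91)

`van3_sp_big` : `PSp_{2n}(q)`, `n ≥ 3`, `q ≥ 3`; `van3_sp_two` : `q = 2`, `n ≥ 4`.
-/

set_option autoImplicit false
set_option linter.unusedSectionVars false
set_option maxHeartbeats 400000

namespace Cfsg.Agent.VAN.C

open CoxeterSystem Cfsg Cfsg.Agent.ChevalleyStructure.CoxeterGeom Cfsg.Agent.Tits.Roots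
  Cfsg.Agent.Nodes.Reps Cfsg.Agent.Nodes.BNOf Cfsg.Agent.Nodes.Bruhat Cfsg.Agent.Nodes.LeviDec
  Cfsg.Agent.VAN.HC Cfsg.Agent.Nodes.RGDLib Cfsg.Agent.Nodes Cfsg.Agent.Nodes.WittRoot
open Cfsg.Agent.TitsThree Cfsg.Agent.TitsThree.Siegel Cfsg.Agent.TitsThree.WittFrame Cfsg.Agent.TitsThree.WittWeyl
  Cfsg.Agent.TitsThree.FrameCN
open Cfsg.Agent.H62.PCFrame Cfsg.Agent.H62.PCWitt Cfsg.Agent.H410.OZ Module
open Cfsg.Agent.H553.AF (IsSim)
open Cfsg.Agent.H553.AF.PSp (DS dgp)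
open Cfsg.Agent.H644.OZ (dg lam)
open Cfsg.Agent.Nodes.TypeD (pd)
open Cfsg.Agent.TitsThree.SpIdent Cfsg.Agent.H62.FrameSL Cfsg.Agent.Nodes.WittU Cfsg.Agent.H530.OZ
open Cfsg.Agent.ChevalleyStructure.SL2Hom
open Cfsg.Agent.H53.HC (MJ)
open scoped MatrixGroups

namespace Sp

variable {F : Type} [Field F] {k : ℕ}

theorem hV0 : ∀ v, (∀ x, (form (k + 2) F).h v ((frame (k + 2) F).b x) = 0) → v ∈ (frame (k + 2) F).V0 := amb_Sp.V0

theorem pdg_eq (d c : Fin (k + 2) → Fˣ) :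
    H553.AF.PSp.dg d c = dg (frame (k + 2) F) (fun y => if y.2 then d y.1 else c y.1) 1 := by
  refine H553.AF.PSp.ext_b fun ⟨i, b⟩ => ?_
  rw [H644.OZ.dg_b]
  cases b
  · exact H553.AF.PSp.dg_f d c i
  · exact H553.AF.PSp.dg_e d c i

theorem hT : ∀ t ∈ DS (k + 2) F, ∃ s, t = dg (frame (k + 2) F) s 1 := fun t ht =>
  exists_dg hV0 ht.1 fun w hw => by rw [show w = 0 from hw, map_zero, smul_zero]

theorem hM : ∀ t ∈ DS (k + 2) F, Mono (frame (k + 2) F) t id := fun _ h => h.1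

theorem hS : ∀ t ∈ DS (k + 2) F, ∃ c, IsSim (form (k + 2) F) c t := fun _ h => h.2

theorem Dh_eq (l : Fin (k + 2) → Fˣ) : Dh (frame (k + 2) F) l = H553.AF.PSp.dg l l⁻¹ := (pdg_eq l l⁻¹).symm

theorem hD (l : Fin (k + 2) → Fˣ) : Dh (frame (k + 2) F) l ∈ DS (k + 2) F := by
  rw [Dh_eq]
  exact H553.AF.PSp.dg_mem _ _ 1 fun i => mul_inv_cancel _

theorem card_adm : Nat.card (frame (k + 2) F).Adm = Nat.card F :=
  Nat.card_congr ⟨fun p => p.c, adm, fun p => (eq_adm p).symm, fun _ => rfl⟩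

variable {W : Type*} [Group W] (cs : CoxeterSystem (CoxeterMatrix.B (k + 2)) W)

theorem nm : Nm cs (TypeC.isCartan (k + 2)) (DS (k + 2) F) (rg (frame (k + 2) F)) (isos (form (k + 2) F)) where
  le := model_le (KInstSp.model (k + 2) F) (Nat.succ_pos _) cs fun _ hg => ⟨hg.2, 1, IsSim.of_iso hg.1⟩
  root x _ := rg_iso _ x
  nm _ ht s hs := (Subgroup.mem_normalizer_iff.1 (H553.AF.PSp.sim_norm ht.2.choose_spec) s).1 hs

theorem td : TD (swB cs) (DS (k + 2) F) (WittRGD.nn (frame (k + 2) F) (adm 1)) (Dh (frame (k + 2) F)) :=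
  tdC hV0 (fun t ht => (hT t ht).imp fun _ h => ⟨1, h⟩) hD cs one_ne_zero

theorem hend (a : Fˣ) : ∃ s ∈ DS (k + 2) F, (∀ j : Fin (k + 2), (j : ℕ) < k →
    WittRGD.nn (frame (k + 2) F) (adm 1) j * s = s * WittRGD.nn (frame (k + 2) F) (adm 1) j) ∧
    WittRGD.nn (frame (k + 2) F) (adm 1) (Fin.last (k + 1)) * s * (WittRGD.nn (frame (k + 2) F) (adm 1) (Fin.last (k + 1)))⁻¹ =
      s * Dh (frame (k + 2) F) (Pi.mulSingle (Fin.last (k + 1)) (a ^ 1)) := by
  obtain ⟨s, hs⟩ : ∃ s : Fin (k + 2) × Bool → Fˣ, s = fun y => if y.2 then 1 else a := ⟨_, rfl⟩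
  have h1 : ∀ i, s (i, true) = 1 := fun i => by rw [hs]; rfl
  have h2 : ∀ i, s (i, false) = a := fun i => by rw [hs]; rfl
  refine ⟨dg (frame (k + 2) F) s 1, ?_, fun j hj => ?_, ?_⟩
  · rw [hs, ← pdg_eq (fun _ => 1) (fun _ => a)]
    exact H553.AF.PSp.dg_mem _ _ a fun _ => one_mul _
  · have h3 := nn_dg hV0 (p0 := adm 1) one_ne_zero j s 1
    have h4 : (fun x => s (TypeC.sg j x)) = s := by
      funext x
      have h5 : (TypeC.sg j x).2 = x.2 := by
        unfold TypeC.sg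
        rw [dif_pos (by omega)]
        split_ifs <;> rfl
      rw [hs]
      simp only [h5]
    rw [h4, mul_assoc, inv_mul_eq_iff_eq_mul] at h3
    exact h3.symm
  · obtain ⟨l, hl⟩ : ∃ l : Fin (k + 2) → Fˣ, l = Pi.mulSingle (Fin.last (k + 1)) (a ^ 1) := ⟨_, rfl⟩
    have h3 := nn_dg hV0 (p0 := adm 1) one_ne_zero (Fin.last (k + 1)) (s * lam l) 1
    have h4 : (fun x => (s * lam l) (TypeC.sg (Fin.last (k + 1)) x)) = s := by
      funext ⟨i, b⟩
      by_cases hi : i = Fin.last (k + 1)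
      · have h5 : l (Fin.last (k + 1)) = a := by rw [hl, Pi.mulSingle_eq_same, pow_one]
        rw [hi, TypeC.sg_last (by simp), Pi.mul_apply]
        cases b
        · rw [Bool.not_false, h1, h2, H644.OZ.lam_true, h5, one_mul]
        · rw [Bool.not_true, h1, h2, H644.OZ.lam_false, h5, mul_inv_cancel]
      · have h5 : l i = 1 := by rw [hl, Pi.mulSingle_eq_of_ne hi]
        rw [TypeC.sg_of_ne hi (by have := i.2; simp only [Fin.val_last]; omega), Pi.mul_apply]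
        cases b
        · rw [H644.OZ.lam_false, h5, inv_one, mul_one]
        · rw [H644.OZ.lam_true, h5, mul_one]
    rw [h4] at h3
    rw [← hl, Dh_apply, ← H644.OZ.dg_mul, mul_one, ← h3]
    group

theorem hTS : ∀ s ∈ DS (k + 2) F, s ∈ isos (form (k + 2) F) → ∃ l c, s = Dh (frame (k + 2) F) l ∧ ∏ a, l a = c ^ 1 := by
  intro t ht hs
  obtain ⟨s, rfl⟩ := hT t ht
  obtain ⟨l, rfl⟩ := exists_lam (fun _ => rfl) hs
  exact ⟨l, _, rfl, (pow_one _).symm⟩

/-- it is enough to find a similitude for each multiplier -/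
theorem cov {g : (Fin (k + 2) ⊕ Fin (k + 2) → F) ≃ₗ[F] (Fin (k + 2) ⊕ Fin (k + 2) → F)}
    (hg : ∀ c : Fˣ, ∃ z, IsSim (form (k + 2) F) c z ∧ z * g = g * z) :
    Cov cs (TypeC.isCartan (k + 2)) (DS (k + 2) F) (rg (frame (k + 2) F)) (isos (form (k + 2) F)) g := by
  intro t ht
  obtain ⟨c, hc⟩ := ht.2
  obtain ⟨z, h1, h2⟩ := hg (Units.mk0 c hc.ne)
  have h3 := h1.inv.mul hc
  rw [Units.val_mk0, inv_mul_cancel₀ hc.ne] at h3
  refine ⟨z, ?_, h2, h3.iso⟩
  have h4 := mul_mem (T_le_GG (cs := cs) (h := TypeC.isCartan (k + 2)) (X := rg (frame (k + 2) F)) ht)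
    (inv_mem ((nm cs).le h3.iso))
  rwa [show t * (z⁻¹ * t)⁻¹ = z by group] at h4

/-- the standard similitudes -/
def ss (k : ℕ) (c : Fˣ) : (Fin (k + 2) ⊕ Fin (k + 2) → F) ≃ₗ[F] (Fin (k + 2) ⊕ Fin (k + 2) → F) :=
  dg (frame (k + 2) F) (fun y => if y.2 then c else 1) 1

theorem ss_sim (c : Fˣ) : IsSim (form (k + 2) F) c (ss k c) := by
  rw [ss, ← pdg_eq (fun _ => c) (fun _ => 1)]
  exact H553.AF.PSp.dg_sim _ _ c fun _ => mul_one _

theorem ss_e (c : Fˣ) (i : Fin (k + 2)) : ss k c ((frame (k + 2) F).b (i, true)) = (c : F) • (frame (k + 2) F).b (i, true) :=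
  H644.OZ.dg_b _ _ _ _

theorem ss_f (c : Fˣ) (i : Fin (k + 2)) : ss k c ((frame (k + 2) F).b (i, false)) = (1 : F) • (frame (k + 2) F).b (i, false) :=
  H644.OZ.dg_b _ _ _ _

theorem ss_mid (c : Fˣ) {v : Fin (k + 2) ⊕ Fin (k + 2) → F} (hv : v ∈ Mid (frame (k + 2) F) (pd k)) :
    ss k c v = linL (frame (k + 2) F) (Fin.last (k + 1)) !![(c : F), 0; 0, 1] v := by
  rw [ss, H644.OZ.dg_apply, linL_apply, Finset.sum_eq_single (Fin.last (k + 1), true)]
  · rw [H644.OZ.cf_apply]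
    have h1 : (frame (k + 2) F).η (neg (Fin.last (k + 1), true)) = 1 := rfl
    have h2 : neg (Fin.last (k + 1), true) = (Fin.last (k + 1), false) := rfl
    rw [h1, h2]
    simp
  · rintro ⟨i, b⟩ _ hne
    cases b
    · simp
    · have h1 : i ≤ pd k := by
        have h2 : (i : ℕ) ≠ k + 1 := fun h => hne (Prod.ext (Fin.ext h) rfl)
        have := i.2
        rw [Fin.le_def]
        change (i : ℕ) ≤ k
        omega
      rw [H644.OZ.cf_apply, show (form (k + 2) F).h v ((frame (k + 2) F).b (neg (i, true))) = 0 from hv i h1 false,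
        zero_mul, mul_zero, zero_smul]
  · exact fun h => absurd (Finset.mem_univ _) h

theorem linL_mid (B : Matrix (Fin 2) (Fin 2) F) {v : Fin (k + 2) ⊕ Fin (k + 2) → F}
    (hv : v ∈ Mid (frame (k + 2) F) (pd k)) :
    linL (frame (k + 2) F) (Fin.last (k + 1)) B v ∈ Mid (frame (k + 2) F) (pd k) := by
  rw [linL_apply]
  exact Submodule.add_mem _ (Submodule.add_mem _ hv (Submodule.smul_mem _ _ (b_mem_Mid pd_lt _)))
    (Submodule.smul_mem _ _ (b_mem_Mid pd_lt _))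

variable [Fintype F]

/-- the anisotropic element and its centraliser -/
theorem exists_C' : ∃ C : SL(2, F), C ^ (Nat.card F + 1) = 1 ∧ Anis C.1 ∧
    ∀ c : Fˣ, ∃ S : SL(2, F), S.1 * !![(c : F), 0; 0, 1] * C.1 = C.1 * (S.1 * !![(c : F), 0; 0, 1]) := by
  obtain ⟨L, _, _, _, b, γ, hfr, hγ, -⟩ := exists_ext F (ι := Fin 2) two_pos (Fintype.card_fin 2)
  have hq : 1 < Nat.card F := Finite.one_lt_card
  obtain ⟨x, hx⟩ : ∃ x, Nat.card F = x + 1 := ⟨Nat.card F - 1, by omega⟩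
  have hpow : ∀ a : F, a ≠ 0 → a ^ x = 1 := fun a ha => by
    have h1 := FiniteField.pow_card_sub_one_eq_one a ha
    rwa [← Nat.card_eq_fintype_card, hx, Nat.add_sub_cancel] at h1
  have hord : orderOf γ = x * (x + 2) := by
    rw [hγ, hx, show (x + 1) ^ 2 = x * (x + 2) + 1 by ring, Nat.add_sub_cancel]
  have hC : (Algebra.leftMulMatrix b ((γ : L) ^ x)).det = 1 := by
    rw [map_pow, Matrix.det_pow, hpow _ (det_mul_ne b γ.ne_zero)]
  let C : SL(2, F) := ⟨_, hC⟩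
  refine ⟨C, Subtype.ext ?_, anis_mul b fun l hl => ?_, fun c => ?_⟩
  · rw [Matrix.SpecialLinearGroup.coe_pow C]
    change Algebra.leftMulMatrix b ((γ : L) ^ x) ^ (Nat.card F + 1) = 1
    rw [← map_pow, ← pow_mul, hx, ← hord, ← Units.val_pow_eq_pow_val, pow_orderOf_eq_one, Units.val_one, map_one]
  · have hl0 : l ≠ 0 := by
      rintro rfl
      rw [map_zero] at hl
      exact pow_ne_zero _ γ.ne_zero hl
    have h1 : γ ^ (x * x) = 1 := Units.ext (by
      rw [Units.val_pow_eq_pow_val, pow_mul, hl, ← map_pow, hpow l hl0, map_one, Units.val_one])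
    have h2 := Nat.le_of_dvd (Nat.mul_pos (by omega) (by omega)) (hord ▸ orderOf_dvd_of_pow_eq_one h1)
    nlinarith
  · obtain ⟨w, hw⟩ := nu_surj (L := L) c
    have h1 : (Algebra.leftMulMatrix b (w : L)).det = c := by rw [← Algebra.norm_eq_matrix_det, ← nu_val, hw]
    have h2 : (!![(c : F)⁻¹, 0; 0, 1] : Matrix (Fin 2) (Fin 2) F) * !![(c : F), 0; 0, 1] = 1 := by
      rw [Matrix.mul_fin_two, Matrix.one_fin_two]
      simp
    refine ⟨⟨Algebra.leftMulMatrix b (w : L) * !![(c : F)⁻¹, 0; 0, 1], ?_⟩, ?_⟩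
    · rw [Matrix.det_mul, h1, Matrix.det_fin_two_of]
      simp
    · change Algebra.leftMulMatrix b (w : L) * _ * _ * Algebra.leftMulMatrix b _ =
        Algebra.leftMulMatrix b _ * (Algebra.leftMulMatrix b (w : L) * _ * _)
      rw [mul_assoc (Algebra.leftMulMatrix b (w : L)), h2, mul_one, ← map_mul, ← map_mul, mul_comm]

theorem card_psp : Nat.gcd 2 (Fintype.card F - 1) * Nat.card (PSp (k + 2) F) =
    Fintype.card F ^ ((k + 2) ^ 2) * ∏ i ∈ Finset.range (k + 2), (Fintype.card F ^ (2 * (i + 1)) - 1) := by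
  have h3 := Subgroup.card_mul_index (Subgroup.center ↥(Matrix.symplecticGroup (Fin (k + 2)) F))
  rw [S0245.result rfl (k + 2), S0246.result rfl (k + 2) (by omega)] at h3
  exact h3

end Sp

open Sp

variable {F : Type} [Field F] [Fintype F] {k : ℕ}

/-- **`PSp_{2n}(q)`, `q ≥ 3`** -/
theorem van3_sp_big (hk : 0 < k) (hq : 3 ≤ Fintype.card F) : Van3 (PSp (k + 2) F) := by
  obtain ⟨p, hch⟩ := CharP.exists F
  obtain ⟨⟨f, hf⟩, hp, hcard⟩ := FiniteField.card F p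
  simp only [PNat.mk_coe] at hcard
  have : Fact p.Prime := ⟨hp⟩
  have hc : Nat.card F = Fintype.card F := Nat.card_eq_fintype_card
  let cs := (CoxeterMatrix.B (k + 2)).toCoxeterSystem
  have : Finite (CoxeterMatrix.B (k + 2)).Group := TypeC.finite_W cs
  have : Finite ((Fin (k + 2) ⊕ Fin (k + 2) → F) ≃ₗ[F] (Fin (k + 2) ⊕ Fin (k + 2) → F)) :=
    Finite.of_injective (fun g : (Fin (k + 2) ⊕ Fin (k + 2) → F) ≃ₗ[F] (Fin (k + 2) ⊕ Fin (k + 2) → F) => (g : _ → _))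
      DFunLike.coe_injective
  have : Finite (PSp (k + 2) F) := Finite.of_surjective _ toPSp_surjective
  have R := (dgp (m := k + 2) (F := F) (p := p)).rgd (WittAll.AmbT.of_amb amb_Sp p) one_ne_zero cs
  obtain ⟨L₁, _, _, _, β₁, γ₁, h₁, o₁, -⟩ := exists_sing F (Fin.last (k + 1))
  obtain ⟨L₂, _, _, _, β₂, γ₂, h₂, o₂, -⟩ := exists_sing F (pd k)
  obtain ⟨C, hC1, hC2, hC3⟩ := exists_C' (F := F)
  have s₁ := sing_of h₁ o₁ (good1 (s := 1) (by omega) (by simp) (Or.inl (by omega)) one_pos (by omega))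
  have s₂ := sing_of h₂ o₂ (good1 (s := Nat.card F + 1) (by omega) (by change 2 ≤ k + 1; omega) (Or.inl (by omega))
    (by omega) le_rfl)
  have c₁ := comp_one (frame (k + 2) F) (Fin.last (k + 1))
  have c₂ := comp_sp (pd_lt (k := k)) hC1
  have m₁ : gl (frame (k + 2) F) β₁ (γ₁ ^ 1) * 1 ∈ isos (form (k + 2) F) :=
    mul_mem (isIso_gl (fun _ => rfl) _) (one_mem _)
  have m₂ : gl (frame (k + 2) F) β₂ (γ₂ ^ 1) * phiL (frame (k + 2) F) (Fin.last (k + 1)) C ∈ isos (form (k + 2) F) :=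
    mul_mem (isIso_gl (fun _ => rfl) _) c₂.iso
  obtain ⟨r, hr⟩ := exists_prim (p := p ^ f) (n := 2 * (k + 1)) (by omega) (by omega) (by omega)
  obtain ⟨g, r₃, p₃⟩ := exists_mixed_BC (WittInst.hasRGD_PSp (F := F) (m := k + 2) (by omega)) hf hk
    (d := Nat.gcd 2 (p ^ f - 1)) (fun h => not_dvd_pow_sub hp hf (h.trans (Nat.gcd_dvd_right _ _)))
    (Nat.gcd_dvd_left _ _) (by rw [← hcard]; exact card_psp) hr
  obtain ⟨g₃, rfl⟩ := toPSp_surjective g
  have o₃ : orderOf (toPSp g₃) ∣ orderOf g₃.1 := by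
    rw [Subgroup.orderOf_coe]
    exact orderOf_map_dvd _ _
  have hq2 : 2 ≤ p ^ f := by omega
  refine (vanA' R (nm cs) hk (td cs) hend hTS m₁ m₂ g₃.2 (cov cs fun c => ⟨ss k c, ss_sim c, ?_⟩) (cov cs fun c => ?_)
    (elC_last hM hS s₁ (fun _ => nd_sp) one_ne_zero R c₁ ((nm cs).le m₁))
    (elC_pd hM hS s₂ (fun _ => nd_sp) one_ne_zero R c₂ ((nm cs).le m₂)
      (iso_sp (i := pd k) rfl rfl hC2))
    (q := p ^ f) (fun i => by rw [card_rg _ card_adm, hc, hcard]) hr.prime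
    (not_dvd_B R hr.prime (fun h => hr.nd (h ▸ dvd_pow_self r hf.ne')) (q := Nat.card F - 1) (fun t ht => ?_) ?_)
    (fun m hm => prim_sum hr hq2 (by omega)) (fun m hm => prim_add hr hq2 (by omega) (by omega))
    (r₃.trans o₃) (p₃.trans o₃)).of_surj toPSp toPSp_surjective
  · refine comm_gl c₁ (fun i _ => ss_e c i) (fun i _ => ss_f c i) (fun v hv => ?_) fun _ _ => rfl
    rw [mid_sp rfl hv, map_zero]
    exact Submodule.zero_mem _
  · obtain ⟨S, hS'⟩ := hC3 c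
    have h1 : ∀ v ∈ Mid (frame (k + 2) F) (pd k), (phiL (frame (k + 2) F) (Fin.last (k + 1)) S * ss k c) v =
        linL (frame (k + 2) F) (Fin.last (k + 1)) (S.1 * !![(c : F), 0; 0, 1]) v := fun v hv => by
      change phiL _ _ S (ss k c v) = _
      rw [ss_mid c hv, phiL_apply, linL_mul]
    refine ⟨phiL (frame (k + 2) F) (Fin.last (k + 1)) S * ss k c, ?_, comm_gl c₂ (a := c) (b := 1) (fun i hi => ?_)
      (fun i hi => ?_) (fun v hv => ?_) fun v hv => ?_⟩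
    · have h2 := (IsSim.of_iso (phiL_isIso (Fin.last (k + 1)) S)).mul (ss_sim c)
      rwa [one_mul] at h2
    · change phiL _ _ S (ss k c _) = _
      rw [ss_e, map_smul, phiL_fix (lt_of_le_of_lt hi pd_lt).ne]
    · change phiL _ _ S (ss k c _) = _
      rw [ss_f, map_smul, phiL_fix (lt_of_le_of_lt hi pd_lt).ne]
    · rw [h1 v hv]
      exact linL_mid _ hv
    · rw [h1 _ (c₂.mid hv), h1 v hv, phiL_apply, phiL_apply, linL_mul, linL_mul, hS']
  · obtain ⟨s, rfl⟩ := hT t ht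
    exact dg_pow_card _ _ _
  · have h1 := prim_sub hr hq2 one_pos (by omega)
    rwa [pow_one, ← hcard, ← hc] at h1

/-- **`Sp_{2n}(2)`, `n ≥ 4`** -/
theorem van3_sp_two (hk : 2 ≤ k) (hq : Fintype.card F = 2) : Van3 (PSp (k + 2) F) := by
  have hch : CharP F 2 := charP_of_card_eq_prime hq
  have hc : Nat.card F = 2 := Nat.card_eq_fintype_card.trans hq
  let cs := (CoxeterMatrix.B (k + 2)).toCoxeterSystem
  have : Finite (CoxeterMatrix.B (k + 2)).Group := TypeC.finite_W cs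
  have : Finite ((Fin (k + 2) ⊕ Fin (k + 2) → F) ≃ₗ[F] (Fin (k + 2) ⊕ Fin (k + 2) → F)) :=
    Finite.of_injective (fun g : (Fin (k + 2) ⊕ Fin (k + 2) → F) ≃ₗ[F] (Fin (k + 2) ⊕ Fin (k + 2) → F) => (g : _ → _))
      DFunLike.coe_injective
  have : Finite (PSp (k + 2) F) := Finite.of_surjective _ toPSp_surjective
  have R := (dgp (m := k + 2) (F := F) (p := 2)).rgd (WittAll.AmbT.of_amb amb_Sp 2) one_ne_zero cs
  have hT1 : ∀ t ∈ DS (k + 2) F, t = 1 := fun t ht => by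
    obtain ⟨s, rfl⟩ := hT t ht
    have h1 := dg_pow_card (frame (k + 2) F) s 1
    rwa [hc, pow_one] at h1
  obtain ⟨L₁, _, _, _, β₁, γ₁, h₁, o₁, -⟩ := exists_sing F (Fin.last (k + 1))
  obtain ⟨L₂, _, _, _, β₂, γ₂, h₂, o₂, -⟩ := exists_sing F (pd k)
  have s₁ := sing_of h₁ o₁ (good1 (s := 1) (by omega) (by simp) (Or.inr (by simp; omega)) one_pos (by omega))
  have s₂ := sing_of h₂ o₂ (good1 (s := 2) (by omega) (by change 2 ≤ k + 1; omega)
    (Or.inr (by change 3 ≤ k + 1; omega)) two_pos (by omega))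
  have hC : (up 1 : SL(2, F)) ^ 2 = 1 := by
    apply Subtype.ext
    rw [pow_two]
    change !![(1 : F), 1; 0, 1] * !![1, 1; 0, 1] = 1
    rw [Matrix.mul_fin_two, Matrix.one_fin_two]
    simp [CharTwo.add_self_eq_zero]
  have c₁ := comp_one (frame (k + 2) F) (Fin.last (k + 1))
  have c₂ := comp_sp (pd_lt (k := k)) hC
  have m₀ : gl (frame (k + 2) F) β₂ (γ₂ ^ 1) ∈ isos (form (k + 2) F) := isIso_gl (fun _ => rfl) _
  have m₁ : gl (frame (k + 2) F) β₁ (γ₁ ^ 1) * 1 ∈ isos (form (k + 2) F) :=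
    mul_mem (isIso_gl (fun _ => rfl) _) (one_mem _)
  obtain ⟨r, hr⟩ := exists_prim (p := 2) (n := 2 * (k + 2)) le_rfl (by omega) (by omega)
  have hd : r ∣ Nat.card (PSp (k + 2) F) := by
    have h1 := card_psp (F := F) (k := k)
    rw [hq, show Nat.gcd 2 (2 - 1) = 1 from rfl, one_mul] at h1
    rw [h1]
    exact (((hr.iff _).2 dvd_rfl).trans (Finset.dvd_prod_of_mem (fun i => 2 ^ (2 * (i + 1)) - 1)
      (Finset.mem_range.2 (Nat.lt_succ_self (k + 1))))).mul_left _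
  have := Fact.mk hr.prime
  obtain ⟨g, hg⟩ := exists_prime_orderOf_dvd_card' r hd
  obtain ⟨g₃, rfl⟩ := toPSp_surjective g
  have o₃ : r ∣ orderOf g₃.1 := by
    rw [Subgroup.orderOf_coe, ← hg]
    exact orderOf_map_dvd _ _
  have fl := flC (p0 := adm 1) one_ne_zero R hM hS
  have hl : ¬ ((Fin.last (k + 1) : Fin (k + 2)) : ℕ) + 1 < k + 2 := by simp
  have e1 : rg (frame (k + 2) F) (sr (Fin.last (k + 1))) = ZG (frame (k + 2) F) (Fin.last (k + 1), true) := by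
    rw [WittRGD.rg_sr, TypeC.nx, dif_neg hl, PG_self]
  have e2 : rg (frame (k + 2) F) (-sr (Fin.last (k + 1))) = ZG (frame (k + 2) F) (Fin.last (k + 1), false) := by
    rw [WittRGD.rg_neg_sr, TypeC.nx, dif_neg hl, PG_self]
    rfl
  refine (vanB' R (nm cs) (by omega) hT1 m₁ g₃.2
    (elC_last hM hS s₁ (fun _ => nd_sp) one_ne_zero R c₁ ((nm cs).le m₁))
    ((fl (pd k)).fpf c₂ ((nm cs).le (mul_mem m₀ c₂.iso)) s₂.ne s₂.root fun _ => nd_sp)
    (avC_pd hM hS s₂ (fun _ => nd_sp) one_ne_zero R c₂) ?_ m₀ (fun z hz => ?_) ?_ ?_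
    (q := 2) (fun i => by rw [card_rg _ card_adm, hc]) hr.prime
    (not_dvd_B R hr.prime (fun h => hr.nd (h ▸ dvd_rfl)) (q := 1) (fun t ht => by rw [pow_one, hT1 t ht])
      hr.prime.not_dvd_one)
    (fun m hm => prim_sum hr le_rfl (by omega)) (fun m hm => prim_add hr le_rfl (by omega) (by omega))
    o₃).of_surj toPSp toPSp_surjective
  · have c₀ := comp_one (frame (k + 2) F) (pd k)
    have key : ∀ s, gl (frame (k + 2) F) β₂ (γ₂ ^ 1) ∈ H769.OZ.StE (H769.OZ.E (frame (k + 2) F) (Fin.last (k + 1)) s) := by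
      intro s
      refine H769.OZ.mem_StE_of_finite fun x hx => ?_
      refine Submodule.span_induction (p := fun x _ => gl (frame (k + 2) F) β₂ (γ₂ ^ 1) x ∈
        H769.OZ.E (frame (k + 2) F) (Fin.last (k + 1)) s) ?_ (by simp) (fun x y _ _ h1 h2 => ?_) (fun c x _ h1 => ?_) hx
      · rintro _ ⟨i, -, rfl⟩
        by_cases hi : i ≤ pd k
        · have h1 : H769.OZ.E (frame (k + 2) F) (pd k) s ≤ H769.OZ.E (frame (k + 2) F) (Fin.last (k + 1)) s :=
            Submodule.span_mono fun _ ⟨j, _, e⟩ => ⟨j, Fin.le_last j, e⟩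
          have h2 : (frame (k + 2) F).b (i, s) ∈ H769.OZ.E (frame (k + 2) F) (pd k) s := Submodule.subset_span ⟨i, hi, rfl⟩
          refine h1 ?_
          cases s
          · rw [E_false] at h2 ⊢
            exact (gl_F (β := β₂) (z := γ₂ ^ 1) c₀ _).2 h2
          · rw [E_true] at h2 ⊢
            exact (gl_E (β := β₂) (z := γ₂ ^ 1) c₀ _).2 h2
        · rw [gl_Mid _ (b_mem_Mid (not_le.1 hi) s)]
          exact Submodule.subset_span ⟨i, Fin.le_last i, rfl⟩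
      · rw [map_add]
        exact Submodule.add_mem _ h1 h2
      · rw [map_smul]
        exact Submodule.smul_mem _ _ h1
    rw [Set.sdiff_eq, ← H754.XZ.LJ_inf_LJ R]
    refine ⟨?_, (fl _).mem_LJ ((nm cs).le m₀) (by rw [← E_true]; exact key true) (by rw [← E_false]; exact key false)⟩
    have h1 := (fl (pd k)).mem_LJ ((nm cs).le (mul_mem m₀ (one_mem _))) (gl_E c₀) (gl_F c₀)
    rwa [mul_one] at h1
  · have h1 : MJ cs (TypeC.isCartan (k + 2)) (rg (frame (k + 2) F)) {Fin.last (k + 1)} ≤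
        (phiL (frame (k + 2) F) (Fin.last (k + 1))).range := by
      rw [phiL_range]
      refine RGD.Sup_le fun x hx => ?_
      rcases hx.1.pos_or_neg with h0 | h0
      · rw [hx.1.eq_sr h0 _ hx.2, e1]
        exact le_sup_left
      · rw [← neg_neg x, hx.1.neg.eq_sr (neg_nonneg.2 h0) _ fun j hj => by rw [Pi.neg_apply, hx.2 j hj, neg_zero],
          e2]
        exact le_sup_right
    obtain ⟨S, rfl⟩ := h1 hz
    exact gl_comm (comp_sp pd_lt (pow_zero S)) _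
  · have h1 := phiL_up (Fin.last (k + 1)) (1 : F)
    rw [e1]
    exact ⟨_, h1⟩
  · intro h1
    have h2 := congrArg (fun A : SL(2, F) => A.1 0 1) (phiL_injective _ _ (h1.trans (map_one _).symm))
    simp [up] at h2

end Cfsg.Agent.VAN.C
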