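import Cfsg.Agent.VAN.Alt.WA
import Cfsg.Agent.H493.CC.CoxD

/-!
# S4942: vanishing of the characters of the Weyl groups `W(B_n)`, `W(D_n)` (helper91)

* `clif` : Clifford theory over an abelian normal subgroup;
* `wb` : `W` between the even signed permutations and all signed permutations; an irreducible character which does not
  vanish at an element over an `n`-cycle and at an element over an `(n-1)`-cycle is linear.
-/

set_option autoImplicit false
set_option linter.unusedSectionVars false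

namespace Cfsg.Agent.VAN.C

open Cfsg Cfsg.Agent.Characters.Core Cfsg.Agent.H215.WB
open Cfsg.Agent.H493.CC (par par_apply par_inr par_inl)
open scoped ComplexConjugate

universe u

/-- Clifford theory over an abelian normal subgroup -/
theorem clif {G : Type*} [Group G] [Finite G] (K : Subgroup G) [hKn : K.Normal] [IsMulCommutative K] {χ : G → ℂ}
    (hχ : IsIrrCharacter G χ) : ∃ θ : K →* ℂˣ,
      (∀ g, χ g ≠ 0 → ∃ x : G, ∀ k : K,
        θ ⟨x⁻¹ * g * x * k * (x⁻¹ * g * x)⁻¹, hKn.conj_mem (k : G) k.2 _⟩ = θ k) ∧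
      ((∀ (g : G) (k : K), θ ⟨g * k * g⁻¹, hKn.conj_mem (k : G) k.2 g⟩ = θ k) →
        ∀ (k : K) (g : G), χ (k * g) = (θ k : ℂˣ) * χ g) := by
  classical
  have iG : Fintype G := Fintype.ofFinite G
  have iK : Fintype K := Fintype.ofFinite K
  obtain ⟨ψK, hcon⟩ := exists_constituent K hχ
  have hone : (ψK : K → ℂ) 1 = 1 := by
    have h1 := Cfsg.Agent.CharactersDeep.BrauerLocal.irr_mul ψK.2 1 1
    rw [mul_one] at h1
    have h2 := isIrr_apply_one_ne_zero ψK.2
    exact mul_left_cancel₀ h2 (by rw [mul_one]; exact h1.symm)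
  obtain ⟨θ, hf⟩ := Characters.Linear.exists_hom_of_isIrrCharacter ψK.2 hone
  have hψ : ∀ k : K, (ψK : K → ℂ) k = (θ k : ℂˣ) := fun k => congrFun hf k
  refine ⟨θ, fun g h0 => ?_, fun hinv k g => ?_⟩
  · let T : Subgroup G :=
      { carrier := {g | ∀ k : K, θ ⟨g * k * g⁻¹, hKn.conj_mem (k : G) k.2 g⟩ = θ k}
        one_mem' := fun k => by
          congr 1
          exact Subtype.ext (by simp)
        mul_mem' := by
          intro a b ha hb k
          rw [← hb k, ← ha ⟨b * k * b⁻¹, hKn.conj_mem (k : G) k.2 b⟩]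
          congr 1
          exact Subtype.ext (by simp only; group)
        inv_mem' := by
          intro a ha k
          rw [← ha ⟨a⁻¹ * k * a⁻¹⁻¹, hKn.conj_mem (k : G) k.2 a⁻¹⟩]
          congr 1
          exact Subtype.ext (by simp only; group) }
    have iT : Fintype T := Fintype.ofFinite T
    have hTc : ∀ g : G, g ∈ T ↔ ∀ k : K, (ψK : K → ℂ) ⟨g * k * g⁻¹, hKn.conj_mem (k : G) k.2 g⟩ = (ψK : K → ℂ) k := by
      intro g
      refine forall_congr' fun k => ?_
      rw [hψ, hψ, Units.val_inj]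
    have hKT : K ≤ T := by
      intro a ha k
      congr 1
      apply Subtype.ext
      have h1 : (⟨a, ha⟩ : K) * k = k * ⟨a, ha⟩ := mul_comm' _ _
      have h2 : a * k = k * a := congrArg Subtype.val h1
      change a * k * a⁻¹ = k
      rw [h2, mul_inv_cancel_right]
    obtain ⟨ψ, -, hind, -⟩ := CharDeep.CliffordCorr.clifford_correspondence K (ψK : K → ℂ) ψK.2 T hTc hKT χ hχ hcon
    by_contra hno
    apply h0
    rw [← hind]
    unfold indFun
    rw [Finset.sum_eq_zero fun x _ => extendByZero_of_notMem T ψ fun hx => hno ⟨x, hx⟩, mul_zero]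
  · obtain ⟨d, hd⟩ := S0900.restrict_eq_smul K χ hχ ψK ψK.2 hcon fun g k => by rw [hψ, hψ, hinv]
    have hi : ∀ k : K, χ k = d * (θ k : ℂˣ) := fun k => by
      rw [← hψ]
      exact congrFun hd k
    have h1 : χ 1 = d := by
      have h2 := hi 1
      rwa [map_one, Units.val_one, mul_one] at h2
    refine scalar hχ ?_ h1 (hi k) g
    refine Complex.norm_eq_one_of_pow_eq_one (n := Nat.card K) ?_ Nat.card_pos.ne'
    rw [← Units.val_pow_eq_pow_val, ← map_pow, pow_card_eq_one', map_one, Units.val_one]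

section Comb

variable {α : Type u} [Fintype α] [DecidableEq α]

/-- a function which changes by a constant factor under a fixed point free permutation and under an `(n-1)`-cycle -/
theorem const_of {A : Type*} [CommGroup A] (hn : 3 ≤ Fintype.card α) (f : α → A) {σ τ : Equiv.Perm α}
    (hσ : Fintype.card α ∈ σ.cycleType) (hτ : Fintype.card α - 1 ∈ τ.cycleType)
    (h1 : ∀ a b, f (σ a) * f b = f a * f (σ b)) (h2 : ∀ a b, f (τ a) * f b = f a * f (τ b)) (a b : α) : f a = f b := by
  classical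
  -- `σ` has no fixed point
  have hs : ∀ a, σ a ≠ a := by
    have h3 : σ.support = Finset.univ := by
      apply Finset.eq_univ_of_card
      apply le_antisymm (Finset.card_le_univ _)
      rw [← Equiv.Perm.sum_cycleType]
      exact Multiset.single_le_sum (fun _ _ => Nat.zero_le _) _ hσ
    intro a
    rw [← Equiv.Perm.mem_support, h3]
    exact Finset.mem_univ a
  obtain ⟨c, c', e, hd, hc, hcard⟩ := Equiv.Perm.mem_cycleType_iff.1 hτ
  obtain ⟨i, hi⟩ : ∃ i, c.supportᶜ = {i} := by
    rw [← Finset.card_eq_one, Finset.card_compl, hcard]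
    omega
  have hmem : ∀ a, a ≠ i → a ∈ c.support := by
    intro a ha
    by_contra h
    have h3 : a ∈ c.supportᶜ := Finset.mem_compl.2 h
    rw [hi, Finset.mem_singleton] at h3
    exact ha h3
  have hi' : i ∉ c.support := by
    rw [← Finset.mem_compl, hi]
    exact Finset.mem_singleton_self i
  have hc' : ∀ a, a ≠ i → c' a = a := fun a ha => (hd a).resolve_left (Equiv.Perm.mem_support.1 (hmem a ha))
  have hc'i : c' i = i := by
    by_contra h
    exact h (c'.injective (hc' _ h))
  have hτc : ∀ a, τ a = c a := by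
    intro a
    rw [e, Equiv.Perm.mul_apply]
    by_cases ha : a = i
    · rw [ha, hc'i]
    · rw [hc' a ha]
  have hci : c i = i := Equiv.Perm.notMem_support.1 hi'
  have h3 : ∀ a, f (c a) = f a := by
    intro a
    have h4 := h2 a i
    rw [hτc, hτc, hci] at h4
    exact mul_right_cancel h4
  have h4 : ∀ (k : ℕ) (a : α), f ((c ^ k) a) = f a := by
    intro k
    induction k with
    | zero => intro a; rfl
    | succ k ih =>
      intro a
      rw [pow_succ', Equiv.Perm.mul_apply, h3, ih]
  have h5 : ∀ a b, a ≠ i → b ≠ i → f a = f b := by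
    intro a b ha hb
    obtain ⟨k, hk⟩ := hc.exists_pow_eq (Equiv.Perm.mem_support.1 (hmem a ha)) (Equiv.Perm.mem_support.1 (hmem b hb))
    rw [← hk, h4]
  -- a point `j ≠ i` with `σ j ≠ i`
  obtain ⟨j, hj1, hj2⟩ : ∃ j, j ≠ i ∧ j ≠ σ⁻¹ i := by
    by_contra h
    push Not at h
    have h6 : (Finset.univ : Finset α) ⊆ {i, σ⁻¹ i} := by
      intro a _
      by_cases ha : a = i
      · simp [ha]
      · simp [h a ha]
    have h7 := (Finset.card_le_card h6).trans Finset.card_le_two
    rw [Finset.card_univ] at h7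
    omega
  have hj3 : σ j ≠ i := fun h => hj2 (by rw [← h, inv_app])
  have h6 : f i = f j := by
    have h7 := h1 i j
    rw [h5 (σ i) j (hs i) hj1, h5 (σ j) j hj3 hj1] at h7
    exact (mul_right_cancel h7).symm
  have h7 : ∀ a, f a = f j := by
    intro a
    by_cases ha : a = i
    · rw [ha, h6]
    · exact h5 a j ha hj1
  rw [h7 a, h7 b]

theorem cycleType_conj' (x g : Equiv.Perm α) : (x⁻¹ * g * x).cycleType = g.cycleType := by
  have h := Equiv.Perm.cycleType_conj (σ := g) (τ := x⁻¹)
  rwa [inv_inv] at h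

/-- **The characters of `W(B_n)` and `W(D_n)`.** -/
theorem wb {W : Type*} [Group W] [Finite W] (hn : 3 ≤ Fintype.card α) (κ : W →* Wb α) (hκ : Function.Injective κ)
    (hr : (par : Wb α →* ℤˣ).ker ≤ κ.range) {φ : W → ℂ} (hφ : IsIrrCharacter W φ) {g h : W}
    (hg : Fintype.card α ∈ (κ g).right.cycleType) (hh : Fintype.card α - 1 ∈ (κ h).right.cycleType)
    (g0 : φ g ≠ 0) (h0 : φ h ≠ 0) : φ 1 = 1 := by
  classical
  let π : W →* Equiv.Perm α := (SemidirectProduct.rightHom).comp κ
  have hπ : ∀ w, π w = (κ w).right := fun w => rfl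
  let K : Subgroup W := π.ker
  have hK : ∀ k : K, κ k = SemidirectProduct.inl (κ k).left := by
    intro k
    have h1 : (κ k).right = 1 := k.2
    conv_lhs => rw [← SemidirectProduct.inl_left_mul_inr_right (κ k), h1, map_one, mul_one]
  have hKc : IsMulCommutative K := by
    refine ⟨⟨fun a b => Subtype.ext (hκ ?_)⟩⟩
    change κ (a * b) = κ (b * a)
    rw [map_mul, map_mul, hK a, hK b, ← map_mul, ← map_mul, mul_comm]
  obtain ⟨θ, H1, H2⟩ := clif K hφ
  -- the even sign changes
  have hev : ∀ ε : α → ℤˣ, ∏ a, ε a = 1 → ∃ k : K, κ k = SemidirectProduct.inl ε := by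
    intro ε hε
    obtain ⟨k, hk⟩ := hr (x := SemidirectProduct.inl ε) hε
    refine ⟨⟨k, ?_⟩, hk⟩
    change (κ k).right = 1
    rw [hk, SemidirectProduct.right_inl]
  have hz : ∀ a b : α, ∃ k : K, κ k = SemidirectProduct.inl (Pi.mulSingle a (-1) * Pi.mulSingle b (-1)) := by
    intro a b
    refine hev _ ?_
    simp only [Pi.mul_apply]
    rw [Finset.prod_mul_distrib, Finset.prod_pi_mulSingle', Finset.prod_pi_mulSingle']
    simp
  choose z hz using hz
  have hsq : ∀ a : α, (Pi.mulSingle a (-1) : α → ℤˣ) * Pi.mulSingle a (-1) = 1 := fun a => by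
    rw [← Pi.mulSingle_mul, neg_mul_neg, mul_one, Pi.mulSingle_one]
  have hzz : ∀ a b c, z a b * z b c = z a c := by
    intro a b c
    refine Subtype.ext (hκ ?_)
    rw [Subgroup.coe_mul, map_mul, hz, hz, hz, ← map_mul, mul_assoc, ← mul_assoc (Pi.mulSingle b (-1)), hsq, one_mul]
  have hz1 : ∀ a, z a a = 1 := by
    intro a
    refine Subtype.ext (hκ ?_)
    rw [hz, hsq, map_one, Subgroup.coe_one, map_one]
  have hzc : ∀ (x : W) (a b : α), (⟨x * z a b * x⁻¹, (inferInstance : K.Normal).conj_mem _ (z a b).2 x⟩ : K) =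
      z (π x a) (π x b) := by
    intro x a b
    refine Subtype.ext (hκ ?_)
    change κ (x * z a b * x⁻¹) = _
    rw [map_mul, map_mul, map_inv, hz, hz, conj_inl, map_mul, act_single, act_single]
    rfl
  have hne : Nonempty α := Fintype.card_pos_iff.1 (by omega)
  obtain ⟨a0⟩ := hne
  have key : ∀ x : W, (∀ k : K, θ ⟨x * k * x⁻¹, (inferInstance : K.Normal).conj_mem (k : W) k.2 x⟩ = θ k) →
      ∀ a b, θ (z a0 (π x a)) * θ (z a0 b) = θ (z a0 a) * θ (z a0 (π x b)) := by
    intro x hx a b
    have h1 := hx (z b a)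
    rw [hzc] at h1
    rw [← hzz a0 (π x b) (π x a), ← hzz a0 b a, map_mul, map_mul, h1]
    simp only [mul_comm, mul_left_comm]
  obtain ⟨x, hx⟩ := H1 g g0
  obtain ⟨y, hy⟩ := H1 h h0
  have hconst := const_of hn (fun a => θ (z a0 a)) (σ := π (x⁻¹ * g * x)) (τ := π (y⁻¹ * h * y))
    (by rw [map_mul, map_mul, map_inv, cycleType_conj']; exact hg)
    (by rw [map_mul, map_mul, map_inv, cycleType_conj']; exact hh) (key _ hx) (key _ hy)
  have hθz : ∀ a, θ (z a0 a) = 1 := fun a => by
    have h1 : θ (z a0 a) = θ (z a0 a0) := hconst a a0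
    rw [h1, hz1, map_one]
  have hθ : ∀ k : K, ∏ a, (κ k).left a = 1 → θ k = 1 := by
    let Z : Subgroup (α → ℤˣ) :=
      { carrier := {ε | ∃ k : K, κ k = SemidirectProduct.inl ε ∧ θ k = 1}
        one_mem' := ⟨1, by rw [Subgroup.coe_one, map_one, map_one], map_one θ⟩
        mul_mem' := by
          rintro a b ⟨k, e, hk⟩ ⟨k', e', hk'⟩
          exact ⟨k * k', by rw [Subgroup.coe_mul, map_mul, map_mul, e, e'], by rw [map_mul, hk, hk', mul_one]⟩
        inv_mem' := by
          rintro a ⟨k, e, hk⟩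
          exact ⟨k⁻¹, by rw [Subgroup.coe_inv, map_inv, map_inv, e], by rw [map_inv, hk, inv_one]⟩ }
    intro k hk
    have h1 : ∏ a, (Pi.mulSingle a0 ((κ k).left a) * Pi.mulSingle a ((κ k).left a)) ∈ Z := by
      refine Subgroup.prod_mem _ fun a _ => ?_
      rcases Int.units_eq_one_or ((κ k).left a) with e | e
      · rw [e, Pi.mulSingle_one, Pi.mulSingle_one, mul_one]
        exact one_mem _
      · rw [e]
        exact ⟨z a0 a, hz _ _, hθz a⟩
    have h2 : ∏ a, (Pi.mulSingle a0 ((κ k).left a) : α → ℤˣ) = 1 := by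
      have h3 := map_prod (MonoidHom.mulSingle (fun _ : α => ℤˣ) a0) (κ k).left Finset.univ
      rw [hk, map_one] at h3
      exact h3.symm
    rw [Finset.prod_mul_distrib, h2, one_mul, Finset.univ_prod_mulSingle] at h1
    obtain ⟨k', e, hk'⟩ := h1
    have h3 : k' = k := Subtype.ext (hκ (e.trans (hK k).symm))
    rwa [← h3]
  have hsc := H2 fun x k => by
    have h1 := hθ (⟨x * k * x⁻¹, (inferInstance : K.Normal).conj_mem (k : W) k.2 x⟩ * k⁻¹) (by
      rw [← par_apply]
      change par (κ (x * k * x⁻¹ * (k : W)⁻¹)) = 1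
      simp only [map_mul, map_inv]
      rw [mul_comm (par (κ x)), mul_inv_cancel_right, mul_inv_cancel])
    rwa [map_mul, map_inv, mul_inv_eq_one] at h1
  -- the section
  have hs : ∀ σ : Equiv.Perm α, ∃ w, κ w = SemidirectProduct.inr σ := fun σ => hr (x := SemidirectProduct.inr σ) (par_inr σ)
  choose s0 hs0 using hs
  let s : Equiv.Perm α →* W := MonoidHom.mk' s0 fun σ τ => hκ (by rw [map_mul, hs0, hs0, hs0, map_mul])
  have hπs : ∀ σ, π (s σ) = σ := fun σ => by
    change (κ (s0 σ)).right = σ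
    rw [hs0, SemidirectProduct.right_inr]
  have iW : Fintype W := Fintype.ofFinite W
  have iK : Fintype K := Fintype.ofFinite K
  let E : K × Equiv.Perm α ≃ W :=
    { toFun := fun x => x.1 * s x.2
      invFun := fun w => (⟨w * (s (π w))⁻¹, by
        change π _ = 1
        rw [map_mul, map_inv, hπs, mul_inv_cancel]⟩, π w)
      left_inv := by
        rintro ⟨k, σ⟩
        have h1 : π (k * s σ) = σ := by
          have h2 : π k = 1 := k.2
          rw [map_mul, hπs, h2, one_mul]
        refine Prod.ext (Subtype.ext ?_) h1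
        change k * s σ * (s (π (k * s σ)))⁻¹ = k
        rw [h1, mul_inv_cancel_right]
      right_inv := fun w => inv_mul_cancel_right w _ }
  have hnorm : ∀ k : K, ((θ k : ℂˣ) : ℂ) * conj ((θ k : ℂˣ) : ℂ) = 1 := by
    intro k
    have h1 : ‖((θ k : ℂˣ) : ℂ)‖ = 1 := by
      refine Complex.norm_eq_one_of_pow_eq_one (n := Nat.card K) ?_ Nat.card_pos.ne'
      rw [← Units.val_pow_eq_pow_val, ← map_pow, pow_card_eq_one', map_one, Units.val_one]
    rw [Complex.mul_conj, Complex.normSq_eq_norm_sq, h1]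
    norm_num
  have hirr : IsIrrCharacter (Equiv.Perm α) (φ ∘ s) := by
    rw [isIrr_iff_classInner_self (isCharacter_comp s (isIrr_isCharacter hφ))]
    have h1 := (isIrr_iff_classInner_self (isIrr_isCharacter hφ)).1 hφ
    rw [classInner_def, ← Equiv.sum_comp E, Fintype.sum_prod_type] at h1
    have h2 : ∀ k : K, ∑ σ : Equiv.Perm α, φ (E (k, σ)) * conj (φ (E (k, σ))) =
        ∑ σ : Equiv.Perm α, (φ ∘ s) σ * conj ((φ ∘ s) σ) := by
      intro k
      refine Finset.sum_congr rfl fun σ _ => ?_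
      have h3 : φ (E (k, σ)) = (θ k : ℂˣ) * φ (s σ) := hsc k (s σ)
      rw [h3, map_mul]
      calc ((θ k : ℂˣ) : ℂ) * φ (s σ) * (conj ((θ k : ℂˣ) : ℂ) * conj (φ (s σ))) =
          (((θ k : ℂˣ) : ℂ) * conj ((θ k : ℂˣ) : ℂ)) * (φ (s σ) * conj (φ (s σ))) := by ring
        _ = _ := by rw [hnorm, one_mul]; rfl
    rw [Finset.sum_congr rfl fun k _ => h2 k, Finset.sum_const, Finset.card_univ, ← Nat.card_congr E, Nat.card_prod,
      nsmul_eq_mul, ← Nat.card_eq_fintype_card] at h1
    rw [classInner_def, ← h1]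
    have h5 : (Nat.card K : ℂ) ≠ 0 := by exact_mod_cast Nat.card_pos.ne'
    push_cast
    rw [mul_inv]
    field_simp
  have hne : ∀ w, φ w ≠ 0 → (φ ∘ s) (π w) ≠ 0 := by
    intro w hw h1
    apply hw
    have h2 := hsc (E.symm w).1 (s (π w))
    have h3 : ((E.symm w).1 : W) * s (π w) = w := inv_mul_cancel_right w _
    rw [h3] at h2
    rw [h2, show φ (s (π w)) = 0 from h1, mul_zero]
  have h1 : (φ ∘ s) 1 = φ 1 := by rw [Function.comp_apply, map_one]
  rw [← h1]
  rcases Alt.wa_cycleType hn hirr hg hh (hne g g0) (hne h h0) with e | e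
  · rw [e]
  · rw [e, H615.AltConj.sgn, map_one]
    simp

end Comb

end Cfsg.Agent.VAN.C
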